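/-
Project SpF (saturated fusion systems over a Sylow `p`-subgroup of `Sp₄(q)` with a nontrivial normal subgroup): the model
`U K`, the linear groups on `K³`, the passage from `Aut_F(E)` to a linear group, and the statements of the parts.
-/
import Cfsg.Agent.Fus.Heis
import Cfsg.Agent.Fus.FratChain

set_option autoImplicit false

namespace CL.SpF

open Subgroup Cfsg Cfsg.FusionSystem CL.Fus

universe u

/-! ### the group `U K` -/

@[ext] structure U (K : Type) where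
  t : K
  x : K
  y : K
  z : K

section Model
variable {K : Type} [Field K]

instance : Mul (U K) :=
  ⟨fun g h => ⟨g.t + h.t, g.x + h.x, g.y + h.y + g.t * h.x, g.z + h.z + 2 * g.t * h.y + g.t ^ 2 * h.x⟩⟩
instance : One (U K) := ⟨⟨0, 0, 0, 0⟩⟩
instance : Inv (U K) := ⟨fun g => ⟨-g.t, -g.x, -g.y + g.t * g.x, -g.z + 2 * g.t * g.y - g.t ^ 2 * g.x⟩⟩

@[simp] theorem mul_t (g h : U K) : (g * h).t = g.t + h.t := rfl
@[simp] theorem mul_x (g h : U K) : (g * h).x = g.x + h.x := rfl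
@[simp] theorem mul_y (g h : U K) : (g * h).y = g.y + h.y + g.t * h.x := rfl
@[simp] theorem mul_z (g h : U K) : (g * h).z = g.z + h.z + 2 * g.t * h.y + g.t ^ 2 * h.x := rfl
@[simp] theorem one_t : (1 : U K).t = 0 := rfl
@[simp] theorem one_x : (1 : U K).x = 0 := rfl
@[simp] theorem one_y : (1 : U K).y = 0 := rfl
@[simp] theorem one_z : (1 : U K).z = 0 := rfl
@[simp] theorem inv_t (g : U K) : g⁻¹.t = -g.t := rfl
@[simp] theorem inv_x (g : U K) : g⁻¹.x = -g.x := rfl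
@[simp] theorem inv_y (g : U K) : g⁻¹.y = -g.y + g.t * g.x := rfl
@[simp] theorem inv_z (g : U K) : g⁻¹.z = -g.z + 2 * g.t * g.y - g.t ^ 2 * g.x := rfl

instance : Group (U K) := Group.ofLeftAxioms (fun a b c => by ext <;> simp <;> ring) (fun a => by ext <;> simp)
  (fun a => by ext <;> simp <;> ring)

theorem comm_iff {g h : U K} : g * h = h * g ↔
    g.t * h.x = h.t * g.x ∧ 2 * g.t * h.y + g.t ^ 2 * h.x = 2 * h.t * g.y + h.t ^ 2 * g.x := by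
  refine ⟨fun e => ⟨?_, ?_⟩, fun e => ?_⟩
  · have := congrArg U.y e; simp only [mul_y] at this; linear_combination this
  · have := congrArg U.z e; simp only [mul_z] at this; linear_combination this
  · ext <;> simp only [mul_t, mul_x, mul_y, mul_z]
    exacts [add_comm _ _, add_comm _ _, by linear_combination e.1, by linear_combination e.2]

def eqv (K : Type) : U K ≃ K × K × K × K :=
  ⟨fun g => (g.t, g.x, g.y, g.z), fun v => ⟨v.1, v.2.1, v.2.2.1, v.2.2.2⟩, fun _ => rfl, fun _ => rfl⟩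

instance [Finite K] : Finite (U K) := Finite.of_equiv _ (eqv K).symm

omit [Field K] in
theorem card_U : Nat.card (U K) = Nat.card K ^ 4 := by
  rw [Nat.card_congr (eqv K)]; simp only [Nat.card_prod]; ring

theorem pg [Fintype K] (p : ℕ) [Fact p.Prime] [CharP K p] : IsPGroup p (⊤ : Subgroup (U K)) := by
  obtain ⟨n, -, hn⟩ := FiniteField.card K p
  exact IsPGroup.of_card (n := n * 4) (by rw [card_top, card_U, Nat.card_eq_fintype_card, hn, pow_mul])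

/-- `t = 0` -/
def A (K : Type) [Field K] : Subgroup (U K) where
  carrier := {g | g.t = 0}
  mul_mem' := fun {a b} (ha : a.t = 0) (hb : b.t = 0) => show a.t + b.t = 0 by rw [ha, hb, add_zero]
  one_mem' := rfl
  inv_mem' := fun {a} (ha : a.t = 0) => show -a.t = 0 by rw [ha, neg_zero]

/-- `x = c t` -/
def Qc (c : K) : Subgroup (U K) where
  carrier := {g | g.x = c * g.t}
  mul_mem' := fun {a b} (ha : a.x = c * a.t) (hb : b.x = c * b.t) => show a.x + b.x = c * (a.t + b.t) by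
    rw [ha, hb, mul_add]
  one_mem' := (mul_zero c).symm
  inv_mem' := fun {a} (ha : a.x = c * a.t) => show -a.x = c * -a.t by rw [ha, mul_neg]

/-- `t = x = 0` -/
def D (K : Type) [Field K] : Subgroup (U K) where
  carrier := {g | g.t = 0 ∧ g.x = 0}
  mul_mem' := fun {a b} ha hb => ⟨by simp [ha.1, hb.1], by simp [ha.2, hb.2]⟩
  one_mem' := ⟨rfl, rfl⟩
  inv_mem' := fun {a} ha => ⟨by simp [ha.1], by simp [ha.2]⟩

/-- `t = x = y = 0` -/
def Z (K : Type) [Field K] : Subgroup (U K) where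
  carrier := {g | g.t = 0 ∧ g.x = 0 ∧ g.y = 0}
  mul_mem' := fun {a b} ha hb => ⟨by simp [ha.1, hb.1], by simp [ha.2.1, hb.2.1], by simp [ha.1, ha.2.2, hb.2.2]⟩
  one_mem' := ⟨rfl, rfl, rfl⟩
  inv_mem' := fun {a} ha => ⟨by simp [ha.1], by simp [ha.2.1], by simp [ha.1, ha.2.2]⟩

theorem mem_A {g : U K} : g ∈ A K ↔ g.t = 0 := Iff.rfl
theorem mem_Qc {c : K} {g : U K} : g ∈ Qc c ↔ g.x = c * g.t := Iff.rfl
theorem mem_Q0 {g : U K} : g ∈ Qc (0 : K) ↔ g.x = 0 := by rw [mem_Qc, zero_mul]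
theorem mem_D {g : U K} : g ∈ D K ↔ g.t = 0 ∧ g.x = 0 := Iff.rfl
theorem mem_Z {g : U K} : g ∈ Z K ↔ g.t = 0 ∧ g.x = 0 ∧ g.y = 0 := Iff.rfl

theorem D_le_A : D K ≤ A K := fun _ h => h.1
theorem D_le_Qc (c : K) : D K ≤ Qc c := fun _ h => mem_Qc.2 (by rw [h.1, h.2, mul_zero])
theorem Z_le_D : Z K ≤ D K := fun _ h => ⟨h.1, h.2.1⟩

/-- a subgroup containing `D` is normal -/
theorem norm_of_le {E : Subgroup (U K)} (h : D K ≤ E) (a : U K) : a ∈ normalizer (E : Set (U K)) := by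
  have k : ∀ b g : U K, g ∈ E → b * g * b⁻¹ ∈ E := fun b g hg => by
    have : b * g * b⁻¹ * g⁻¹ ∈ E := h ⟨by simp, by simp⟩
    simpa using E.mul_mem this hg
  exact mem_normalizer_iff.2 fun g => ⟨k a g, fun hg => by simpa [mul_assoc] using k a⁻¹ _ hg⟩

/-- the central element with last coordinate `z` -/
def e (z : K) : U K := ⟨0, 0, 0, z⟩

@[simp] theorem e_t (z : K) : (e z).t = 0 := rfl
@[simp] theorem e_x (z : K) : (e z).x = 0 := rfl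
@[simp] theorem e_y (z : K) : (e z).y = 0 := rfl
@[simp] theorem e_z (z : K) : (e z).z = z := rfl
theorem e_add (z w : K) : e (z + w) = e z * e w := by ext <;> simp
theorem e_comm (z : K) (g : U K) : e z * g = g * e z := comm_iff.2 (by simp)
theorem mem_Z' {g : U K} : g ∈ Z K ↔ ∃ z, e z = g :=
  ⟨fun h => ⟨g.z, by ext <;> simp [h.1, h.2.1, h.2.2]⟩, fun ⟨_, h⟩ => h ▸ ⟨rfl, rfl, rfl⟩⟩

/-- the diagonal endomorphisms -/
def d (a b : K) : U K →* U K :=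
  MonoidHom.mk' (fun g => ⟨a * g.t, b * g.x, a * b * g.y, a ^ 2 * b * g.z⟩) fun g h => by ext <;> simp <;> ring

@[simp] theorem d_t (a b : K) (g : U K) : (d a b g).t = a * g.t := rfl
@[simp] theorem d_x (a b : K) (g : U K) : (d a b g).x = b * g.x := rfl
@[simp] theorem d_y (a b : K) (g : U K) : (d a b g).y = a * b * g.y := rfl
@[simp] theorem d_z (a b : K) (g : U K) : (d a b g).z = a ^ 2 * b * g.z := rfl

end Model

/-! ### additive automorphisms -/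

abbrev Au (V : Type) [AddCommGroup V] := V ≃ₗ[ℤ] V
abbrev V2 (K : Type) := K × K
abbrev V3 (K : Type) := K × K × K

section Aut
variable {V : Type} [AddCommGroup V]

instance [Finite V] : Finite (Au V) := Finite.of_injective (fun g : Au V => (g : V → V)) DFunLike.coe_injective

theorem au_mul (g h : Au V) (v : V) : (g * h) v = g (h v) := rfl
theorem au_one (v : V) : (1 : Au V) v = v := rfl
theorem au_inv_apply (g : Au V) (v : V) : g⁻¹ (g v) = v := g.symm_apply_apply v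
theorem au_apply_inv (g : Au V) (v : V) : g (g⁻¹ v) = v := g.apply_symm_apply v
theorem au_ext {g h : Au V} (k : ∀ v, g v = h v) : g = h := LinearEquiv.ext k

/-- an additive map with a two-sided inverse -/
def mkAu (f g : V → V) (add : ∀ v w, f (v + w) = f v + f w) (l : ∀ v, g (f v) = v) (r : ∀ v, f (g v) = v) : Au V :=
  (AddEquiv.mk ⟨f, g, l, r⟩ add).toIntLinearEquiv

@[simp] theorem mkAu_apply (f g : V → V) (add : ∀ v w, f (v + w) = f v + f w) (l : ∀ v, g (f v) = v)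
    (r : ∀ v, f (g v) = v) (v : V) : mkAu f g add l r v = f v := rfl

theorem exists_au [Finite V] (f : V → V) (add : ∀ v w, f (v + w) = f v + f w) (inj : Function.Injective f) :
    ∃ g : Au V, ∀ v, g v = f v :=
  ⟨(AddEquiv.mk (Equiv.ofBijective f (Finite.injective_iff_bijective.1 inj)) add).toIntLinearEquiv, fun _ => rfl⟩

/-- the subgroup `L` acts on `V` through `ρ` -/
structure Act {G : Type} [Group G] (L : Subgroup G) (ρ : G → V → V) : Prop where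
  add : ∀ g ∈ L, ∀ v w, ρ g (v + w) = ρ g v + ρ g w
  mul : ∀ g ∈ L, ∀ h ∈ L, ∀ v, ρ (g * h) v = ρ g (ρ h v)
  one : ∀ v, ρ 1 v = v

/-- the homomorphism given by an action -/
theorem Act.exists_hom {G : Type} [Group G] {L : Subgroup G} {ρ : G → V → V} (h : Act L ρ) :
    ∃ φ : L →* Au V, ∀ g v, φ g v = ρ g v :=
  ⟨MonoidHom.mk' (fun g => mkAu (ρ g) (ρ (g : G)⁻¹) (h.add g g.2)
    (fun v => by rw [← h.mul _ (L.inv_mem g.2) _ g.2, inv_mul_cancel, h.one])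
    (fun v => by rw [← h.mul _ g.2 _ (L.inv_mem g.2), mul_inv_cancel, h.one]))
    fun g k => au_ext fun v => h.mul g g.2 k k.2 v, fun _ _ => rfl⟩

theorem act_au (L : Subgroup (Au V)) : Act L fun g v => g v := ⟨fun g _ => g.map_add, fun _ _ _ _ _ => rfl, fun _ => rfl⟩

/-- an injective map of a finite type keeping a set maps it onto itself -/
theorem inv_mem_of [Finite V] {g : Au V} {W : Set V} (h : ∀ v ∈ W, g v ∈ W) {v : V} (hv : v ∈ W) : g⁻¹ v ∈ W := by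
  obtain ⟨w, hw, rfl⟩ := ((Set.toFinite W).injOn_iff_bijOn_of_mapsTo h).1 g.injective.injOn |>.surjOn hv
  rwa [au_inv_apply]

end Aut

section Lin
variable {K : Type} [Field K]

/-- `g` keeps `D = {v.1 = 0}` -/
def PD (g : Au (V3 K)) : Prop := ∀ y z, (g (0, y, z)).1 = 0

/-- `g` keeps `Z = {v.1 = v.2.1 = 0}` -/
def PZ (g : Au (V3 K)) : Prop := ∀ z, ∃ w, g (0, 0, z) = (0, 0, w)

theorem PD.ex {g : Au (V3 K)} (h : PD g) (y z : K) : ∃ y' z', g (0, y, z) = (0, y', z') :=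
  ⟨_, _, Prod.ext (h y z) rfl⟩
theorem PD.mul {g h : Au (V3 K)} (hg : PD g) (hh : PD h) : PD (g * h) := fun y z => by
  obtain ⟨y', z', k⟩ := hh.ex y z
  rw [au_mul, k, hg]
theorem PD.inv [Finite K] {g : Au (V3 K)} (hg : PD g) : PD g⁻¹ := fun _ _ =>
  inv_mem_of (W := {v : V3 K | v.1 = 0}) (fun v hv => by obtain ⟨_, y, z⟩ := v; cases hv; exact hg y z) rfl
theorem PZ.mul {g h : Au (V3 K)} (hg : PZ g) (hh : PZ h) : PZ (g * h) := fun z => by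
  obtain ⟨w, k⟩ := hh z
  rw [au_mul, k]; exact hg w
theorem PZ.inv [Finite K] {g : Au (V3 K)} (hg : PZ g) : PZ g⁻¹ := fun z => by
  obtain ⟨w, k⟩ := inv_mem_of (g := g) (W := {v | ∃ w, v = (0, 0, w)}) (by rintro _ ⟨w, rfl⟩; exact hg w) ⟨z, rfl⟩
  exact ⟨w, k⟩

/-- the stabilisers of `D` and of `Z` -/
def SD (K : Type) [Field K] [Finite K] : Subgroup (Au (V3 K)) :=
  ⟨⟨⟨{g | PD g}, PD.mul⟩, fun _ _ => rfl⟩, PD.inv⟩
def SZ (K : Type) [Field K] [Finite K] : Subgroup (Au (V3 K)) :=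
  ⟨⟨⟨{g | PZ g}, PZ.mul⟩, fun z => ⟨z, rfl⟩⟩, PZ.inv⟩
theorem mem_SD [Finite K] {g : Au (V3 K)} : g ∈ SD K ↔ PD g := Iff.rfl
theorem mem_SZ [Finite K] {g : Au (V3 K)} : g ∈ SZ K ↔ PZ g := Iff.rfl

/-- the stabiliser of the chain `V > D > Z > 0` -/
def St (K : Type) [Field K] : Subgroup (Au (V3 K)) where
  carrier := {g | (∀ v, (g v).1 = v.1) ∧ (∀ y z, (g (0, y, z)).2.1 = y) ∧ ∀ z, g (0, 0, z) = (0, 0, z)}
  mul_mem' := fun {g h} hg hh => ⟨fun v => by rw [au_mul, hg.1, hh.1], fun y z => by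
    rw [au_mul, show h (0, y, z) = (0, y, (h (0, y, z)).2.2) from Prod.ext (hh.1 _) (Prod.ext (hh.2.1 y z) rfl),
      hg.2.1], fun z => by rw [au_mul, hh.2.2, hg.2.2]⟩
  one_mem' := ⟨fun _ => rfl, fun _ _ => rfl, fun _ => rfl⟩
  inv_mem' := fun {g} hg => by
    have h1 : ∀ v, (g⁻¹ v).1 = v.1 := fun v => by rw [← hg.1, au_apply_inv]
    refine ⟨h1, fun y z => ?_, fun z => by rw [← hg.2.2, au_inv_apply, hg.2.2]⟩
    have := hg.2.1 (g⁻¹ (0, y, z)).2.1 (g⁻¹ (0, y, z)).2.2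
    rw [show ((0 : K), (g⁻¹ (0, y, z)).2.1, (g⁻¹ (0, y, z)).2.2) = g⁻¹ (0, y, z) from Prod.ext (h1 (0, y, z)).symm rfl,
      au_apply_inv] at this
    exact this.symm

theorem mem_St {g : Au (V3 K)} : g ∈ St K ↔
    (∀ v, (g v).1 = v.1) ∧ (∀ y z, (g (0, y, z)).2.1 = y) ∧ ∀ z, g (0, 0, z) = (0, 0, z) := Iff.rfl

theorem pow_apply {V : Type} [AddCommGroup V] {g : Au V} {v a b : V} (h1 : g v = v + a) (h2 : g a = a + b)
    (h3 : g b = b) (n : ℕ) : (g ^ n) v = v + n • a + n.choose 2 • b := by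
  induction n with
  | zero => simp
  | succ n ih =>
    rw [pow_succ', au_mul, ih, map_add, map_add, map_nsmul, map_nsmul, h1, h2, h3, Nat.choose_succ_succ' n 1,
      Nat.choose_one_right]
    module

theorem pg_St (p : ℕ) [Fact p.Prime] [CharP K p] : IsPGroup p (St K) := by
  rintro ⟨g, hg⟩
  refine ⟨2, Subtype.ext (au_ext fun v => ?_)⟩
  have z : ∀ w : V3 K, p • w = 0 := fun w => by rw [← Nat.cast_smul_eq_nsmul K, CharP.cast_eq_zero, zero_smul]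
  obtain ⟨y, z1, e1⟩ : ∃ y z, g v = v + (0, y, z) := ⟨(g v - v).2.1, (g v - v).2.2, by ext <;> simp [hg.1]⟩
  obtain ⟨w, e2⟩ : ∃ w, g (0, y, z1) = (0, y, z1) + (0, 0, w) :=
    ⟨(g (0, y, z1)).2.2 - z1, by ext <;> simp [hg.1, hg.2.1]⟩
  have k := pow_apply e1 e2 (hg.2.2 w) p
  rw [z, add_zero] at k
  have k2 : (g ^ p) (p.choose 2 • ((0 : K), (0 : K), w)) = p.choose 2 • ((0 : K), (0 : K), w) + 0 := by
    rw [map_nsmul, ((St K).pow_mem hg p).2.2, add_zero]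
  show (g ^ p ^ 2) v = v
  rw [sq, pow_mul, pow_apply k k2 (map_zero _), z, smul_zero, add_zero, add_zero]

theorem St_conj [Finite K] {g t : Au (V3 K)} (h1 : PD g) (h2 : PZ g) (ht : t ∈ St K) : g * t * g⁻¹ ∈ St K := by
  refine ⟨fun v => ?_, fun y z => ?_, fun z => ?_⟩
  · obtain ⟨y, z, k⟩ : ∃ y z, t (g⁻¹ v) = g⁻¹ v + (0, y, z) :=
      ⟨(t (g⁻¹ v) - g⁻¹ v).2.1, (t (g⁻¹ v) - g⁻¹ v).2.2, by ext <;> simp [ht.1]⟩
    rw [au_mul, au_mul, k, map_add, au_apply_inv, Prod.fst_add, h1, add_zero]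
  · obtain ⟨y', z', k⟩ := h1.inv.ex y z
    obtain ⟨w, k'⟩ : ∃ w, t (0, y', z') = (0, y', z') + (0, 0, w) :=
      ⟨(t (0, y', z')).2.2 - z', by ext <;> simp [ht.1, ht.2.1]⟩
    obtain ⟨w', k2⟩ := h2 w
    rw [au_mul, au_mul, k, k', map_add, ← k, au_apply_inv, k2]; simp
  · obtain ⟨w, k⟩ := h2.inv z
    rw [au_mul, au_mul, k, ht.2.2, ← k, au_apply_inv]

variable {p : ℕ} [Fact p.Prime] {L T : Subgroup (Au (V3 K))}

/-- the chain stabiliser in `L` is the Sylow subgroup `T` -/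
theorem mem_of_St [CharP K p] (h : SylIn p T L) (hT : T ≤ St K) {g : Au (V3 K)} (hg : g ∈ L) (k : g ∈ St K) : g ∈ T := by
  rw [← h.eq_of_le ((pg_St p).to_le inf_le_right) (le_inf h.le hT) inf_le_left]; exact ⟨hg, k⟩

/-- an element of `L` keeping `D` and `Z` normalises `T` -/
theorem conj_mem [Finite K] [CharP K p] (h : SylIn p T L) (hT : T ≤ St K) {g t : Au (V3 K)} (hg : g ∈ L) (h1 : PD g)
    (h2 : PZ g) (ht : t ∈ T) : g * t * g⁻¹ ∈ T :=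
  mem_of_St h hT (L.mul_mem (L.mul_mem hg (h.le ht)) (L.inv_mem hg)) (St_conj h1 h2 (hT ht))

/-- conjugation of `A` by an element with first coordinate `t` -/
def Mt (t : K) : Au (V3 K) := mkAu (fun v => (v.1, v.2.1 + t * v.1, v.2.2 + 2 * t * v.2.1 + t ^ 2 * v.1))
  (fun v => (v.1, v.2.1 - t * v.1, v.2.2 - 2 * t * v.2.1 + t ^ 2 * v.1)) (fun v w => by ext <;> simp <;> ring)
  (fun v => by ext <;> simp <;> ring) (fun v => by ext <;> simp <;> ring)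

theorem Mt_apply (t : K) (v : V3 K) : Mt t v = (v.1, v.2.1 + t * v.1, v.2.2 + 2 * t * v.2.1 + t ^ 2 * v.1) := rfl
theorem Mt_add (s t : K) : Mt (s + t) = Mt s * Mt t := au_ext fun v => by ext <;> simp [au_mul, Mt_apply] <;> ring
theorem Mt_zero : Mt (0 : K) = 1 := au_ext fun v => by ext <;> simp [Mt_apply]
theorem Mt_neg (t : K) : Mt (-t) = (Mt t)⁻¹ := eq_inv_of_mul_eq_one_left (by rw [← Mt_add, neg_add_cancel, Mt_zero])
theorem Mt_inj {s t : K} (h : Mt s = Mt t) : s = t := by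
  simpa [Mt_apply] using congrArg (fun g : Au (V3 K) => (g (1, 0, 0)).2.1) h

def TM (K : Type) [Field K] : Subgroup (Au (V3 K)) where
  carrier := {g | ∃ t, Mt t = g}
  mul_mem' := by rintro _ _ ⟨s, rfl⟩ ⟨t, rfl⟩; exact ⟨_, Mt_add s t⟩
  one_mem' := ⟨_, Mt_zero⟩
  inv_mem' := by rintro _ ⟨s, rfl⟩; exact ⟨_, Mt_neg s⟩

theorem mem_TM {g : Au (V3 K)} : g ∈ TM K ↔ ∃ t, Mt t = g := Iff.rfl
theorem TM_le : TM K ≤ St K := by
  rintro _ ⟨t, rfl⟩; exact ⟨fun _ => rfl, fun y z => by simp [Mt_apply], fun z => by simp [Mt_apply]⟩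

/-- `diag (l², l, 1)` -/
def dg (l : Kˣ) : Au (V3 K) := mkAu (fun v => ((l : K) ^ 2 * v.1, l * v.2.1, v.2.2))
  (fun v => (((l : K)⁻¹) ^ 2 * v.1, (l : K)⁻¹ * v.2.1, v.2.2)) (fun v w => by ext <;> simp <;> ring)
  (fun v => by ext <;> simp) (fun v => by ext <;> simp)

theorem dg_apply (l : Kˣ) (v : V3 K) : dg l v = ((l : K) ^ 2 * v.1, l * v.2.1, v.2.2) := rfl
theorem dg_mul (l m : Kˣ) : dg (l * m) = dg l * dg m := au_ext fun v => by ext <;> simp [au_mul, dg_apply] <;> ring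
theorem dg_one : dg (1 : Kˣ) = 1 := au_ext fun v => by ext <;> simp [dg_apply]

/-- a field automorphism in all coordinates -/
def fr (τ : K ≃+* K) : Au (V3 K) := mkAu (fun v => (τ v.1, τ v.2.1, τ v.2.2))
  (fun v => (τ.symm v.1, τ.symm v.2.1, τ.symm v.2.2)) (fun v w => by ext <;> simp) (fun v => by ext <;> simp)
  (fun v => by ext <;> simp)

theorem fr_apply (τ : K ≃+* K) (v : V3 K) : fr τ v = (τ v.1, τ v.2.1, τ v.2.2) := rfl

/-- the shear `(u, y, z) ↦ (u, y + f u, z + f' u)` -/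
def sh (f f' : K →+ K) : Au (V3 K) := mkAu (fun v => (v.1, v.2.1 + f v.1, v.2.2 + f' v.1))
  (fun v => (v.1, v.2.1 - f v.1, v.2.2 - f' v.1)) (fun v w => by ext <;> simp <;> ring) (fun v => by ext <;> simp)
  (fun v => by ext <;> simp)

theorem sh_apply (f f' : K →+ K) (v : V3 K) : sh f f' v = (v.1, v.2.1 + f v.1, v.2.2 + f' v.1) := rfl
theorem sh_inv_apply (f f' : K →+ K) (v : V3 K) : (sh f f')⁻¹ v = (v.1, v.2.1 - f v.1, v.2.2 - f' v.1) := rfl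

/-- an isotopy of the multiplication of a finite field comes from a field automorphism -/
theorem isotopy [Finite K] (α β : K → K) (γ : K →+ K) (hγ : Function.Injective γ) (h : ∀ x y, γ (x * y) = α x * β y) :
    α 1 ≠ 0 ∧ β 1 ≠ 0 ∧ ∃ τ : K ≃+* K, (∀ x, α x = α 1 * τ x) ∧ (∀ x, β x = β 1 * τ x) ∧ ∀ x, γ x = α 1 * β 1 * τ x := by
  have h1 : α 1 * β 1 ≠ 0 := by rw [← h, mul_one]; exact fun k => one_ne_zero (hγ (k.trans γ.map_zero.symm))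
  obtain ⟨a, b⟩ := mul_ne_zero_iff.1 h1
  have ha : ∀ x, α x = γ x / β 1 := fun x => by rw [eq_div_iff b, ← h, mul_one]
  have hb : ∀ x, β x = γ x / α 1 := fun x => by rw [eq_div_iff a, mul_comm, ← h, one_mul]
  let φ : K →+* K :=
    { toFun := fun x => γ x / (α 1 * β 1), map_one' := by rw [div_eq_one_iff_eq h1, ← h, mul_one]
      map_mul' := fun x y => by rw [h, ha x, hb y]; field_simp
      map_zero' := by rw [map_zero, zero_div], map_add' := fun x y => by rw [map_add, add_div] }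
  refine ⟨a, b, RingEquiv.ofBijective φ (Finite.injective_iff_bijective.1 φ.injective), fun x => ?_, fun x => ?_,
    fun x => ?_⟩
  · show α x = α 1 * (γ x / (α 1 * β 1)); rw [ha x]; field_simp
  · show β x = β 1 * (γ x / (α 1 * β 1)); rw [hb x]; field_simp
  · show γ x = α 1 * β 1 * (γ x / (α 1 * β 1)); field_simp

/-! characteristic two -/

def bt : Bool → K → K → K
  | true, s, u => s ^ 2 * u
  | false, s, u => s * u ^ 2

variable [CharP K 2]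

theorem bt_add (b : Bool) (s u v : K) : bt b s (u + v) = bt b s u + bt b s v := by
  cases b <;> simp only [bt, CharTwo.add_sq] <;> ring
theorem add_bt (b : Bool) (s s' u : K) : bt b (s + s') u = bt b s u + bt b s' u := by
  cases b <;> simp only [bt, CharTwo.add_sq] <;> ring
omit [CharP K 2] in
theorem bt_zero (b : Bool) (s : K) : bt b s 0 = 0 := by cases b <;> simp [bt]
omit [CharP K 2] in
theorem zero_bt (b : Bool) (u : K) : bt b 0 u = 0 := by cases b <;> simp [bt]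

/-- conjugation of `A` (`b = true`) or `Q₀` (`b = false`) -/
def Tb (b : Bool) (s : K) : Au (V3 K) := mkAu (fun v => (v.1, v.2.1 + s * v.1, v.2.2 + bt b s v.1))
  (fun v => (v.1, v.2.1 - s * v.1, v.2.2 - bt b s v.1)) (fun v w => by ext <;> simp [bt_add] <;> ring)
  (fun v => by ext <;> simp) (fun v => by ext <;> simp)

/-- the opposite root elements -/
def ms (b : Bool) (m : K) : Au (V3 K) := mkAu (fun v => (v.1 + m * v.2.1, v.2.1, v.2.2 + bt b m v.2.1))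
  (fun v => (v.1 - m * v.2.1, v.2.1, v.2.2 - bt b m v.2.1)) (fun v w => by ext <;> simp [bt_add] <;> ring)
  (fun v => by ext <;> simp) (fun v => by ext <;> simp)

theorem Tb_apply (b : Bool) (s : K) (v : V3 K) : Tb b s v = (v.1, v.2.1 + s * v.1, v.2.2 + bt b s v.1) := rfl
theorem ms_apply (b : Bool) (m : K) (v : V3 K) : ms b m v = (v.1 + m * v.2.1, v.2.1, v.2.2 + bt b m v.2.1) := rfl
theorem Tb_add (b : Bool) (s t : K) : Tb b (s + t) = Tb b s * Tb b t :=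
  au_ext fun v => by ext <;> simp [au_mul, Tb_apply, add_bt] <;> ring
theorem Tb_zero (b : Bool) : Tb b (0 : K) = 1 := au_ext fun v => by ext <;> simp [Tb_apply, zero_bt]
theorem Tb_inv (b : Bool) (s : K) : (Tb b s)⁻¹ = Tb b s :=
  inv_eq_of_mul_eq_one_left (by rw [← Tb_add, CharTwo.add_self_eq_zero, Tb_zero])

def TB (K : Type) [Field K] [CharP K 2] (b : Bool) : Subgroup (Au (V3 K)) where
  carrier := {g | ∃ s, Tb b s = g}
  mul_mem' := by rintro _ _ ⟨s, rfl⟩ ⟨t, rfl⟩; exact ⟨_, Tb_add b s t⟩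
  one_mem' := ⟨_, Tb_zero b⟩
  inv_mem' := by rintro _ ⟨s, rfl⟩; exact ⟨_, (Tb_inv b s).symm⟩

theorem mem_TB {b : Bool} {g : Au (V3 K)} : g ∈ TB K b ↔ ∃ s, Tb b s = g := Iff.rfl
theorem TB_le (b : Bool) : TB K b ≤ St K := by
  rintro _ ⟨t, rfl⟩; exact ⟨fun _ => rfl, fun y z => by simp [Tb_apply], fun z => by simp [Tb_apply, bt_zero]⟩

end Lin

/-! ### fusion systems on `U K` -/

abbrev FS (K : Type) [Field K] := FusionSystem (⊤ : Subgroup (U K))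

section Fus
variable {K : Type} [Field K] {p : ℕ} {F : FS K} {E : Subgroup (U K)} {ι : V3 K → U K} {f σ : U K → U K}

/-- an automorphism of `F` at `U K` is a group automorphism -/
theorem exists_aut [Finite K] (h : Mor F ⊤ σ) : ∃ α : U K ≃* U K, ∀ g, α g = σ g :=
  ⟨MulEquiv.ofBijective (MonoidHom.mk' σ fun a b => h.homOn a trivial b trivial)
    (Finite.injective_iff_bijective.1 fun _ _ k => h.injOn trivial trivial k), fun _ => rfl⟩

/-- an iterate of exponent prime to `p` is inner -/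
theorem exists_iter [Fintype K] [Fact p.Prime] [CharP K p] (hF : F.IsSaturated p) (h : Mor F ⊤ σ) :
    ∃ m, ¬ p ∣ m ∧ ∃ s, ∀ g, σ^[m] g = s * g * s⁻¹ := by
  obtain ⟨α, hα, eα⟩ := h.exists_aut' le_rfl fun _ _ => trivial
  have := finite_mulAut (le_refl (⊤ : Subgroup (U K)))
  have k := (sylIn_Inn_top (pg p) hF).not_dvd_relIndex
  have : ((Inn (⊤ : Subgroup (U K))).subgroupOf (F.autGroup ⊤)).Normal := inferInstance
  obtain ⟨s, -, hs⟩ := mem_Inn_iff.1 (show α ^ (Inn (⊤ : Subgroup (U K))).relIndex (F.autGroup ⊤) ∈ Inn (⊤ : Subgroup (U K)) from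
    Subgroup.pow_index_mem ((Inn (⊤ : Subgroup (U K))).subgroupOf (F.autGroup ⊤)) ⟨α, hα⟩)
  refine ⟨_, k, s, fun g => ?_⟩
  rw [← hs g trivial]
  generalize (Inn (⊤ : Subgroup (U K))).relIndex (F.autGroup ⊤) = m
  induction m with
  | zero => rw [pow_zero, autFun_one (mem_top g)]; rfl
  | succ m ih => rw [Function.iterate_succ_apply', ih, pow_succ', autFun_mul _ _ (mem_top g), eα _ trivial]

/-- the system carried along an automorphism -/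
def tr (w : U K ≃* U K) (F : FS K) : FS K :=
  GIso.transport (S := ⊤) (θ := w) (η := w.symm) ⟨fun a _ b _ => w.map_mul a b, fun _ _ => trivial, fun _ _ => trivial,
    fun a _ => w.symm_apply_apply a, fun a _ => w.apply_symm_apply a⟩ F

theorem fIso_tr (w : U K ≃* U K) (F : FS K) : FIso F (tr w F) w w.symm := GIso.fIso_transport _ F

theorem img_eq (w : U K ≃* U K) {P Q : Subgroup (U K)} (h : ∀ g, w g ∈ Q ↔ g ∈ P) : img w P = Q :=
  le_antisymm (img_le_iff.2 fun g hg => (h g).2 hg) fun g hg => by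
    rw [← w.apply_symm_apply g] at hg ⊢; exact mem_img_of_mem _ ((h _).1 hg)

theorem mor_tr (w : U K ≃* U K) {P Q : Subgroup (U K)} (h : ∀ g, w g ∈ Q ↔ g ∈ P) :
    Mor (tr w F) Q f ↔ Mor F P fun g => w.symm (f (w g)) := by
  rw [← img_eq w.symm (P := Q) (Q := P) fun g => by rw [← h, w.apply_symm_apply]]
  exact ⟨(fIso_tr w F).mor' _ _, fun k => (GIso.mor_transport _).2 ⟨le_top, fun _ _ => trivial, k⟩⟩

theorem mor_tr' (w : U K ≃* U K) {Q : Subgroup (U K)} :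
    Mor (tr w F) Q f ↔ Mor F (Q.comap w.toMonoidHom) fun g => w.symm (f (w g)) := mor_tr w fun _ => Iff.rfl

theorem sat_tr (w : U K ≃* U K) (h : F.IsSaturated p) : (tr w F).IsSaturated p := (fIso_tr w F).isSaturated h

theorem real_of_tr [Finite K] [Fact p.Prime] (w : U K ≃* U K) (h : (tr w F).IsRealizable p) : F.IsRealizable p :=
  (fIso_tr w F).symm.isRealizable h

theorem real_tr [Finite K] [Fact p.Prime] (w : U K ≃* U K) (h : F.IsRealizable p) : (tr w F).IsRealizable p :=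
  (fIso_tr w F).isRealizable h

/-- coordinates on an abelian subgroup -/
structure Crd (E : Subgroup (U K)) (ι : V3 K → U K) : Prop where
  add : ∀ v w, ι (v + w) = ι v * ι w
  inj : Function.Injective ι
  mem : ∀ g, g ∈ E ↔ ∃ v, ι v = g

/-- `Aut_F(E)` in coordinates -/
def LL (F : FS K) (h : Crd E ι) : Subgroup (Au (V3 K)) where
  carrier := {g | ∃ f, Mor F E f ∧ ∀ v, f (ι v) = ι (g v)}
  mul_mem' := by
    rintro a b ⟨f, hf, ef⟩ ⟨g, hg, eg⟩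
    refine ⟨_, hg.comp hf fun x hx => ?_, fun v => by rw [eg, ef]; rfl⟩
    obtain ⟨v, rfl⟩ := (h.mem x).1 hx
    exact (h.mem _).2 ⟨_, (eg v).symm⟩
  one_mem' := ⟨_, mor_id F le_top, fun _ => rfl⟩
  inv_mem' := by
    rintro a ⟨f, hf, ef⟩
    obtain ⟨g, hg, l, -, -⟩ := hf.exists_inv' (Q := E) (le_antisymm (img_le_iff.2 fun x hx => by
      obtain ⟨v, rfl⟩ := (h.mem x).1 hx
      exact (h.mem _).2 ⟨_, (ef v).symm⟩) fun x hx => by
      obtain ⟨v, rfl⟩ := (h.mem x).1 hx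
      rw [← au_apply_inv a v, ← ef]; exact mem_img_of_mem _ ((h.mem _).2 ⟨_, rfl⟩))
    exact ⟨g, hg, fun v => by rw [← l _ ((h.mem _).2 ⟨a⁻¹ v, rfl⟩), ef, au_apply_inv]⟩

/-- `Aut_S(E)` in coordinates -/
def TS (h : Crd E ι) : Subgroup (Au (V3 K)) := LL (innerFusionSystem ⊤) h

theorem mem_LL {h : Crd E ι} {g : Au (V3 K)} : g ∈ LL F h ↔ ∃ f, Mor F E f ∧ ∀ v, f (ι v) = ι (g v) := Iff.rfl

theorem mem_TS {h : Crd E ι} {g : Au (V3 K)} : g ∈ TS h ↔ ∃ s, ∀ v, s * ι v * s⁻¹ = ι (g v) :=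
  ⟨fun ⟨_, hf, ef⟩ => by
    obtain ⟨-, s, -, hs⟩ := mor_inner_iff.1 hf
    exact ⟨s, fun v => by rw [← hs _ ((h.mem _).2 ⟨v, rfl⟩), ef]⟩,
    fun ⟨s, hs⟩ => ⟨_, mor_conj _ le_top (mem_top s), hs⟩⟩

theorem Crd.exists_LL [Finite K] (h : Crd E ι) (hf : Mor F E f) (k : ∀ g ∈ E, f g ∈ E) :
    ∃ g ∈ LL F h, ∀ v, f (ι v) = ι (g v) := by
  have m : ∀ v, ι v ∈ E := fun v => (h.mem _).2 ⟨v, rfl⟩
  choose φ hφ using fun v => (h.mem _).1 (k _ (m v))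
  obtain ⟨g, hg⟩ := exists_au φ (fun v w => h.inj (by rw [h.add, hφ, hφ, hφ, h.add, hf.homOn _ (m v) _ (m w)]))
    fun v w e => h.inj (hf.injOn (m v) (m w) (by rw [← hφ, ← hφ, e]))
  exact ⟨g, ⟨f, hf, fun v => by rw [hg, hφ]⟩, fun v => by rw [hg, hφ]⟩

theorem Crd.exists_hom (h : Crd E ι) :
    ∃ Φ : Au (V3 K) →* MulAut E, Function.Injective Φ ∧ ∀ g v, autFun (Φ g) (ι v) = ι (g v) := by
  have m : ∀ v, ι v ∈ E := fun v => (h.mem _).2 ⟨v, rfl⟩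
  choose pr hpr using fun x : E => (h.mem x).1 x.2
  have e1 : ∀ v, pr ⟨ι v, m v⟩ = v := fun v => h.inj (hpr _)
  refine ⟨MonoidHom.mk' (fun g => ⟨⟨fun x => ⟨ι (g (pr x)), m _⟩, fun x => ⟨ι (g⁻¹ (pr x)), m _⟩,
    fun x => Subtype.ext (by simp only [e1, au_inv_apply, hpr]),
    fun x => Subtype.ext (by simp only [e1, au_apply_inv, hpr])⟩, fun x y => Subtype.ext ?_⟩)
    fun g k => MulEquiv.ext fun x => Subtype.ext ?_, fun g k e => au_ext fun v => ?_, fun g v => ?_⟩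
  · show ι (g (pr (x * y))) = ι (g (pr x)) * ι (g (pr y))
    rw [← h.add, ← map_add, show pr (x * y) = pr x + pr y from h.inj (by rw [h.add, hpr, hpr, hpr]; rfl)]
  · show ι (g (k (pr x))) = ι (g (pr ⟨ι (k (pr x)), m _⟩))
    rw [e1]
  · have : ι (g (pr ⟨ι v, m v⟩)) = ι (k (pr ⟨ι v, m v⟩)) := congrArg (fun α : MulAut E => (α ⟨ι v, m v⟩ : U K)) e
    rw [e1] at this; exact h.inj this
  · rw [autFun_apply _ (m v)]
    show ι (g (pr ⟨ι v, m v⟩)) = _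
    rw [e1]

theorem Crd.map_LL [Finite K] (h : Crd E ι) {Φ : Au (V3 K) →* MulAut E} (e : ∀ g v, autFun (Φ g) (ι v) = ι (g v))
    (F : FS K) : (LL F h).map Φ = F.autGroup E := by
  ext α
  rw [mem_autGroup_iff le_top]
  refine ⟨?_, fun hα => ?_⟩
  · rintro ⟨g, ⟨f, hf, ef⟩, rfl⟩
    refine hf.congr fun x hx => ?_
    obtain ⟨v, rfl⟩ := (h.mem x).1 hx
    rw [ef, e]
  · obtain ⟨g, hg, eg⟩ := h.exists_LL hα fun x hx => autFun_mem α hx
    refine ⟨g, hg, aut_ext fun x hx => ?_⟩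
    obtain ⟨v, rfl⟩ := (h.mem x).1 hx
    rw [eg, e]

theorem Crd.syl [Fintype K] [Fact p.Prime] [CharP K p] (h : Crd E ι) (hF : F.IsSaturated p) (hD : D K ≤ E) :
    SylIn p (TS h) (LL F h) := by
  obtain ⟨Φ, inj, e⟩ := h.exists_hom
  rw [← sylIn_map_iff_of_injective inj, h.map_LL e, TS, h.map_LL e]
  convert sylIn_of_fullyNormalized (pg p) hF
    (isFullyNormalized_of_normalizerIn_eq F le_top fun a _ => norm_of_le hD a) using 1
  ext α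
  rw [mem_autGroup_iff le_top, mor_inner_iff, mem_autInducedBy]
  exact and_iff_right le_top

/-- an element normalising `Aut_S(E)` extends to `S` -/
theorem Crd.extend [Fintype K] [Fact p.Prime] [CharP K p] (h : Crd E ι) (hF : F.IsSaturated p) (hD : D K ≤ E)
    {g : Au (V3 K)} (hg : g ∈ LL F h) (k : ∀ t ∈ TS h, g * t * g⁻¹ ∈ TS h) :
    ∃ σ, Mor F ⊤ σ ∧ ∀ v, σ (ι v) = ι (g v) := by
  obtain ⟨f, hf, ef⟩ := hg
  have hE : ∀ x ∈ E, f x ∈ E := fun x hx => by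
    obtain ⟨v, rfl⟩ := (h.mem x).1 hx
    exact (h.mem _).2 ⟨_, (ef v).symm⟩
  obtain ⟨σ, hσ, eσ⟩ := hf.extend' (R := ⊤) (receptive_of_fullyNormalized (pg p) hF
    (isFullyNormalized_of_normalizerIn_eq F le_top fun a _ => norm_of_le hD a)) (hf.img_eq_self le_rfl hE) fun a _ => by
      obtain ⟨t, -, et⟩ := h.exists_LL (mor_conj F le_top (mem_top a)) fun x hx =>
        conj_mem_of_mem_normalizer (norm_of_le hD a) hx
      obtain ⟨b, hb⟩ := mem_TS.1 (k t (mem_TS.2 ⟨a, et⟩))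
      refine ⟨trivial, norm_of_le hD a, b, trivial, fun x hx => ?_⟩
      obtain ⟨v, rfl⟩ := (h.mem x).1 hx
      rw [et, ef, ef, hb, au_mul, au_mul, au_inv_apply]
  rw [sup_top_eq] at hσ
  exact ⟨σ, hσ, fun v => by rw [eσ _ ((h.mem _).2 ⟨v, rfl⟩), ef]⟩

def iA (v : V3 K) : U K := ⟨0, v.1, v.2.1, v.2.2⟩
def iQ (v : V3 K) : U K := ⟨v.1, 0, v.2.1, v.2.2⟩

theorem crdA : Crd (A K) (iA : V3 K → U K) :=
  ⟨fun v w => by ext <;> simp [iA], fun v w h => by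
    simp only [iA, U.mk.injEq] at h; exact Prod.ext h.2.1 (Prod.ext h.2.2.1 h.2.2.2),
    fun g => ⟨fun h => ⟨(g.x, g.y, g.z), by ext <;> simp [iA, mem_A.1 h]⟩, fun ⟨_, h⟩ => h ▸ rfl⟩⟩

theorem conj_iA (s : U K) (v : V3 K) : s * iA v * s⁻¹ = iA (Mt s.t v) := by ext <;> simp [iA, Mt_apply] <;> ring

theorem TS_crdA : TS (crdA : Crd (A K) iA) = TM K := Subgroup.ext fun g => mem_TS.trans
  ⟨fun ⟨s, hs⟩ => ⟨s.t, au_ext fun v => crdA.inj (by rw [← hs, conj_iA])⟩,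
    fun ⟨t, ht⟩ => ⟨⟨t, 0, 0, 0⟩, fun v => by rw [conj_iA, ht]⟩⟩

/-- some automorphism of `E` in `F` moves `D` -/
def ND (F : FS K) (E : Subgroup (U K)) : Prop := ∃ f, Mor F E f ∧ (∀ g ∈ E, f g ∈ E) ∧ ∃ g ∈ D K, f g ∉ D K

/-- `A` and `Q₀` -/
def EE (K : Type) [Field K] : Bool → Subgroup (U K)
  | true => A K
  | false => Qc 0

def ii : Bool → V3 K → U K
  | true => iA
  | false => iQ

theorem D_le_EE : ∀ b, D K ≤ EE K b
  | true => D_le_A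
  | false => D_le_Qc 0

theorem ii_D (b : Bool) (y z : K) : ii b (0, y, z) = ⟨0, 0, y, z⟩ := by cases b <;> rfl
theorem ii_mem_D {b : Bool} {v : V3 K} : ii b v ∈ D K ↔ v.1 = 0 := by cases b <;> simp [ii, iA, iQ, mem_D]

/-- every automorphism of `S` in `F` centralises `Z` -/
def Cen (F : FS K) : Prop := ∀ σ, Mor F ⊤ σ → ∀ z, σ (e z) = e z

/-- the hypotheses in characteristic two -/
def HF (F : FS K) : Prop := F.IsSaturated 2 ∧ (∃ c, c ≠ 0 ∧ ∀ P f, Mor F P f → e c ∈ P → f (e c) ∈ D K) ∧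
  ND F (A K) ∧ ND F (Qc 0)

variable [CharP K 2]

theorem crd : ∀ b, Crd (EE K b) (ii b)
  | true => crdA
  | false => ⟨fun v w => by ext <;> simp [ii, iQ, CharTwo.two_eq_zero], fun v w h => by
      simp only [ii, iQ, U.mk.injEq] at h; exact Prod.ext h.1 (Prod.ext h.2.2.1 h.2.2.2),
      fun g => ⟨fun h => ⟨(g.t, g.y, g.z), by ext <;> simp [ii, iQ, mem_Q0.1 h]⟩, fun ⟨_, h⟩ => h ▸ mem_Q0.2 rfl⟩⟩

theorem conj_ii (b : Bool) (s : U K) (v : V3 K) : s * ii b v * s⁻¹ = ii b (Tb b (if b then s.t else s.x) v) := by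
  have h2 : (2 : K) = 0 := CharTwo.two_eq_zero
  cases b <;> ext <;> simp [ii, iA, iQ, Tb_apply, bt] <;> grind

theorem TS_crd (b : Bool) : TS (crd b) = TB K b := Subgroup.ext fun g => mem_TS.trans
  ⟨fun ⟨s, hs⟩ => ⟨_, au_ext fun v => (crd b).inj (by rw [← hs, conj_ii])⟩,
    fun ⟨t, ht⟩ => ⟨⟨t, t, 0, 0⟩, fun v => by rw [conj_ii, ite_self, ht]⟩⟩

/-- the linear hypotheses in characteristic two -/
def WH (b : Bool) (L : Subgroup (Au (V3 K))) : Prop := SylIn 2 (TB K b) L ∧ (∀ g ∈ L, PZ g) ∧ ∃ g ∈ L, ¬ PD g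

/-- the standard position -/
def Std (F : FS K) : Prop := (∀ b m, ms b m ∈ LL F (crd b)) ∧
  ∀ σ, Mor F ⊤ σ → ∃ s a b, a ≠ 0 ∧ b ≠ 0 ∧ ∀ g, σ g = s * d a b g * s⁻¹

theorem syl_TB [Fintype K] (hF : F.IsSaturated 2) (b : Bool) : SylIn 2 (TB K b) (LL F (crd b)) :=
  TS_crd (K := K) b ▸ (crd b).syl hF (D_le_EE b)

theorem ND.not_PD [Finite K] {b : Bool} (h : ND F (EE K b)) : ∃ g ∈ LL F (crd b), ¬ PD g := by
  obtain ⟨f, hf, k, x, hx, nx⟩ := h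
  obtain ⟨g, hg, eg⟩ := (crd b).exists_LL hf k
  refine ⟨g, hg, fun l => nx ?_⟩
  rw [show x = ii b (0, x.y, x.z) by rw [ii_D]; ext <;> simp [hx.1, hx.2], eg]
  exact ii_mem_D.2 (l _ _)

end Fus

/-! ### the statements of the parts -/

section Parts

/-- the Sylow subgroup of `Sp₄(K)` -/
def SYL : Prop := ∀ (K : Type u) [Field K] [Fintype K] (p : ℕ) [Fact p.Prime] [CharP K p]
  (T : Sylow p (Matrix.symplecticGroup (Fin 2) K)), ∃ (K0 : Type) (_ : Field K0) (_ : Fintype K0) (_ : CharP K0 p),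
    Nonempty (↥(T : Subgroup (Matrix.symplecticGroup (Fin 2) K)) ≃* U K0)

/-- two conjugates of the fixed space of a quadratic Sylow subgroup -/
def MAX : Prop := ∀ (p : ℕ) [Fact p.Prime] (G V I : Type) [Group G] [AddCommGroup V] [Finite V] [AddCommGroup I]
  [Finite I] (L T : Subgroup G) [Finite L] (ρ : G → V → V) (W : AddSubgroup V) (n : I → G), Act L ρ → SylIn p T L →
  (∀ t ∈ T, ∀ w ∈ W, ρ t w = w) → (∀ s, n s ∈ T) → (∀ s, s ≠ 0 → ∀ v, ρ (n s) v = v → v ∈ W) →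
  (∀ s v, ρ (n s) v - v ∈ W) → (∀ s s' v, ρ (n (s + s')) v - v = (ρ (n s) v - v) + (ρ (n s') v - v)) →
  Nat.card V = Nat.card W * Nat.card I → ∀ g ∈ L, (∃ w ∈ W, ρ g w ∉ W) →
    (∀ v, ∃ w ∈ W, ∃ w' ∈ W, v = w + ρ g w') ∧
      ∀ w ∈ W, ρ g w ∉ W → ∀ s, s ≠ 0 → ∀ w' ∈ W, ρ (n s) (ρ g w) - ρ g w ≠ ρ g w'

/-- recognition of `SL₂(K)` on `K²` -/
def SP : Prop := ∀ (K : Type) [Field K] [Fintype K] (p : ℕ) [Fact p.Prime] (G : Type) [Group G] (L T : Subgroup G)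
  [Finite L] (ρ : G → V2 K → V2 K) (n : K → G), Act L ρ → SylIn p T L →
  (∀ t ∈ T, ∃ s, ∀ v, ρ t v = (v.1, v.2 + s * v.1)) → (∀ s, n s ∈ T) → (∀ s v, ρ (n s) v = (v.1, v.2 + s * v.1)) →
  ∀ g ∈ L, (∃ y, (ρ g (0, y)).1 ≠ 0) → ∃ f : K →+ K,
    (∀ y, (ρ g (0, y)).2 = f (ρ g (0, y)).1) ∧ (∀ u, ∃ y, ρ g (0, y) = (u, f u)) ∧
    (∀ m, ∃ s, ∀ v, ρ (g * n s * g⁻¹) v = (v.1 + m * (v.2 - f v.1), v.2 + f (m * (v.2 - f v.1)))) ∧
    (∀ g' ∈ L, (∃ y, (ρ g' (0, y)).1 ≠ 0) → ∃ s, ∀ y, (ρ g' (0, y)).2 = f (ρ g' (0, y)).1 + s * (ρ g' (0, y)).1) ∧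
    ∀ H : Subgroup G, (∀ s, n s ∈ H) → (∀ s, g * n s * g⁻¹ ∈ H) → ∀ a : K, a ≠ 0 →
      ∃ h ∈ H, h ∈ L ∧ ∀ v, ρ h v = (a * v.1, a⁻¹ * (v.2 - f v.1) + f (a * v.1))

/-- the same for a group on `K³` keeping `Z` -/
def SP3 : Prop := ∀ (K : Type) [Field K] [Fintype K] (p : ℕ) [Fact p.Prime] (L T : Subgroup (Au (V3 K)))
  (n : K → Au (V3 K)), SylIn p T L → (∀ g ∈ L, PZ g) → (∀ t ∈ T, ∃ s, n s = t) → (∀ s, n s ∈ T) →
  (∀ s v, (n s v).1 = v.1 ∧ (n s v).2.1 = v.2.1 + s * v.1) → (∀ s z, n s (0, 0, z) = (0, 0, z)) →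
  ∀ g ∈ L, ¬ PD g → ∃ f : K →+ K,
    (∀ y z, (g (0, y, z)).2.1 = f (g (0, y, z)).1) ∧ (∀ u z, ∃ y z', g (0, y, z') = (u, f u, z)) ∧
    (∀ m, ∃ s, ∀ v, ((g * n s * g⁻¹) v).1 = v.1 + m * (v.2.1 - f v.1) ∧
      ((g * n s * g⁻¹) v).2.1 = v.2.1 + f (m * (v.2.1 - f v.1))) ∧
    (∀ g' ∈ L, ¬ PD g' → ∃ s, ∀ y z, (g' (0, y, z)).2.1 = f (g' (0, y, z)).1 + s * (g' (0, y, z)).1) ∧
    ∀ a : K, a ≠ 0 → ∃ h ∈ L, (∀ z, h (0, 0, z) = (0, 0, z)) ∧ (∀ v, (h v).1 = a * v.1) ∧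
      ∀ y z, (h (0, y, z)).2.1 = a⁻¹ * y

/-! odd characteristic -/

def ESSO : Prop := ∀ (K : Type) [Field K] [Fintype K] (p : ℕ) [Fact p.Prime] [CharP K p], p ≠ 2 → ∀ F : FS K,
  F.IsSaturated p → F.core ≠ ⊥ → ∀ E, F.IsEssential p E → E = A K ∨ ∃ c, E = Qc c ∧ ND F E

/-- the torus coming from `Qc c` -/
def Tor {K : Type} [Field K] (F : FS K) (c : K) : Prop := ∀ l : K, l ≠ 0 → ∃ σ, Mor F ⊤ σ ∧ (∀ z, σ (e z) = e z) ∧
  (∀ g ∈ Qc c, σ g ∈ Qc c ∧ (σ g).t = l⁻¹ * g.t) ∧ ∀ g ∈ A K, σ g ∈ A K ∧ (σ g).x = l ^ 2 * g.x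

def QT : Prop := ∀ (K : Type) [Field K] [Fintype K] (p : ℕ) [Fact p.Prime] [CharP K p], p ≠ 2 → ∀ F : FS K,
  F.IsSaturated p → ∀ c, ND F (Qc c) → Tor F c

def CONST : Prop := ∀ (K : Type) [Field K] [Fintype K] (p : ℕ) [Fact p.Prime] [CharP K p], p ≠ 2 →
  ∀ (L : Subgroup (Au (V3 K))) (X : Type) [AddCommGroup X] (Φ : Au (V3 K) → X), SylIn p (TM K) L →
  (∀ g ∈ L, ∀ b ∈ L, PZ b → Φ (g * b) = Φ g) → (∀ h ∈ L, ∀ g ∈ L, ∑ t : K, Φ (h * (Mt t * g)) = 0) →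
  ∀ g ∈ L, Φ g = Φ 1

def LC1 : Prop := ∀ (K : Type) [Field K] [Fintype K] (p : ℕ) [Fact p.Prime] [CharP K p], p ≠ 2 → 3 < Fintype.card K →
  ∀ (L : Subgroup (Au (V3 K))) (c : K), SylIn p (TM K) L → (∀ b ∈ L, PZ b → b (0, 0, c) = (0, 0, c)) →
  ∀ g ∈ L, g (0, 0, c) = (0, 0, c)

def BSa : Prop := ∀ (K : Type) [Field K] [Fintype K] (p : ℕ) [Fact p.Prime] [CharP K p], p ≠ 2 →
  ∀ L : Subgroup (Au (V3 K)), SylIn p (TM K) L → (∀ g ∈ L, g (0, 0, 1) = (0, 0, 1)) →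
  ∀ b ∈ L, PZ b → ∃ τ : K ≃+* K, ∀ z, b (0, 0, z) = (0, 0, τ z)

def LC2 : Prop := ∀ (K : Type) [Field K] [Fintype K] (p : ℕ) [Fact p.Prime] [CharP K p], p ≠ 2 →
  ∀ n, Fintype.card K = p ^ n → 4 < n * (p - 1) → ∀ L : Subgroup (Au (V3 K)), SylIn p (TM K) L →
  (∀ g ∈ L, g (0, 0, 1) = (0, 0, 1)) → ∀ g ∈ L, PZ g

def ZD : Prop := ∀ (K : Type) [Field K] [Fintype K] (p : ℕ) [Fact p.Prime] [CharP K p], p ≠ 2 →
  ∀ L : Subgroup (Au (V3 K)), SylIn p (TM K) L → (∀ g ∈ L, PZ g) → dg (-1) ∈ L → ∀ g ∈ L, PD g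

/-- the normalised linear hypotheses in odd characteristic -/
def VHyp {K : Type} [Field K] (p : ℕ) (L : Subgroup (Au (V3 K))) : Prop :=
  SylIn p (TM K) L ∧ (∀ g ∈ L, g (0, 0, 1) = (0, 0, 1)) ∧ ∀ l, dg l ∈ L

def BSb : Prop := ∀ (K : Type) [Field K] [Fintype K] (p : ℕ) [Fact p.Prime] [CharP K p], p ≠ 2 → 3 < Fintype.card K →
  ∀ L : Subgroup (Au (V3 K)), VHyp p L → ∀ b ∈ L, PZ b → ∃ (s : K) (l : Kˣ) (τ : K ≃+* K), fr τ ∈ L ∧ b = Mt s * dg l * fr τ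

def NC : Prop := ∀ (K : Type) [Field K] [Fintype K] [CharP K 3], Fintype.card K = 9 →
  ∀ (g : Au (V3 K)) (s : K) (l : Kˣ) (τ : K ≃+* K), g * dg (-1) * g⁻¹ = Mt s * dg l * fr τ → ∀ z, τ z = z

def Q9A : Prop := ∀ (K : Type) [Field K] [Fintype K] [CharP K 3], Fintype.card K = 9 →
  ∀ L : Subgroup (Au (V3 K)), VHyp 3 L → ∀ τ : K ≃+* K, (∃ z, τ z ≠ z) → fr τ ∈ L →
  ∀ g ∈ L, g * dg (-1) = dg (-1) * g → ∃ (l : Kˣ) (τ' : K ≃+* K), g = dg l * fr τ'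

def Q9B : Prop := ∀ (K : Type) [Field K] [Fintype K] [CharP K 3], Fintype.card K = 9 →
  ∀ L : Subgroup (Au (V3 K)), VHyp 3 L → ∀ g ∈ L, PZ g

def VH : Prop := ∀ (K : Type) [Field K] [Fintype K] (p : ℕ) [Fact p.Prime] [CharP K p], p ≠ 2 →
  ∀ L : Subgroup (Au (V3 K)), VHyp p L → ∀ g ∈ L, PZ g

def VG : Prop := ∀ (K : Type) [Field K] [Fintype K] (p : ℕ) [Fact p.Prime] [CharP K p], p ≠ 2 →
  ∀ L : Subgroup (Au (V3 K)), SylIn p (TM K) L → (∃ c : K, c ≠ 0 ∧ ∀ g ∈ L, ∃ z, g (0, 0, c) = (0, 0, z)) →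
  (∀ l : K, l ≠ 0 → ∃ σ ∈ L, (∀ t, σ * Mt t * σ⁻¹ = Mt (l⁻¹ * t)) ∧ (∀ z, σ (0, 0, z) = (0, 0, z)) ∧
    ∀ v, (σ v).1 = l ^ 2 * v.1) → ∀ g ∈ L, PD g ∧ PZ g

/-! characteristic two -/

def ESS2 : Prop := ∀ (K : Type) [Field K] [Fintype K] [CharP K 2] (F : FS K), F.IsSaturated 2 →
  ∀ E, F.IsEssential 2 E → (E = A K ∨ E = Qc 0) ∧ ND F E

def SWAP : Prop := ∀ (K : Type) [Field K] [Fintype K] [CharP K 2] (F : FS K), F.IsSaturated 2 →
  (∃ c : K, c ≠ 0 ∧ ∀ P f, Mor F P f → (⟨0, 0, c, 0⟩ : U K) ∈ P → f ⟨0, 0, c, 0⟩ ∈ D K) → ND F (A K) → ND F (Qc 0) →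
  ∃ w, HF (tr w F)

def WA : Prop := ∀ (K : Type) [Field K] [Fintype K] [CharP K 2] (b : Bool) (L : Subgroup (Au (V3 K))),
  SylIn 2 (TB K b) L → (∀ g ∈ L, ¬ PD g → (∀ y z, (g (0, y, z)).1 = 0 → (g (0, y, z)).2.1 = 0) ∨
    ∀ y z, (g (0, y, z)).1 = 0 → (g (0, y, z)).2.2 = 0) ∧
  ((∃ c : K, c ≠ 0 ∧ ∀ g ∈ L, (g (0, 0, c)).1 = 0) → (∃ g ∈ L, ¬ PD g) → ∀ g ∈ L, PZ g)

def WB : Prop := ∀ (K : Type) [Field K] [Fintype K] [CharP K 2] (L : Subgroup (Au (V3 K))), WH true L →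
  ∀ l : K, l ≠ 0 → l ^ 3 = 1

def WC : Prop := ∀ (K : Type) [Field K] [Fintype K] [CharP K 2], (∀ l : K, l ≠ 0 → l ^ 3 = 1) →
  ∀ (b : Bool) (L : Subgroup (Au (V3 K))), WH b L → ∀ (R : Type) [Group R] [Finite R] (ψ : R →* Au (V3 K)),
  Odd (Nat.card R) → (∀ r, ψ r ∈ L) →
  (∀ r, ∃ a c k : K, (∀ v, (ψ r v).1 = a * v.1) ∧ ∀ y z, ψ r (0, y, z) = (0, c * y, k * z)) →
  ∃ f f' : K →+ K, (∀ m, (sh f f')⁻¹ * ms b m * sh f f' ∈ L) ∧
    ∀ r u, (sh f f' * ψ r * (sh f f')⁻¹) (u, 0, 0) = ((ψ r (u, 0, 0)).1, 0, 0)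

def S1 : Prop := ∀ (K : Type) [Field K] [Fintype K] [CharP K 2], (∀ l : K, l ≠ 0 → l ^ 3 = 1) → ∀ F : FS K, HF F →
  ∀ σ, Mor F ⊤ σ → ∃ a b : K, a ≠ 0 ∧ b ≠ 0 ∧ (∀ g, (σ g).t = a * g.t ∧ (σ g).x = b * g.x) ∧
    ∀ y z, σ ⟨0, 0, y, z⟩ = ⟨0, 0, a * b * y, a ^ 2 * b * z⟩

def STDZ : Prop := ∀ (K : Type) [Field K] [Fintype K] [CharP K 2], (∀ l : K, l ≠ 0 → l ^ 3 = 1) → ∀ F : FS K, HF F →
  ∃ w, HF (tr w F) ∧ Std (tr w F) ∧ (Cen (tr w F) ↔ Cen F)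

def UNIQ : Prop := ∀ (K : Type) [Field K] [Fintype K] [CharP K 2], (∀ l : K, l ≠ 0 → l ^ 3 = 1) → ∀ F F' : FS K,
  HF F → Std F → HF F' → Std F' → (Cen F ↔ Cen F') → F = F'

/-- an extension of a finite group from a stable extension of a subgroup of index prime to the kernel -/
def EXT : Prop := ∀ (Gb S C : Type) [Group Gb] [Finite Gb] [Group S] [Finite S] [CommGroup C] [Finite C]
  (π : S →* Gb) (ε : C →* S) (α : Gb →* MulAut C), Function.Injective ε → (∀ x, π x = 1 ↔ x ∈ ε.range) →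
  (∀ c x, ε c * x = x * ε c) → (∀ x c, α (π x) c = c) → (Nat.card C).Coprime π.range.index →
  (∀ g, ∃ φ : S → S, (∀ x y, g * π x * g⁻¹ ∈ π.range → g * π y * g⁻¹ ∈ π.range → φ (x * y) = φ x * φ y) ∧
    (∀ x, g * π x * g⁻¹ ∈ π.range → π (φ x) = g * π x * g⁻¹) ∧ ∀ c, φ (ε c) = ε (α g c)) →
  ∃ (G : Type) (_ : Group G) (_ : Finite G) (ι : S →* G) (ϖ : G →* Gb), Function.Injective ι ∧ Function.Surjective ϖ ∧
    (∀ x, ϖ (ι x) = π x) ∧ (∀ g, ϖ g = 1 → ∃ c, g = ι (ε c)) ∧ ∀ g c, g * ι (ε c) * g⁻¹ = ι (ε (α (ϖ g) c))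

/-- the extension of `GL₃(K)`, `K` of order at most four -/
def GEX : Prop := ∀ (K : Type) [Field K] [Fintype K] [CharP K 2], (∀ l : K, l ≠ 0 → l ^ 3 = 1) →
  ∃ (G : Type) (_ : Group G) (_ : Finite G) (ι : U K →* G) (χ : G →* Kˣ), Function.Injective ι ∧ ¬ 2 ∣ ι.range.index ∧
    (∀ g z, g * ι (e z) * g⁻¹ = ι (e (χ g * z))) ∧
    (∀ b, ∃ n, χ n = 1 ∧ (∀ a ∈ EE K b, ∃ a' ∈ EE K b, n * ι a * n⁻¹ = ι a') ∧
      ∃ a', a' ∉ D K ∧ n * ι ⟨0, 0, 1, 0⟩ * n⁻¹ = ι a') ∧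
    ∀ l : Kˣ, ∃ g, χ g = l ∧ ∀ s, ∃ s', g * ι s * g⁻¹ = ι s'

def REAL : Prop := ∀ (K : Type) [Field K] [Fintype K] [CharP K 2], (∀ l : K, l ≠ 0 → l ^ 3 = 1) →
  (∃ F : FS K, F.IsRealizable 2 ∧ HF F ∧ Cen F) ∧
    ∀ l : K, l ≠ 0 → l ≠ 1 → ∃ F : FS K, F.IsRealizable 2 ∧ HF F ∧ ¬ Cen F

theorem HF.wh (wa : WA) {K : Type} [Field K] [Fintype K] [CharP K 2] {F : FS K} (h : HF F) (b : Bool) :
    WH b (LL F (crd b)) := by
  obtain ⟨hF, ⟨c, hc, k⟩, h1, h2⟩ := h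
  have n : ∃ g ∈ LL F (crd b), ¬ PD g := ND.not_PD (by cases b; exacts [h2, h1])
  refine ⟨syl_TB hF b, (wa K b _ (syl_TB hF b)).2 ⟨c, hc, ?_⟩ n, n⟩
  rintro g ⟨f, hf, ef⟩
  rw [← ii_mem_D (b := b), ← ef, ii_D]
  exact k _ f hf (D_le_EE b ⟨rfl, rfl⟩)

end Parts

end CL.SpF
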