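/-
Project SpF: the stabiliser of `Z` in the linear group, and the involution `dg (-1)` for `q = 9`.
-/
import Cfsg.Agent.SpF.Defs
import Cfsg.Agent.Cls.SLnBasic

set_option autoImplicit false

namespace CL.SpF

open Subgroup Cfsg Cfsg.FusionSystem CL.Fus

namespace BSbx

variable {K : Type} [Field K]

theorem split (g : Au (V3 K)) (x y z : K) : g (x, y, z) = g (x, 0, 0) + g (0, y, 0) + g (0, 0, z) := by
  rw [← map_add, ← map_add]; simp

theorem form (h2 : (2 : K) ≠ 0) {b : Au (V3 K)} (hD : PD b) {τ : K ≃+* K} (hτ : ∀ z, b (0, 0, z) = (0, 0, τ z))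
    (al : K → K) (H : ∀ t v, b (Mt t v) = Mt (al t) (b v)) :
    ∃ (s : K) (l : Kˣ) (φ : K →+ K), ∀ x y z, b (x, y, z) = (Mt s * dg l) (τ x, τ y, τ z + φ x) := by
  have e1 : ∀ t y, τ t * τ y = al t * (b (0, y, 0)).2.1 := fun t y => by
    have := congrArg (fun v : V3 K => v.2.2) (H t (0, y, 0))
    simp only [Mt_apply] at this
    rw [split, hD] at this
    simp only [hτ, mul_zero, add_zero, zero_add, map_mul, map_ofNat, Prod.snd_add, map_zero] at this
    exact mul_left_cancel₀ h2 (by linear_combination this)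
  have a0 : al 1 ≠ 0 := fun h => by simpa [h] using e1 1 1
  have e2 : ∀ y, (b (0, y, 0)).2.1 = (al 1)⁻¹ * τ y := fun y => by
    have := e1 1 y
    rw [map_one, one_mul] at this
    rw [this]; field_simp
  have e3 : ∀ t, al t = al 1 * τ t := fun t => by
    have := e1 t 1
    rw [e2, map_one, mul_one, mul_one] at this
    rw [this]; field_simp
  have e4 : ∀ x, (b (x, 0, 0)).1 = (al 1)⁻¹ ^ 2 * τ x := fun x => by
    have := congrArg (fun v : V3 K => v.2.1) (H 1 (x, 0, 0))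
    simp only [Mt_apply] at this
    rw [split, hτ] at this
    simp only [zero_add, one_mul, Prod.snd_add, Prod.fst_add, e2, add_zero] at this
    field_simp at this ⊢
    linear_combination -this
  have e5 : ∀ t x, (b (0, t * x, 0)).2.2 = 2 * al 1 * τ t * (b (x, 0, 0)).2.1 := fun t x => by
    have := congrArg (fun v : V3 K => v.2.2) (H t (x, 0, 0))
    simp only [Mt_apply] at this
    rw [split, hτ, e4, e3 t] at this
    simp only [zero_add, mul_zero, Prod.snd_add, map_mul, map_pow] at this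
    field_simp at this ⊢
    linear_combination this
  have e6 : ∀ x, (b (x, 0, 0)).2.1 = (b (1, 0, 0)).2.1 * τ x := fun x => by
    have k1 := e5 1 x
    have k2 := e5 x 1
    rw [one_mul, map_one] at k1
    rw [mul_one] at k2
    exact mul_left_cancel₀ (mul_ne_zero h2 a0) (by linear_combination k2 - k1)
  refine ⟨(b (1, 0, 0)).2.1 * al 1 ^ 2, (Units.mk0 _ a0)⁻¹,
    AddMonoidHom.mk' (fun x => (b (x, 0, 0)).2.2 - ((b (1, 0, 0)).2.1 * al 1) ^ 2 * τ x) fun x x' => ?_, fun x y z => ?_⟩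
  · rw [show ((x + x', 0, 0) : V3 K) = (x, 0, 0) + (x', 0, 0) by simp, map_add, map_add]
    simp only [Prod.snd_add]; ring
  · have k := e5 y 1
    rw [mul_one] at k
    rw [split, hτ, au_mul, dg_apply, Mt_apply]
    refine Prod.ext ?_ (Prod.ext ?_ ?_) <;>
      simp only [Prod.fst_add, Prod.snd_add, e2, e4, k, hD y 0, Units.val_inv_eq_inv_val, Units.val_mk0,
        AddMonoidHom.mk'_apply]
    · ring
    · rw [e6]; field_simp; ring
    · field_simp; ring

end BSbx

open BSbx in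
theorem bsb (h1 : BSa) (h2 : ZD) : BSb := by
  intro K _ _ p _ _ hp hq L hL b hb hZ
  have k2 : (2 : K) ≠ 0 := fun h => hp ((Nat.prime_dvd_prime_iff_eq Fact.out Nat.prime_two).1
    ((CharP.cast_eq_zero_iff K p 2).1 (by exact_mod_cast h)))
  have hD : PD b := h2 K p hp (L ⊓ SZ K)
    (hL.1.mono (le_inf hL.1.le fun g hg => fun z => ⟨z, (TM_le hg).2.2 z⟩) inf_le_left) (fun g hg => hg.2)
    ⟨hL.2.2 _, fun z => ⟨z, by simp [dg_apply]⟩⟩ b ⟨hb, hZ⟩
  obtain ⟨τ, hτ⟩ := h1 K p hp L hL.1 hL.2.1 b hb hZ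
  choose al hal using fun t => mem_TM.1 (conj_mem hL.1 TM_le hb hD hZ ⟨t, rfl⟩)
  obtain ⟨s, l, φ, hφ⟩ := form k2 hD hτ al fun t v => by rw [hal, au_mul, au_mul, au_inv_apply]
  set n := (Mt s * dg l)⁻¹ * b with hn
  have nL : n ∈ L := L.mul_mem (L.inv_mem (L.mul_mem (hL.1.le ⟨s, rfl⟩) (hL.2.2 l))) hb
  have en : ∀ x y z, n (x, y, z) = (τ x, τ y, τ z + φ x) := fun x y z => by rw [hn, au_mul, hφ, au_inv_apply]
  obtain ⟨c, c0, c1⟩ := CL.SLn.exists_sq_ne_one_of_four_le (F := K) (by rw [Nat.card_eq_fintype_card]; exact hq)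
  have m0 : τ c ≠ 0 := by simpa using c0
  set w := n * dg (Units.mk0 c c0) * (dg (Units.mk0 _ m0) * n)⁻¹ with hw
  have ew : ∀ x y z, w (τ c ^ 2 * τ x, τ c * τ y, τ z + φ x) =
      (τ c ^ 2 * τ x, τ c * τ y, τ z + φ (c ^ 2 * x)) := fun x y z => by
    have : (τ c ^ 2 * τ x, τ c * τ y, τ z + φ x) = (dg (Units.mk0 _ m0) * n) (x, y, z) := by
      rw [au_mul, en, dg_apply]; rfl
    rw [this, hw, au_mul, au_inv_apply, au_mul, dg_apply, en]
    simp
  have sj : ∀ x y z : K, ∃ x' y' z', x = τ c ^ 2 * τ x' ∧ y = τ c * τ y' ∧ z = τ z' + φ x' := fun x y z =>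
    ⟨τ.symm (x / τ c ^ 2), τ.symm (y / τ c), τ.symm (z - φ (τ.symm (x / τ c ^ 2))), by
      simp only [RingEquiv.apply_symm_apply]; field_simp, by simp only [RingEquiv.apply_symm_apply]; field_simp, by simp⟩
  obtain ⟨r, hr⟩ := mem_of_St hL.1 TM_le (g := w) (L.mul_mem (L.mul_mem nL (hL.2.2 _))
    (L.inv_mem (L.mul_mem (hL.2.2 _) nL))) ⟨fun ⟨x, y, z⟩ => by
      obtain ⟨x, y, z, rfl, rfl, rfl⟩ := sj x y z
      rw [ew], fun y z => by
      obtain ⟨x, y, z, e, rfl, rfl⟩ := sj 0 y z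
      rw [e, ew], fun z => by
      obtain ⟨x, y, z, e, e', rfl⟩ := sj 0 0 z
      obtain rfl : x = 0 := by simpa [c0] using e
      have := ew 0 y z
      rw [← e', ← e, mul_zero] at this
      exact this⟩
  have r0 : r = 0 := by
    have := congrArg (fun v : V3 K => v.2.1) (ew 1 0 0)
    simpa [← hr, Mt_apply, c0] using this
  have φ0 : ∀ x, φ x = 0 := fun x => by
    have := congrArg (fun v : V3 K => v.2.2) (ew (x / (c ^ 2 - 1)) 0 0)
    rw [← hr, r0, Mt_zero, au_one] at this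
    have c2 := sub_ne_zero.2 c1
    have e : x = c ^ 2 * (x / (c ^ 2 - 1)) - x / (c ^ 2 - 1) := by field_simp
    rw [e, map_sub, ← add_left_cancel this, sub_self]
  have e : n = fr τ := au_ext fun ⟨x, y, z⟩ => by rw [en, φ0, add_zero]; rfl
  exact ⟨s, l, τ, e ▸ nL, by rw [← e, hn, mul_inv_cancel_left]⟩

theorem nc : NC := by
  intro K _ _ _ hq g s l τ h
  by_contra hz
  obtain ⟨z, hz⟩ := not_forall.1 hz
  have key : ∀ v, ∃ y, (Mt s * dg l * fr τ) v - v = g (0, y, 0) := fun v => ⟨-2 * (g⁻¹ v).2.1, by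
    rw [← h, au_mul, au_mul]
    conv_lhs => rw [← au_apply_inv g v, au_inv_apply, ← map_sub]
    congr 1
    ext <;> simp [dg_apply]; ring⟩
  have ex : ∀ c : K, ∃ y, c * τ y ≠ y := fun c => by
    by_contra hc
    push Not at hc
    have := hc 1
    rw [map_one, mul_one] at this
    exact hz (by simpa [this] using hc z)
  obtain ⟨y, hy⟩ := ex l
  obtain ⟨x, hx⟩ := ex (l ^ 2)
  obtain ⟨a, ha⟩ := key (0, 0, z)
  obtain ⟨b, hb⟩ := key (0, y, 0)
  obtain ⟨c, hc⟩ := key (x, 0, 0)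
  have inj : ∀ i j : Fin 3, ∀ u : K, u ≠ 0 → (i : ℕ) • u = (j : ℕ) • u → i = j := fun i j u hu e => by
    rw [nsmul_eq_mul, nsmul_eq_mul] at e
    exact Fin.ext (CharP.natCast_injOn_Iio K 3 i.2 j.2 (mul_right_cancel₀ hu e))
  have lin : ∀ i j k : ℕ, g (0, i • a + j • b + k • c, 0) = i • g (0, a, 0) + j • g (0, b, 0) + k • g (0, c, 0) :=
    fun i j k => by rw [← map_nsmul, ← map_nsmul, ← map_nsmul, ← map_add, ← map_add]; simp
  have := Fintype.card_le_of_injective (fun t : Fin 3 × Fin 3 × Fin 3 => (t.1 : ℕ) • a + (t.2.1 : ℕ) • b + (t.2.2 : ℕ) • c)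
    fun ⟨i, j, k⟩ ⟨i', j', k'⟩ e => by
      have e1 := lin i j k
      rw [show (i : ℕ) • a + (j : ℕ) • b + (k : ℕ) • c = _ from e, lin, ← ha, ← hb, ← hc] at e1
      obtain rfl : k' = k := inj _ _ _ (sub_ne_zero.2 hx) (by
        simpa [au_mul, Mt_apply, dg_apply, fr_apply] using congrArg (fun v : V3 K => v.1) e1)
      replace e1 := add_right_cancel e1
      obtain rfl : j' = j := inj _ _ _ (sub_ne_zero.2 hy) (by
        simpa [au_mul, Mt_apply, dg_apply, fr_apply] using congrArg (fun v : V3 K => v.2.1) e1)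
      replace e1 := add_right_cancel e1
      obtain rfl : i' = i := inj _ _ _ (sub_ne_zero.2 hz) (by
        simpa [au_mul, Mt_apply, dg_apply, fr_apply] using congrArg (fun v : V3 K => v.2.2) e1)
      rfl
  rw [hq] at this
  simp at this

end CL.SpF
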