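/-
Project SpF: strong embedding of the stabiliser of `Z`, constancy of functions with vanishing orbit sums, and the action on
`Z` of its stabiliser.
-/
import Cfsg.Agent.SpF.Defs
import Cfsg.Agent.MX.SM

set_option autoImplicit false

namespace CL.SpF

open Subgroup Cfsg CL.Fus

namespace CONSTx

variable {K : Type} [Field K] {p : ℕ} [hp : Fact p.Prime] {L : Subgroup (Au (V3 K))}

theorem two_ne [CharP K p] (h : p ≠ 2) : (2 : K) ≠ 0 := fun e =>
  h ((Nat.prime_dvd_prime_iff_eq hp.out Nat.prime_two).1 ((CharP.cast_eq_zero_iff K p 2).1 (by exact_mod_cast e)))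

theorem fix (h2 : (2 : K) ≠ 0) {t : K} (ht : t ≠ 0) {v : V3 K} (h : Mt t v = v) : ∃ w, v = (0, 0, w) := by
  have a : v.2.1 + t * v.1 = v.2.1 := congrArg (fun w : V3 K => w.2.1) h
  have b : v.2.2 + 2 * t * v.2.1 + t ^ 2 * v.1 = v.2.2 := congrArg (fun w : V3 K => w.2.2) h
  have c : v.1 = 0 := (mul_eq_zero.1 (add_eq_left.1 a)).resolve_left ht
  rw [c, mul_zero, add_zero] at b
  exact ⟨v.2.2, Prod.ext c (Prod.ext ((mul_eq_zero.1 (add_eq_left.1 b)).resolve_left (mul_ne_zero h2 ht)) rfl)⟩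

theorem Mt_Z (t z : K) : Mt t (0, 0, z) = (0, 0, z) := by simp [Mt_apply]

variable [Finite K]

omit hp in
theorem TM_le_B (h : SylIn p (TM K) L) : TM K ≤ L ⊓ SZ K :=
  le_inf h.le (by rintro _ ⟨s, rfl⟩ z; exact ⟨z, Mt_Z s z⟩)

/-- the stabiliser of `Z` is strongly embedded -/
theorem sr (h2 : (2 : K) ≠ 0) (h : SylIn p (TM K) L) {g : Au (V3 K)} {t : K} (ht : t ≠ 0)
    (k : g⁻¹ * Mt t * g ∈ L ⊓ SZ K) : PZ g := fun z => by
  obtain ⟨b, hb, e⟩ := (h.mono (TM_le_B h) inf_le_left).exists_conj_le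
    ((h.isPGroup.map (MulAut.conj g⁻¹).toMonoidHom).to_inf_left (K := L ⊓ SZ K)) inf_le_right
  obtain ⟨s, hs⟩ := e _ ⟨⟨Mt t, ⟨t, rfl⟩, by simp⟩, k⟩
  obtain ⟨w, hw⟩ := hb.2 z
  have a := Mt_Z s w
  rw [hs, ← hw, au_mul, au_mul, au_inv_apply, b.injective.eq_iff, au_mul, au_mul] at a
  exact fix h2 ht (by rw [← au_apply_inv g (Mt t _), a])

end CONSTx

open CONSTx

theorem const : CONST := by
  intro K _ _ p _ _ hp L X _ Φ h h1 h0 g hg
  have k : ∀ k ∈ L, Φ k = MX.sm (L ⊓ SZ K) L Φ := fun k hk => by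
    have r : MX.RI (L ⊓ SZ K) L fun g => Φ (k * g) := fun g hg b hb =>
      (congrArg Φ (mul_assoc k g b).symm).trans (h1 _ (L.mul_mem hk hg) b hb.1 hb.2)
    have r' : MX.RI (L ⊓ SZ K) L Φ := fun g hg b hb => h1 g hg b hb.1 hb.2
    rw [← MX.sm_left inf_le_left r' hk,
      MX.SM.sm_orb Mt 0 le_rfl inf_le_left (fun i => TM_le_B h ⟨i, rfl⟩) Mt_zero (fun i j => ⟨-i + j,
        neg_add_eq_zero.1, fun g _ => by
          rw [Mt_add, Mt_neg, inv_mul_cancel, mul_one, inv_mul_cancel]; exact one_mem _⟩)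
        (fun g hg hB l e => by_contra fun hl => hB ⟨hg, sr (two_ne hp) h hl e⟩) r (h0 k hk),
      MX.sm_self fun g hg => r g (mem_inf.1 hg).1, mul_one]
  rw [k g hg, k 1 L.one_mem]

theorem lc1 (h : CONST) : LC1 := by
  intro K _ _ p _ _ hp hq L c hs h1 g hg
  refine h K p hp L (V3 K) (fun g => g (0, 0, c)) hs (fun g _ b hb k => by simp only [au_mul, h1 b hb k])
    (fun k _ g _ => ?_) g hg
  have e : ∀ (t : K) (v : V3 K), Mt t v = t ^ 0 • v + t ^ 1 • (0, v.1, 2 * v.2.1) + t ^ 2 • (0, 0, v.1) := fun t v => by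
    ext <;> simp [Mt_apply]
    ring
  simp only [au_mul]
  rw [← map_sum]
  simp only [e, Finset.sum_add_distrib, ← Finset.sum_smul]
  rw [FiniteField.sum_pow_lt_card_sub_one K 0 (by omega), FiniteField.sum_pow_lt_card_sub_one K 1 (by omega),
    FiniteField.sum_pow_lt_card_sub_one K 2 (by omega), zero_smul, zero_smul, zero_smul, add_zero, add_zero, map_zero]

theorem bsa : BSa := by
  intro K _ _ p _ _ hp L h h1 b hb hZ
  let C : Subgroup (Au (V3 K)) :=
    { carrier := {g | g ∈ L ∧ ∀ z, g (0, 0, z) = (0, 0, z)}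
      mul_mem' := fun {g k} hg hk => ⟨L.mul_mem hg.1 hk.1, fun z => by rw [au_mul, hk.2, hg.2]⟩
      one_mem' := ⟨L.one_mem, fun _ => rfl⟩
      inv_mem' := fun {g} hg => ⟨L.inv_mem hg.1, fun z => by rw [← hg.2, au_inv_apply, hg.2]⟩ }
  obtain ⟨n, hn, hk⟩ := (h.mono (Y' := C) (fun g hg => ⟨h.le hg, (TM_le hg).2.2⟩) fun g hg => hg.1).frattini (g := b)
    (mem_normalizer_fintype fun g hg => ⟨L.mul_mem (L.mul_mem hb hg.1) (L.inv_mem hb), fun z => by
      obtain ⟨w, hw⟩ := hZ.inv z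
      rw [au_mul, au_mul, hw, hg.2, ← hw, au_apply_inv]⟩)
  have e0 : ∀ z, (n * b) (0, 0, z) = b (0, 0, z) := fun z => by
    obtain ⟨w, hw⟩ := hZ z
    rw [au_mul, hw, hn.2]
  have kL := L.mul_mem hn.1 hb
  generalize n * b = k at *
  choose al hal using fun t => (hk (Mt t)).1 ⟨t, rfl⟩
  have a1 : al 1 ≠ 0 := fun e => one_ne_zero (Mt_inj (s := (1 : K)) (t := 0) (by
    have := hal 1
    rw [e, Mt_zero, eq_comm, conj_eq_one_iff] at this
    rw [this, Mt_zero]))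
  let ga : K →+ K := AddMonoidHom.mk' (fun z => (k (0, 0, z)).2.2) fun z w => by
    rw [← Prod.snd_add, ← Prod.snd_add, ← map_add]; simp
  have eg : ∀ z, k (0, 0, z) = (0, 0, ga z) := fun z => by
    obtain ⟨w, hw⟩ := hZ z
    show _ = (0, 0, (k (0, 0, z)).2.2)
    rw [e0, hw]
  have e1 : ∀ t y, Mt (al t) (k (0, y, 0)) = k (0, y, 0) + (0, 0, ga (2 * t * y)) := fun t y => by
    rw [hal, au_mul, au_mul, au_inv_apply, ← eg, ← map_add]
    simp [Mt_apply]
  have e2 : ∀ y, (k (0, y, 0)).1 = 0 := fun y => by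
    have := congrArg (fun w : V3 K => w.2.1) (e1 1 y)
    simpa [Mt_apply, a1] using this
  obtain ⟨-, -, τ, -, -, e3⟩ := isotopy al (fun y => (k (0, y, 0)).2.1) ga
    (fun z w e => congrArg (fun v : V3 K => v.2.2) (k.injective ((eg z).trans (e ▸ (eg w).symm)))) fun t y => mul_left_cancel₀ (two_ne hp) (by
      have := congrArg (fun w : V3 K => w.2.2) (e1 t y)
      simp only [Mt_apply, e2, Prod.snd_add, two_mul, add_mul, map_add] at this
      linear_combination -this)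
  have e4 : ga 1 = 1 := by simpa using (eg 1).symm.trans (h1 k kL)
  rw [e3, map_one, mul_one] at e4
  exact ⟨τ, fun z => by rw [← e0, eg, e3, e4, one_mul]⟩

end CL.SpF
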