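/-
Project SpF: the essential subgroups in characteristic two, and the graph automorphism.
-/
import Cfsg.Agent.SpF.Defs

set_option autoImplicit false

namespace CL.SpF

open Subgroup Cfsg Cfsg.FusionSystem CL.Fus

namespace Ess2x

variable {K : Type} [Field K] [CharP K 2]

theorem cD {d : U K} (hd : d ∈ D K) (g : U K) : d * g = g * d :=
  comm_iff.2 (by simp [hd.1, hd.2, CharTwo.two_eq_zero])

/-- the graph endomorphism -/
def w0 : U K →* U K :=
  MonoidHom.mk' (fun g => ⟨g.x, g.t ^ 2, g.z + g.t ^ 2 * g.x, g.y ^ 2 + g.t ^ 2 * g.x ^ 2⟩) fun g h => by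
    have h2 : (2 : K) = 0 := CharTwo.two_eq_zero
    ext <;> simp only [mul_t, mul_x, mul_y, mul_z] <;> grind

theorem w0_t (g : U K) : (w0 g).t = g.x := rfl
theorem w0_x (g : U K) : (w0 g).x = g.t ^ 2 := rfl
theorem w0_y (g : U K) : (w0 g).y = g.z + g.t ^ 2 * g.x := rfl
theorem w0_z (g : U K) : (w0 g).z = g.y ^ 2 + g.t ^ 2 * g.x ^ 2 := rfl

theorem w0_inj : Function.Injective (w0 : U K → U K) := (injective_iff_map_eq_one _).2 fun g h => by
  have h1 : g.x = 0 := congrArg U.t h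
  have h2 : g.t ^ 2 = 0 := congrArg U.x h
  have h3 : g.z + g.t ^ 2 * g.x = 0 := congrArg U.y h
  have h4 : g.y ^ 2 + g.t ^ 2 * g.x ^ 2 = 0 := congrArg U.z h
  rw [h2, zero_mul, add_zero] at h3 h4
  ext
  exacts [pow_eq_zero_iff two_ne_zero |>.1 h2, h1, pow_eq_zero_iff two_ne_zero |>.1 h4, h3]

end Ess2x

theorem ND.tr {K : Type} [Field K] {F : FS K} {P Q : Subgroup (U K)} (w : U K ≃* U K) (h : ∀ g, w g ∈ Q ↔ g ∈ P)
    (hD : ∀ g, w g ∈ D K ↔ g ∈ D K) (n : ND F P) : ND (tr w F) Q := by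
  obtain ⟨f, hf, k, g, hg, ng⟩ := n
  refine ⟨fun y => w (f (w.symm y)), (mor_tr w h).2 (by simpa using hf), fun y hy => (h _).2 (k _ ((h _).1 (by simpa))),
    w g, (hD g).2 hg, fun m => ng ?_⟩
  simpa using (hD _).1 m

open Ess2x in
theorem ess2 : ESS2 := by
  intro K _ _ _ F hF E hE
  have h2 : (2 : K) = 0 := CharTwo.two_eq_zero
  have ce : ∀ a, (∀ y ∈ E, y * a = a * y) → a ∈ E := fun a ha =>
    centralizerIn_le_of_centric hE.1 (mem_centralizerIn'.2 ⟨trivial, ha⟩)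
  have hD : D K ≤ E := fun a ha => ce a fun y _ => (cD ha y).symm
  have lt : E < ⊤ := IsEssential.lt hE (fullyAutomized_of_fullyNormalized (pg 2) hF (isFullyNormalized_top F))
  have nd : ND F E := by
    by_contra n
    refine lt.not_ge fun a _ => mem_of_chain_top (pg 2) hE.1 (IsEssential.isRadical (pg 2) hE) 1
      (fun i => if i = 0 then ⊥ else D K) (fun i _ f hf hi x hx hc => ?_) (fun x _ hx => by simpa using hx) trivial
      (norm_of_le hD a) (fun x _ => ⟨by simp, by simp⟩) fun i hi x _ hx => ?_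
    · by_cases e : i = 0
      · simp only [e, if_true, mem_bot] at hc ⊢
        rw [hc, hf.homOn.map_one]
      · simp only [e, if_false] at hc ⊢
        by_contra m
        exact n ⟨f, hf, fun g hg => hi ▸ mem_img_of_mem f hg, x, hc, m⟩
    · obtain rfl : i = 0 := by omega
      have hx' : x ∈ D K := hx
      simp only [if_true, mem_bot]
      rw [← cD hx' a]
      group
  refine ⟨?_, nd⟩
  have sub : (E : Set (U K)) ⊆ (A K : Set (U K)) ∪ (Qc (0 : K) : Set (U K)) := by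
    intro g hg
    by_contra hn
    have gt : g.t ≠ 0 := fun e => hn (Or.inl e)
    have gx : g.x ≠ 0 := fun e => hn (Or.inr (mem_Q0.2 e))
    obtain ⟨f, hf, k, d, hd, nd⟩ := nd
    obtain ⟨g', hg', e⟩ := hf.homOn.mem_img.1 ((hf.img_eq_self le_rfl k).ge hg)
    have c : g * f d = f d * g := by rw [← e, ← hf.homOn _ hg' _ (hD hd), ← hf.homOn _ (hD hd) _ hg', cD hd]
    have s : f d * f d = 1 := by
      rw [← hf.homOn _ (hD hd) _ (hD hd), show d * d = 1 by
        ext <;> simp [hd.1, hd.2, CharTwo.add_self_eq_zero], hf.homOn.map_one]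
    generalize f d = h at nd c s
    obtain ⟨c1, c2⟩ := comm_iff.1 c
    have s1 : h.y + h.y + h.t * h.x = 0 := congrArg U.y s
    have k1 : h.t * g.x * (g.t - h.t) = 0 := by linear_combination c2 - g.t * c1 - (g.t * h.y - h.t * g.y) * h2
    rcases mul_eq_zero.1 k1 with k2 | k2
    · have ht : h.t = 0 := (mul_eq_zero.1 k2).resolve_right gx
      rw [ht, zero_mul] at c1
      exact nd ⟨ht, (mul_eq_zero.1 c1).resolve_left gt⟩
    · have ht : h.t = g.t := (sub_eq_zero.1 k2).symm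
      rw [ht] at c1 s1
      exact mul_ne_zero gt gx (by linear_combination s1 - c1 - h.y * h2)
  refine (SubgroupClass.subset_union.1 sub).imp (fun l => le_antisymm l fun a ha => ce a fun y hy => ?_)
    fun l => le_antisymm l fun a ha => ce a fun y hy => ?_
  · exact comm_iff.2 (by simp [mem_A.1 ha, mem_A.1 (l hy)])
  · exact comm_iff.2 (by simp [mem_Q0.1 ha, mem_Q0.1 (l hy), h2])

open Ess2x in
theorem swap : SWAP := by
  intro K _ _ _ F hF ⟨c, hc, k⟩ n1 n2
  let w : U K ≃* U K := MulEquiv.ofBijective w0 (Finite.injective_iff_bijective.1 w0_inj)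
  have hw : ∀ g, w g = w0 g := fun _ => rfl
  have hD : ∀ g, w g ∈ D K ↔ g ∈ D K := fun g => by
    rw [hw, mem_D, mem_D, w0_t, w0_x, pow_eq_zero_iff two_ne_zero, and_comm]
  have hA : ∀ g, w g ∈ A K ↔ g ∈ Qc (0 : K) := fun g => by rw [hw, mem_A, mem_Q0, w0_t]
  have hQ : ∀ g, w g ∈ Qc (0 : K) ↔ g ∈ A K := fun g => by
    rw [hw, mem_A, mem_Q0, w0_x, pow_eq_zero_iff two_ne_zero]
  have he : w ⟨0, 0, c, 0⟩ = e (c ^ 2) := by rw [hw]; ext <;> simp [w0_t, w0_x, w0_y, w0_z]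
  refine ⟨w, sat_tr w hF, ⟨c ^ 2, pow_ne_zero 2 hc, fun P f hf hP => ?_⟩, ND.tr w hA hD n2, ND.tr w hQ hD n1⟩
  have := (hD _).2 (k _ _ ((mor_tr' w).1 hf) (show w _ ∈ P from he ▸ hP))
  rwa [w.apply_symm_apply, he] at this

end CL.SpF
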