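/-
Project SpF: the essential subgroups in odd characteristic.
-/
import Cfsg.Agent.SpF.Defs

set_option autoImplicit false

namespace CL.SpF

open Subgroup Cfsg Cfsg.FusionSystem CL.Fus

namespace Essox

variable {K : Type} [Field K] {g h k : U K}

theorem t0 (h2 : (2 : K) ≠ 0) (hg : g ∉ Z K) (gt : g.t = 0) (e : g * h = h * g) : h.t = 0 := by
  by_contra ht
  obtain ⟨e1, e2⟩ := comm_iff.1 e
  have x0 : g.x = 0 := mul_left_cancel₀ ht (by rw [← e1, gt, zero_mul, mul_zero])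
  exact hg ⟨gt, x0, mul_left_cancel₀ (mul_ne_zero h2 ht) (by rw [gt, x0] at e2; linear_combination -e2)⟩

theorem comm_A (hg : g.t = 0) (hh : h.t = 0) : g * h = h * g := comm_iff.2 (by simp [hg, hh])

theorem ca (h2 : (2 : K) ≠ 0) (hg : g ∉ Z K) (e1 : g * h = h * g) (e2 : g * k = k * g) : h * k = k * h := by
  by_cases gt : g.t = 0
  · exact comm_A (t0 h2 hg gt e1) (t0 h2 hg gt e2)
  obtain ⟨a1, a2⟩ := comm_iff.1 e1
  obtain ⟨b1, b2⟩ := comm_iff.1 e2
  exact comm_iff.2 ⟨mul_left_cancel₀ gt (by linear_combination h.t * b1 - k.t * a1), mul_left_cancel₀ gt (by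
    linear_combination h.t * b2 - k.t * a2 + (h.t ^ 2 - h.t * g.t) * b1 + (k.t * g.t - k.t ^ 2) * a1)⟩

theorem cd (x a : U K) : x⁻¹ * (a * x * a⁻¹) ∈ D K := ⟨by simp, by simp⟩

theorem cz {x a : U K} : x⁻¹ * (a * x * a⁻¹) ∈ Z K ↔ a.t * x.x = x.t * a.x := by
  have e : (x⁻¹ * (a * x * a⁻¹)).y = a.t * x.x - x.t * a.x := by simp; ring
  rw [mem_Z, e, sub_eq_zero]
  exact ⟨fun h => h.2.2, fun h => ⟨by simp, by simp, h⟩⟩

theorem z_comm (hg : g ∈ Z K) (h : U K) : g * h = h * g := by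
  obtain ⟨z, rfl⟩ := mem_Z'.1 hg; exact e_comm z h

theorem c1 {x : U K} (hx : x ∈ Z K) (a : U K) : x⁻¹ * (a * x * a⁻¹) ∈ (⊥ : Subgroup (U K)) := by
  rw [← z_comm hx, mem_bot]; group

variable [Fintype K] {p : ℕ} [Fact p.Prime] [CharP K p] {F : FS K} {E : Subgroup (U K)}

omit [Fintype K] [Fact p.Prime] [CharP K p] in
theorem cen (hE : F.IsEssential p E) {a : U K} (h : ∀ y ∈ E, y * a = a * y) : a ∈ E :=
  centralizerIn_le_of_centric hE.1 (mem_centralizerIn'.2 ⟨trivial, h⟩)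

omit [Fintype K] [Fact p.Prime] [CharP K p] in
theorem Z_le (hE : F.IsEssential p E) : Z K ≤ E := fun _ ha => cen hE fun y _ => (z_comm ha y).symm

theorem ch1 (hE : F.IsEssential p E) (i : ∀ f, Mor F E f → img f E = E → ∀ x ∈ Z K, f x ∈ Z K) {a : U K}
    (h : ∀ x ∈ E, a.t * x.x = x.t * a.x) : a ∈ E := by
  refine mem_of_chain_top (pg p) hE.1 (IsEssential.isRadical (pg p) hE) 1 (fun i => if i = 0 then ⊥ else Z K)
    (fun j _ f hf e x _ hx => ?_) (fun x _ hx => by simpa using hx) trivial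
    (mem_normalizer_of_finite fun x hx => by simpa using E.mul_mem hx (Z_le hE (cz.2 (h x hx))))
    (fun x hx => by simpa using cz.2 (h x hx)) fun j hj x _ hx => ?_
  · split_ifs at hx ⊢
    · rw [mem_bot.1 hx, hf.homOn.map_one]; exact one_mem _
    · exact i f hf e x hx
  · obtain rfl : j = 0 := by omega
    exact c1 (by simpa using hx) a

theorem ch2 (hE : F.IsEssential p E) (hD : D K ≤ E) (i : ∀ f, Mor F E f → img f E = E → ∀ x ∈ Z K, f x ∈ Z K)
    (i' : ∀ f, Mor F E f → img f E = E → ∀ x ∈ D K, f x ∈ D K) (a : U K) : a ∈ E := by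
  refine mem_of_chain_top (pg p) hE.1 (IsEssential.isRadical (pg p) hE) 2
    (fun i => if i = 0 then ⊥ else if i = 1 then Z K else D K)
    (fun j _ f hf e x _ hx => ?_) (fun x _ hx => by simpa using hx) trivial (norm_of_le hD a)
    (fun x hx => by simpa using cd x a) fun j hj x _ hx => ?_
  · split_ifs at hx ⊢
    · rw [mem_bot.1 hx, hf.homOn.map_one]; exact one_mem _
    · exact i f hf e x hx
    · exact i' f hf e x hx
  · obtain rfl | rfl : j = 0 ∨ j = 1 := by omega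
    · exact c1 (by simpa using hx) a
    · have hx' : x ∈ D K := by simpa using hx
      simpa using (cz (x := x) (a := a)).2 (by rw [hx'.1, hx'.2, mul_zero, zero_mul])

theorem last (h2 : (2 : K) ≠ 0) (hF : F.IsSaturated p) (hO : F.core ≠ ⊥) (hc : F.core ≤ Z K) {f : U K → U K}
    (hf : Mor F E f) {v : U K} (hv : v ∈ Z K) (vE : v ∈ E) (hw : (f v).t ≠ 0) : False := by
  obtain ⟨g, hg, hgv, hgO⟩ := IsNormal.extend (isNormal_core F) (hf.mono (zpowers_le_of_mem vE))
  have hPZ : zpowers v ⊔ F.core ≤ Z K := sup_le (zpowers_le_of_mem hv) hc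
  have hPn : F.IsFullyNormalized (zpowers v ⊔ F.core) :=
    isFullyNormalized_of_normalizerIn_eq F hg.le fun a _ =>
      centralizer_le_normalizer _ (mem_centralizer_iff.2 fun y hy => z_comm (hPZ hy) a)
  obtain ⟨k, hk, hkP⟩ := exists_mor_normalizerIn (pg p) hF hPn (isConj_symm hg.isConj)
  obtain ⟨n, hn, hn1⟩ := (Subgroup.bot_or_exists_ne_one F.core).resolve_left hO
  have hvP : v ∈ zpowers v ⊔ F.core := mem_sup_left (mem_zpowers _)
  have hgw : g v = f v := hgv _ (mem_zpowers _)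
  obtain ⟨s, hs⟩ : ∃ s : U K, s * f v * s⁻¹ = f v * n := by
    obtain ⟨c, rfl⟩ := mem_Z'.1 (hc hn)
    refine ⟨⟨0, 0, -(c / (2 * (f v).t)), 0⟩, ?_⟩
    ext <;> simp
    field_simp
  have himg : img g (zpowers v ⊔ F.core) = zpowers (f v) ⊔ F.core := by
    rw [hg.homOn.img_sup, hgO, hg.homOn.img_zpowers hvP, hgw]
  have hwP : f v ∈ img g (zpowers v ⊔ F.core) := hgw ▸ mem_img_of_mem g hvP
  have hnP : n ∈ img g (zpowers v ⊔ F.core) := himg ▸ mem_sup_right hn
  have hsN : s ∈ normalizerIn ⊤ (img g (zpowers v ⊔ F.core)) := by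
    refine mem_normalizerIn.2 ⟨trivial, mem_normalizer_of_finite fun x hx => ?_⟩
    have : img g (zpowers v ⊔ F.core) ≤ (img g (zpowers v ⊔ F.core)).comap (MulAut.conj s).toMonoidHom := by
      conv_lhs => rw [himg]
      refine sup_le (zpowers_le_of_mem ?_) fun y hy => ?_
      · show s * f v * s⁻¹ ∈ img g (zpowers v ⊔ F.core)
        rw [hs]; exact mul_mem hwP hnP
      · show s * y * s⁻¹ ∈ img g (zpowers v ⊔ F.core)
        rw [← z_comm (hc hy), mul_inv_cancel_right, himg]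
        exact mem_sup_right hy
    exact this hx
  have hle := le_normalizerIn hg.img_le
  have h1 := hk.homOn.map_conj hsN (hle hwP)
  have hkw : k (f v) ∈ Z K := hPZ (hkP ▸ mem_img_of_mem k hwP)
  rw [hs, hk.homOn.map_mul (hle hwP) (hle hnP), ← z_comm hkw (k s), mul_inv_cancel_right, mul_eq_left] at h1
  exact hn1 (hk.injOn (hle hnP) (one_mem _) (h1.trans hk.homOn.map_one.symm))

end Essox

open Essox in
theorem esso : ESSO := by
  intro K _ _ p _ _ hp F hF hO E hE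
  have h2 : (2 : K) ≠ 0 := fun e => hp ((Nat.prime_dvd_prime_iff_eq Fact.out Nat.prime_two).1
    ((CharP.cast_eq_zero_iff K p 2).1 (by exact_mod_cast e)))
  have lt : ¬ ∀ a, a ∈ E := fun e => (IsEssential.lt hE
    (fullyAutomized_of_fullyNormalized (pg p) hF (isFullyNormalized_top F))).not_ge fun a _ => e a
  have ZE := Z_le hE
  by_cases ab : ∀ u ∈ E, ∀ v ∈ E, u * v = v * u
  · obtain ⟨g, gE, gZ⟩ : ∃ g ∈ E, g ∉ Z K := by
      by_contra! e
      exact lt fun a => cen hE fun y hy => z_comm (e y hy) a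
    by_cases gt : g.t = 0
    · exact .inl (le_antisymm (fun h hh => t0 h2 gZ gt (ab g gE h hh)) fun a ha =>
        cen hE fun y hy => ca h2 gZ (ab g gE y hy) (comm_A gt ha))
    have EA : ∀ h ∈ E, h.t = 0 → h ∈ Z K := fun h hh ht => by_contra fun e => gt (t0 h2 e ht (ab h hh g gE))
    have NZ : F.core ≤ Z K := fun n hn => by
      have nE := core_le_of_essential (pg p) hE
      refine EA n (nE hn) ?_
      have m : n⁻¹ * ((⟨0, 1, 0, 0⟩ : U K) * n * (⟨0, 1, 0, 0⟩ : U K)⁻¹) ∈ F.core := mul_mem (inv_mem hn)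
        (conj_mem_of_mem_normalizer (IsNormal.le_normalizer (isNormal_core F) trivial) hn)
      simpa using (cz.1 (EA _ (nE m) (cd _ _).1)).symm
    have n : ¬ ∀ f, Mor F E f → img f E = E → ∀ x ∈ Z K, f x ∈ Z K := fun i =>
      one_ne_zero (EA ⟨0, 0, 1, 0⟩ (ch1 hE i fun x _ => by simp) rfl).2.2
    push Not at n
    obtain ⟨f, hf, e, x, hx, k⟩ := n
    exact (last h2 hF hO NZ hf hx (ZE hx) fun t => k (EA _ (e ▸ mem_img_of_mem f (ZE hx)) t)).elim
  push Not at ab
  obtain ⟨u, uE, v, vE, uv⟩ := ab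
  have i : ∀ f, Mor F E f → img f E = E → ∀ x ∈ Z K, f x ∈ Z K := fun f hf e x hx => by_contra fun k => by
    have c : ∀ h ∈ E, f x * h = h * f x := fun h hh => by
      obtain ⟨y, hy, rfl⟩ := hf.mem_img.1 (e.ge hh)
      rw [← hf.homOn.map_mul (ZE hx) hy, z_comm hx, hf.homOn.map_mul hy (ZE hx)]
    exact uv (ca h2 k (c u uE) (c v vE))
  have DE : D K ≤ E := fun a ha => ch1 hE i fun x _ => by rw [ha.1, ha.2, mul_zero, zero_mul]
  have nd : ND F E := by_contra fun n => lt (ch2 hE DE i fun f hf e x hx => by_contra fun k =>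
    n ⟨f, hf, fun g hg => e ▸ mem_img_of_mem f hg, x, hx, k⟩)
  obtain ⟨f, hf, fE, g, gD, gn⟩ := id nd
  have e := hf.img_eq_self le_rfl fE
  have key : ∀ h ∈ E, (f g).t * h.x = h.t * (f g).x := fun h hh => by
    obtain ⟨y, hy, rfl⟩ := hf.mem_img.1 (e.ge hh)
    have := i f hf e _ ((cz (x := y) (a := g)).2 (by rw [gD.1, gD.2, mul_zero, zero_mul]))
    rw [hf.homOn.map_mul (inv_mem hy) (mul_mem (mul_mem (DE gD) hy) (inv_mem (DE gD))), hf.homOn.map_inv hy,
      hf.homOn.map_conj (DE gD) hy] at this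
    exact cz.1 this
  by_cases gt : (f g).t = 0
  · have gx : (f g).x ≠ 0 := fun e => gn ⟨gt, e⟩
    have t : ∀ h ∈ E, h.t = 0 := fun h hh => mul_right_cancel₀ gx (by rw [← key h hh, gt, zero_mul, zero_mul])
    exact (uv (comm_A (t u uE) (t v vE))).elim
  have le : E ≤ Qc ((f g).x / (f g).t) := fun h hh => mem_Qc.2 (by
    field_simp; linear_combination key h hh)
  exact .inr ⟨_, le_antisymm le fun a ha => ch1 hE i fun x hx => by rw [mem_Qc.1 ha, mem_Qc.1 (le hx)]; ring, nd⟩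

end CL.SpF
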