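/-
Project SpF: an extension of a finite group from a stable extension of a subgroup of index prime to the kernel.
-/
import Cfsg.Agent.SpF.Defs

set_option autoImplicit false

namespace CL.SpF

namespace Extx

/-- the permutational wreath product -/
@[ext] structure Wr (Gb Om S : Type) where
  g : Gb
  th : Om → S

section wr

variable {Gb Om S C : Type} [Group Gb] [MulAction Gb Om] [Group S] [CommGroup C]

instance : Mul (Wr Gb Om S) := ⟨fun a b => ⟨a.g * b.g, fun ω => a.th (b.g • ω) * b.th ω⟩⟩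
instance : One (Wr Gb Om S) := ⟨⟨1, fun _ => 1⟩⟩
instance : Inv (Wr Gb Om S) := ⟨fun a => ⟨a.g⁻¹, fun ω => (a.th (a.g⁻¹ • ω))⁻¹⟩⟩

@[simp] theorem mul_g (a b : Wr Gb Om S) : (a * b).g = a.g * b.g := rfl
@[simp] theorem mul_th (a b : Wr Gb Om S) (ω : Om) : (a * b).th ω = a.th (b.g • ω) * b.th ω := rfl
omit [MulAction Gb Om] in
@[simp] theorem one_g : (1 : Wr Gb Om S).g = 1 := rfl
omit [MulAction Gb Om] in
@[simp] theorem one_th (ω : Om) : (1 : Wr Gb Om S).th ω = 1 := rfl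
@[simp] theorem inv_g (a : Wr Gb Om S) : a⁻¹.g = a.g⁻¹ := rfl
@[simp] theorem inv_th (a : Wr Gb Om S) (ω : Om) : a⁻¹.th ω = (a.th (a.g⁻¹ • ω))⁻¹ := rfl

instance : Group (Wr Gb Om S) := Group.ofLeftAxioms
  (fun a b c => Wr.ext (mul_assoc _ _ _) (funext fun ω => by simp [mul_smul, mul_assoc]))
  (fun a => Wr.ext (one_mul _) (funext fun ω => by simp))
  (fun a => Wr.ext (inv_mul_cancel _) (funext fun ω => by simp))

omit [Group Gb] [MulAction Gb Om] [Group S] in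
instance [Finite Gb] [Finite Om] [Finite S] : Finite (Wr Gb Om S) :=
  Finite.of_injective (fun a => (a.g, a.th)) fun _ _ h => Wr.ext (congrArg Prod.fst h) (congrArg Prod.snd h)

/-- the lifts of the cocycle of a transversal -/
def W (π : S →* Gb) (r : Om → Gb) : Subgroup (Wr Gb Om S) where
  carrier := {w | ∀ ω, π (w.th ω) = (r (w.g • ω))⁻¹ * w.g * r ω}
  one_mem' := fun ω => by simp
  mul_mem' := fun {a b} ha hb ω => by
    rw [mul_th, map_mul, ha, hb, mul_g, mul_smul]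
    group
  inv_mem' := fun {a} ha ω => by
    rw [inv_th, map_inv, ha, inv_g, smul_inv_smul]
    group

/-- the projection -/
def p1 (π : S →* Gb) (r : Om → Gb) : W π r →* Gb := MonoidHom.mk' (fun w => w.1.g) fun _ _ => rfl

variable {π : S →* Gb} {ε : C →* S} {α : Gb →* MulAut C} {r : Om → Gb}

/-- the kernel of the projection -/
def emb (r : Om → Gb) (hε : ∀ c, π (ε c) = 1) : (Om → C) →* W π r :=
  MonoidHom.mk' (fun c => ⟨⟨1, fun ω => ε (c ω)⟩, fun ω => by simp [hε]⟩) fun c d =>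
    Subtype.ext (Wr.ext (mul_one _).symm (funext fun ω => by simp))

theorem emb_inj (hε : ∀ c, π (ε c) = 1) (hi : Function.Injective ε) : Function.Injective (emb r hε) :=
  fun _ _ h => funext fun ω => hi (congrFun (congrArg (fun w : W π r => w.1.th) h) ω)

theorem emb_of (hε : ∀ c, π (ε c) = 1) (hk : ∀ x, π x = 1 → x ∈ ε.range) (w : W π r) (h : p1 π r w = 1) :
    ∃ c, w = emb r hε c := by
  have h' : w.1.g = 1 := h
  have : ∀ ω, ∃ c, ε c = w.1.th ω := fun ω => hk _ (by rw [w.2 ω, h']; simp)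
  choose c hc using this
  exact ⟨c, Subtype.ext (Wr.ext h' (funext fun ω => (hc ω).symm))⟩

theorem emb_conj (hε : ∀ c, π (ε c) = 1) (hc : ∀ c x, ε c * x = x * ε c) (w : W π r) (c : Om → C) :
    w * emb r hε c * w⁻¹ = emb r hε fun ω => c ((p1 π r w)⁻¹ • ω) :=
  Subtype.ext (Wr.ext (show w.1.g * 1 * w.1.g⁻¹ = 1 by simp) (funext fun ω => by
    change w.1.th ((1 : Gb) • w.1.g⁻¹ • ω) * ε (c (w.1.g⁻¹ • ω)) * (w.1.th (w.1.g⁻¹ • ω))⁻¹ = ε (c (w.1.g⁻¹ • ω))
    rw [one_smul, ← hc, mul_inv_cancel_right]))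

/-- the norm map -/
def nu [Fintype Om] (α : Gb →* MulAut C) (r : Om → Gb) : (Om → C) →* C :=
  MonoidHom.mk' (fun c => ∏ ω, α (r ω) (c ω)) fun c d => by simp [Finset.prod_mul_distrib]

theorem nu_conj [Fintype Om] (hα : ∀ x c, α (π x) c = c) (hr : ∀ (g : Gb) ω, (r (g • ω))⁻¹ * g * r ω ∈ π.range)
    (g : Gb) (c : Om → C) : nu α r (fun ω => c (g⁻¹ • ω)) = α g (nu α r c) := by
  change ∏ ω, α (r ω) (c (g⁻¹ • ω)) = α g (∏ ω, α (r ω) (c ω))
  rw [map_prod, ← Equiv.prod_comp (MulAction.toPerm g)]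
  refine Finset.prod_congr rfl fun ω _ => ?_
  obtain ⟨x, hx⟩ := hr g ω
  have e : g * r ω = r (g • ω) * π x := by rw [hx, mul_assoc, mul_inv_cancel_left]
  rw [MulAction.toPerm_apply, inv_smul_smul, ← MulAut.mul_apply, ← map_mul, e, map_mul, MulAut.mul_apply, hα]

end wr

/-- a transversal adapted to the double cosets -/
theorem exists_transversal {Gb S : Type} [Group Gb] [Group S] (π : S →* Gb) :
    ∃ (go : Gb ⧸ π.range → Gb) (k : Gb ⧸ π.range → S), (∀ ω, ((π (k ω) * go ω : Gb) : Gb ⧸ π.range) = ω) ∧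
      ∀ x ω, go (π x • ω) = go ω := by
  let s := MulAction.orbitRel π.range (Gb ⧸ π.range)
  have : ∀ ω : Gb ⧸ π.range, ∃ k : S, π k • (Quotient.mk s ω).out = ω := fun ω => by
    obtain ⟨⟨_, x, rfl⟩, hx⟩ : s ω (Quotient.mk s ω).out := s.symm (Quotient.mk_out ω)
    exact ⟨x, hx⟩
  choose k hk using this
  refine ⟨fun ω => (Quotient.mk s ω).out.out, k, fun ω => ?_, fun x ω => ?_⟩
  · rw [← smul_eq_mul, ← MulAction.Quotient.smul_coe, QuotientGroup.out_eq', hk]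
  · have : Quotient.mk s (π x • ω) = Quotient.mk s ω := Quotient.sound ⟨⟨π x, x, rfl⟩, rfl⟩
    simp only [this]

end Extx

open Extx in
theorem ext' : EXT := by
  intro Gb S C _ _ _ _ _ _ π ε α hi hk hc hα hco hφ
  choose φ φ1 φ2 φ3 using hφ
  obtain ⟨go, k, h1, h2⟩ := exists_transversal π
  have := Fintype.ofFinite (Gb ⧸ π.range)
  have hε : ∀ c, π (ε c) = 1 := fun c => (hk _).2 ⟨c, rfl⟩
  let r : Gb ⧸ π.range → Gb := fun ω => π (k ω) * go ω
  have hr : ∀ (g : Gb) ω, (r (g • ω))⁻¹ * g * r ω ∈ π.range := fun g ω => by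
    rw [mul_assoc, ← QuotientGroup.eq, h1, ← smul_eq_mul, ← MulAction.Quotient.smul_coe, h1]
  have e1 : ∀ x ω, (go ω)⁻¹ * π ((k (π x • ω))⁻¹ * x * k ω) * (go ω)⁻¹⁻¹ = (r (π x • ω))⁻¹ * π x * r ω := fun x ω => by
    simp only [r, h2, map_mul, map_inv]
    group
  let j : S →* W π r := MonoidHom.mk'
    (fun x => ⟨⟨π x, fun ω => φ (go ω)⁻¹ ((k (π x • ω))⁻¹ * x * k ω)⟩, fun ω => by
      rw [φ2 _ _ (e1 x ω ▸ hr _ _), e1]⟩) fun x y =>
    Subtype.ext (Wr.ext (map_mul π x y) (funext fun ω => by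
      change φ (go ω)⁻¹ ((k (π (x * y) • ω))⁻¹ * (x * y) * k ω) =
        φ (go (π y • ω))⁻¹ ((k (π x • π y • ω))⁻¹ * x * k (π y • ω)) * φ (go ω)⁻¹ ((k (π y • ω))⁻¹ * y * k ω)
      have a1 := e1 x (π y • ω) ▸ hr (π x) (π y • ω)
      rw [h2] at a1
      rw [h2, ← φ1 _ _ _ a1 (e1 y ω ▸ hr _ _), map_mul, mul_smul]
      congr 1
      group))
  have hj : ∀ c, j (ε c) = emb r hε fun ω => α (go ω)⁻¹ c := fun c =>
    Subtype.ext (Wr.ext (hε c) (funext fun ω => by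
      change φ (go ω)⁻¹ ((k (π (ε c) • ω))⁻¹ * ε c * k ω) = ε (α (go ω)⁻¹ c)
      rw [hε, one_smul, mul_assoc, hc, inv_mul_cancel_left, φ3]))
  have hn : ∀ c, nu α r (fun ω => α (go ω)⁻¹ c) = c ^ π.range.index := fun c => by
    change ∏ ω, α (π (k ω) * go ω) (α (go ω)⁻¹ c) = _
    rw [Subgroup.index_eq_card, Nat.card_eq_fintype_card, ← Finset.card_univ, ← Finset.prod_const]
    refine Finset.prod_congr rfl fun ω _ => ?_
    rw [← MulAut.mul_apply, ← map_mul, mul_inv_cancel_right, hα]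
  let Kn : Subgroup (W π r) := (nu α r).ker.map (emb r hε)
  have hK : Kn.Normal := ⟨by
    rintro _ ⟨c, hc', rfl⟩ w
    rw [emb_conj hε hc]
    refine ⟨_, ?_, rfl⟩
    rw [SetLike.mem_coe, MonoidHom.mem_ker] at hc' ⊢
    rw [nu_conj hα hr, hc', map_one]⟩
  have hq : ∀ c d, (QuotientGroup.mk' Kn (emb r hε c) = QuotientGroup.mk' Kn (emb r hε d)) ↔
      nu α r c = nu α r d := fun c d => by
    rw [QuotientGroup.mk'_apply, QuotientGroup.mk'_apply, QuotientGroup.eq, ← map_inv, ← map_mul,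
      Subgroup.mem_map_iff_mem (emb_inj hε hi), MonoidHom.mem_ker, map_mul, map_inv, inv_mul_eq_one]
  let ϖ : W π r ⧸ Kn →* Gb := QuotientGroup.lift Kn (p1 π r) (by
    rintro _ ⟨c, -, rfl⟩
    rfl)
  have hb : Function.Bijective fun c : C => c ^ π.range.index := (powCoprime hco).bijective
  refine ⟨W π r ⧸ Kn, inferInstance, inferInstance, (QuotientGroup.mk' Kn).comp j, ϖ,
    (injective_iff_map_eq_one _).2 fun x hx => ?_, fun g => ?_, fun x => rfl, fun g hg => ?_, fun g c => ?_⟩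
  · obtain ⟨c, rfl⟩ := (hk x).1 (show ϖ (((QuotientGroup.mk' Kn).comp j) x) = 1 by rw [hx, map_one])
    rw [MonoidHom.comp_apply, hj, ← map_one (QuotientGroup.mk' Kn), ← map_one (emb r hε), hq, hn, map_one] at hx
    rw [hb.1 (hx.trans (one_pow _).symm), map_one]
  · choose th hth using hr g
    exact ⟨QuotientGroup.mk' Kn ⟨⟨g, th⟩, hth⟩, rfl⟩
  · obtain ⟨w, rfl⟩ := QuotientGroup.mk'_surjective Kn g
    obtain ⟨d, rfl⟩ := emb_of hε (fun x => (hk x).1) w hg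
    obtain ⟨c, hc'⟩ := hb.2 (nu α r d)
    exact ⟨c, by rw [MonoidHom.comp_apply, hj, hq, hn]; exact hc'.symm⟩
  · obtain ⟨w, rfl⟩ := QuotientGroup.mk'_surjective Kn g
    rw [MonoidHom.comp_apply, MonoidHom.comp_apply, hj, hj, ← map_inv, ← map_mul, ← map_mul, emb_conj hε hc, hq, hn,
      nu_conj hα hr _ fun ω => α (go ω)⁻¹ c, hn, map_pow]
    rfl

end CL.SpF
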