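/-
Project SpF: the extension of `GL₃(K)` (`K` of order at most four) by the additive group of `K` that contains `U K`
with odd index.
-/
import Cfsg.Agent.SpF.Defs

set_option autoImplicit false

namespace CL.SpF

open Subgroup Cfsg Cfsg.FusionSystem CL.Fus

namespace Gexx

variable {K : Type} [Field K]

/-- the unitriangular matrix of an element of `U K` -/
def pm : U K →* Matrix (Fin 3) (Fin 3) K where
  toFun g := !![1, g.t, g.y; 0, 1, g.x; 0, 0, 1]
  map_one' := by ext i j; fin_cases i <;> fin_cases j <;> simp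
  map_mul' g h := by
    ext i j; fin_cases i <;> fin_cases j <;> simp [Matrix.mul_apply, Fin.sum_univ_three] <;> ring

theorem pm_apply (g : U K) : pm g = !![1, g.t, g.y; 0, 1, g.x; 0, 0, 1] := rfl

def pr : U K →* GL (Fin 3) K := pm.toHomUnits

theorem pr_val (g : U K) : ((pr g : GL (Fin 3) K) : Matrix (Fin 3) (Fin 3) K) = !![1, g.t, g.y; 0, 1, g.x; 0, 0, 1] := rfl

theorem pr_eq {g h : U K} : pr g = pr h ↔ g.t = h.t ∧ g.x = h.x ∧ g.y = h.y := by
  refine ⟨fun k => ?_, fun k => Units.ext (by rw [pr_val, pr_val, k.1, k.2.1, k.2.2])⟩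
  have k' := congrArg (fun m : GL (Fin 3) K => (m : Matrix (Fin 3) (Fin 3) K)) k
  simp only [pr_val] at k'
  exact ⟨by simpa using congrFun (congrFun k' 0) 1, by simpa using congrFun (congrFun k' 1) 2,
    by simpa using congrFun (congrFun k' 0) 2⟩

theorem conj_iff {g : GL (Fin 3) K} {x x' : U K} : g * pr x * g⁻¹ = pr x' ↔
    (g : Matrix (Fin 3) (Fin 3) K) * !![1, x.t, x.y; 0, 1, x.x; 0, 0, 1] =
      !![1, x'.t, x'.y; 0, 1, x'.x; 0, 0, 1] * (g : Matrix (Fin 3) (Fin 3) K) := by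
  rw [mul_inv_eq_iff_eq_mul, Units.ext_iff, Units.val_mul, Units.val_mul, pr_val, pr_val]

/-- the centre -/
def ep : Multiplicative K →* U K := MonoidHom.mk' (fun c => e c.toAdd) fun _ _ => e_add _ _

theorem ep_apply (c : Multiplicative K) : ep c = e c.toAdd := rfl

theorem ep_inj : Function.Injective (ep (K := K)) := fun _ _ h => Multiplicative.toAdd.injective (congrArg U.z h)

theorem pr_one (x : U K) : pr x = 1 ↔ x ∈ (ep (K := K)).range := by
  rw [← map_one pr, pr_eq]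
  exact ⟨fun h => (mem_Z'.1 h).elim fun z k => ⟨Multiplicative.ofAdd z, k⟩, fun ⟨_, k⟩ => k ▸ ⟨rfl, rfl, rfl⟩⟩

/-- multiplication by a unit -/
def mu : Kˣ →* MulAut (Multiplicative K) := MonoidHom.mk'
  (fun l => ⟨⟨fun c => Multiplicative.ofAdd ((l : K) * c.toAdd), fun c => Multiplicative.ofAdd ((l : K)⁻¹ * c.toAdd),
    fun c => by simp, fun c => by simp⟩, fun c c' => by simp [mul_add]⟩)
  fun l m => by ext c; simp [mul_assoc]

theorem mu_apply (l : Kˣ) (c : Multiplicative K) : (mu l c).toAdd = l * c.toAdd := rfl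

/-- the inverse of the determinant -/
def ch : GL (Fin 3) K →* Kˣ := (invMonoidHom : Kˣ →* Kˣ).comp Matrix.GeneralLinearGroup.det

theorem ch_val (g : GL (Fin 3) K) : (ch g : K) = ((g : Matrix (Fin 3) (Fin 3) K).det)⁻¹ := by
  simp [ch]

theorem ch_pr (x : U K) : ch (pr x) = 1 := Units.ext (by simp [ch_val, pr_val, Matrix.det_fin_three])

theorem odd_index [Fintype K] [CharP K 2] : ¬ 2 ∣ (pr (K := K)).range.index := by
  obtain ⟨n, -, hn⟩ := FiniteField.card K 2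
  have h1 : (pr (K := K)).ker = (ep (K := K)).range := by ext x; rw [MonoidHom.mem_ker, pr_one]
  have h2 : Nat.card (ep (K := K)).range = Fintype.card K := by
    rw [← Nat.card_congr (MonoidHom.ofInjective ep_inj).toEquiv, Nat.card_eq_fintype_card, Fintype.card_multiplicative]
  have h3 := (pr (K := K)).ker.index_mul_card
  rw [index_ker, h1, h2, card_U, Nat.card_eq_fintype_card (α := K)] at h3
  have h4 := (pr (K := K)).range.index_mul_card
  rw [Matrix.card_GL_field, Fin.prod_univ_three] at h4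
  generalize Fintype.card K = q at *
  have q0 : 0 < q := hn ▸ pow_pos two_pos _
  have qe : Even q := hn ▸ (Nat.even_pow.2 ⟨even_two, n.ne_zero⟩)
  have h5 : Nat.card (pr (K := K)).range = q ^ 3 := Nat.eq_of_mul_eq_mul_right q0 (by rw [h3]; ring)
  have e1 : q ^ 3 - q ^ 1 = q * (q ^ 2 - 1) := by rw [Nat.mul_sub]; congr 1 <;> ring
  have e2 : q ^ 3 - q ^ 2 = q ^ 2 * (q - 1) := by rw [Nat.mul_sub]; congr 1 <;> ring
  have h6 : (pr (K := K)).range.index = (q ^ 3 - 1) * (q ^ 2 - 1) * (q - 1) := by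
    refine Nat.eq_of_mul_eq_mul_right (pow_pos q0 3) ?_
    rw [← h5, h4, h5]
    simp only [Fin.val_zero, Fin.val_one, Fin.val_two, pow_zero]
    rw [e1, e2]; ring
  have o : ∀ k, k ≠ 0 → Odd (q ^ k - 1) := fun k hk =>
    Nat.Even.sub_odd (Nat.one_le_pow _ _ q0) (Nat.even_pow.2 ⟨qe, hk⟩) odd_one
  rw [h6, ← even_iff_two_dvd, Nat.not_even_iff_odd]
  exact ((o 3 (by decide)).mul (o 2 (by decide))).mul (by simpa using o 1 (by decide))

/-- upper triangular matrices normalise the image of `U K`, with a lift to an endomorphism -/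
theorem tri (h3 : ∀ l : K, l ≠ 0 → l ^ 3 = 1) (g : GL (Fin 3) K) (h10 : g 1 0 = 0) (h20 : g 2 0 = 0) (h21 : g 2 1 = 0) :
    ∃ φ : U K →* U K, (∀ x, g * pr x * g⁻¹ = pr (φ x)) ∧ ∀ z, φ (e z) = e (ch g * z) := by
  have hd : (g : Matrix (Fin 3) (Fin 3) K).det = g 0 0 * g 1 1 * g 2 2 := by
    rw [Matrix.det_fin_three, h10, h20, h21]; ring
  have hn := Matrix.GeneralLinearGroup.det_ne_zero g
  rw [hd] at hn
  have n0 : g 0 0 ≠ 0 := left_ne_zero_of_mul (left_ne_zero_of_mul hn)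
  have n1 : g 1 1 ≠ 0 := right_ne_zero_of_mul (left_ne_zero_of_mul hn)
  have n2 : g 2 2 ≠ 0 := right_ne_zero_of_mul hn
  refine ⟨(d (g 0 0 / g 1 1) (g 1 1 / g 2 2)).comp
    (MulAut.conj (⟨g 0 1 / g 0 0, g 1 2 / g 1 1, g 0 2 / g 0 0, 0⟩ : U K)).toMonoidHom, fun x => conj_iff.2 ?_,
    fun z => ?_⟩
  · ext i j
    fin_cases i <;> fin_cases j <;> simp [Matrix.mul_apply, Fin.sum_univ_three, h10, h20, h21] <;> field_simp <;> ring
  · have k : (MulAut.conj (⟨g 0 1 / g 0 0, g 1 2 / g 1 1, g 0 2 / g 0 0, 0⟩ : U K)).toMonoidHom (e z) = e z := by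
      simp only [MulEquiv.coe_toMonoidHom, MulAut.conj_apply]; rw [← e_comm, mul_inv_cancel_right]
    rw [MonoidHom.comp_apply, k, ch_val, hd]
    have := h3 _ n0
    ext <;> simp only [d_t, d_x, d_y, d_z, e_t, e_x, e_y, e_z, mul_zero]
    field_simp
    linear_combination z * this

/-- a matrix that is not upper triangular moves no element with `t x ≠ 0` into the image of `U K` -/
theorem not_tri {g : GL (Fin 3) K} (hg : ¬ (g 1 0 = 0 ∧ g 2 0 = 0 ∧ g 2 1 = 0)) {x x' : U K}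
    (h : g * pr x * g⁻¹ = pr x') : x.t * x.x = 0 ∧ x'.t * x'.x = 0 := by
  have k := conj_iff.1 h
  have hn := Matrix.GeneralLinearGroup.det_ne_zero g
  rw [Matrix.det_fin_three] at hn
  have e00 := congrFun (congrFun k 0) 0
  have e01 := congrFun (congrFun k 0) 1
  have e10 := congrFun (congrFun k 1) 0
  have e11 := congrFun (congrFun k 1) 1
  have e12 := congrFun (congrFun k 1) 2
  have e21 := congrFun (congrFun k 2) 1
  have e22 := congrFun (congrFun k 2) 2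
  simp only [Matrix.mul_apply, Fin.sum_univ_three, Matrix.of_apply, Matrix.cons_val', Matrix.cons_val_zero,
    Matrix.cons_val_one, Matrix.cons_val_two, Matrix.cons_val_fin_one, Matrix.tail_cons,
    Matrix.head_cons, Matrix.head_fin_const, Matrix.empty_val'] at e00 e01 e10 e11 e12 e21 e22
  have a1 : x.t * x.x * g 2 0 = 0 := by linear_combination x.x * e21
  have a2 : x.t * x.x * g 1 0 = 0 := by linear_combination x.x * e11 + x'.x * e22 + x.y * e10
  have a3 : x'.t * x'.x * g 2 0 = 0 := by linear_combination (-x'.t) * e10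
  have a4 : x'.t * x'.x * g 2 1 = 0 := by linear_combination (-x'.t) * e11 - x.t * e00 - x'.y * e21
  have a5 : x.t * x.x * g 0 0 = x'.t * x'.x * g 2 2 := by
    linear_combination x.x * e01 + x'.t * e12 + x'.y * e22 + x.y * e00
  have b1 : x.t * x.x ≠ 0 → False := fun m => by
    have z20 := (mul_eq_zero.1 a1).resolve_left m
    have z10 := (mul_eq_zero.1 a2).resolve_left m
    have n0 : g 0 0 ≠ 0 := fun z => hn (by rw [z, z10, z20]; ring)
    have m' : x'.t * x'.x ≠ 0 := left_ne_zero_of_mul (a5 ▸ mul_ne_zero m n0)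
    exact hg ⟨z10, z20, (mul_eq_zero.1 a4).resolve_left m'⟩
  refine ⟨by_contra b1, by_contra fun m => b1 ?_⟩
  have z20 := (mul_eq_zero.1 a3).resolve_left m
  have z21 := (mul_eq_zero.1 a4).resolve_left m
  have n2 : g 2 2 ≠ 0 := fun z => hn (by rw [z, z20, z21]; ring)
  exact left_ne_zero_of_mul (a5 ▸ mul_ne_zero m n2)

theorem z_add [CharP K 2] {u v : U K} (h1 : u.t * u.x = 0) (h2 : v.t * v.x = 0) (h3 : (u * v).t * (u * v).x = 0) :
    2 * u.t * v.y + u.t ^ 2 * v.x = 0 := by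
  have two : (2 : K) = 0 := CharTwo.two_eq_zero
  rw [mul_t, mul_x] at h3
  linear_combination u.t * h3 - (u.t + v.t) * h1 - u.t * h2 + u.t * v.y * two

/-- the stable lifts -/
theorem lifts [CharP K 2] (h3 : ∀ l : K, l ≠ 0 → l ^ 3 = 1) (g : GL (Fin 3) K) :
    ∃ φ : U K → U K, (∀ x y, g * pr x * g⁻¹ ∈ (pr (K := K)).range → g * pr y * g⁻¹ ∈ (pr (K := K)).range →
      φ (x * y) = φ x * φ y) ∧ (∀ x, g * pr x * g⁻¹ ∈ (pr (K := K)).range → pr (φ x) = g * pr x * g⁻¹) ∧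
      ∀ c, φ (ep c) = ep ((mu.comp ch) g c) := by
  by_cases hg : g 1 0 = 0 ∧ g 2 0 = 0 ∧ g 2 1 = 0
  · obtain ⟨φ, k1, k2⟩ := tri h3 g hg.1 hg.2.1 hg.2.2
    exact ⟨φ, fun x y _ _ => map_mul φ x y, fun x _ => (k1 x).symm, fun c => k2 _⟩
  have k : ∀ x x' : U K, pr x' = g * pr x * g⁻¹ → (⟨(g * pr x * g⁻¹) 0 1, (g * pr x * g⁻¹) 1 2, (g * pr x * g⁻¹) 0 2,
      ch g * x.z⟩ : U K) = ⟨x'.t, x'.x, x'.y, ch g * x.z⟩ := fun x x' h => by
    rw [← h, pr_val]; rfl
  refine ⟨fun x => ⟨(g * pr x * g⁻¹) 0 1, (g * pr x * g⁻¹) 1 2, (g * pr x * g⁻¹) 0 2, ch g * x.z⟩, ?_, ?_, fun c => ?_⟩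
  · rintro x y ⟨x', hx⟩ ⟨y', hy⟩
    have hxy : pr (x' * y') = g * pr (x * y) * g⁻¹ := by rw [map_mul, map_mul, hx, hy]; group
    have a := not_tri hg hx.symm
    have b := not_tri hg hy.symm
    have c := not_tri hg hxy.symm
    have z1 := z_add a.1 b.1 c.1
    have z2 := z_add a.2 b.2 c.2
    beta_reduce
    rw [k _ _ hx, k _ _ hy, k _ _ hxy]
    ext <;> simp only [mul_t, mul_x, mul_y, mul_z]
    linear_combination (ch g : K) * z1 - z2
  · rintro x ⟨x', hx⟩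
    beta_reduce
    rw [k _ _ hx, ← hx]; exact pr_eq.2 ⟨rfl, rfl, rfl⟩
  · beta_reduce
    rw [k _ 1 (by rw [(pr_one _).2 ⟨c, rfl⟩, map_one, mul_one, mul_inv_cancel])]; rfl

/-- the permutation matrices of `(0 1)` and `(1 2)` -/
def pw : Bool → GL (Fin 3) K
  | true => Matrix.GeneralLinearGroup.mkOfDetNeZero !![0, 1, 0; 1, 0, 0; 0, 0, 1] (by simp [Matrix.det_fin_three])
  | false => Matrix.GeneralLinearGroup.mkOfDetNeZero !![1, 0, 0; 0, 0, 1; 0, 1, 0] (by simp [Matrix.det_fin_three])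

theorem pw_true : ((pw true : GL (Fin 3) K) : Matrix (Fin 3) (Fin 3) K) = !![0, 1, 0; 1, 0, 0; 0, 0, 1] := rfl
theorem pw_false : ((pw false : GL (Fin 3) K) : Matrix (Fin 3) (Fin 3) K) = !![1, 0, 0; 0, 0, 1; 0, 1, 0] := rfl

theorem ch_pw [CharP K 2] (b : Bool) : ch (pw (K := K) b) = 1 := Units.ext (by
  cases b <;> simp [ch_val, pw_true, pw_false, Matrix.det_fin_three, CharTwo.neg_eq])

theorem conj_true (x y z : K) : pw true * pr (⟨0, x, y, z⟩ : U K) * (pw true)⁻¹ = pr ⟨0, y, x, 0⟩ := conj_iff.2 (by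
  rw [pw_true]; ext i j; fin_cases i <;> fin_cases j <;> simp [Matrix.mul_apply, Fin.sum_univ_three])

theorem conj_false (t y z : K) : pw false * pr (⟨t, 0, y, z⟩ : U K) * (pw false)⁻¹ = pr ⟨y, 0, t, 0⟩ := conj_iff.2 (by
  rw [pw_false]; ext i j; fin_cases i <;> fin_cases j <;> simp [Matrix.mul_apply, Fin.sum_univ_three])

/-- `diag (l⁻¹, 1, 1)` -/
def dl (l : Kˣ) : GL (Fin 3) K :=
  Matrix.GeneralLinearGroup.mkOfDetNeZero !![(l : K)⁻¹, 0, 0; 0, 1, 0; 0, 0, 1] (by simp [Matrix.det_fin_three])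

theorem dl_val (l : Kˣ) : ((dl l : GL (Fin 3) K) : Matrix (Fin 3) (Fin 3) K) = !![(l : K)⁻¹, 0, 0; 0, 1, 0; 0, 0, 1] := rfl

theorem ch_dl (l : Kˣ) : ch (dl l) = l := Units.ext (by simp [ch_val, dl_val, Matrix.det_fin_three])

end Gexx

open Gexx in
theorem gex (h : EXT) : GEX := by
  intro K _ _ _ h3
  obtain ⟨G, _, _, ι, ϖ, inj, sur, h1, h2, h4⟩ := h (GL (Fin 3) K) (U K) (Multiplicative K) pr ep (mu.comp ch) ep_inj
    pr_one (fun c x => e_comm _ x) (fun x c => by rw [MonoidHom.comp_apply, ch_pr, map_one]; rfl) (by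
      obtain ⟨n, -, hn⟩ := FiniteField.card K 2
      rw [Nat.card_eq_fintype_card, Fintype.card_multiplicative, hn]
      exact ((Nat.prime_two.coprime_iff_not_dvd).2 odd_index).pow_left _) (lifts h3)
  have lift : ∀ g x, ϖ g = pr x → ∃ z, g = ι (e z * x) := fun g x k => by
    obtain ⟨c, hc⟩ := h2 (g * (ι x)⁻¹) (by rw [map_mul, map_inv, h1, k, mul_inv_cancel])
    exact ⟨c.toAdd, by rw [map_mul, ← ep_apply, ← hc, inv_mul_cancel_right]⟩
  have lift' : ∀ n a a', ϖ n * pr a * (ϖ n)⁻¹ = pr a' → ∃ z, n * ι a * n⁻¹ = ι (e z * a') := fun n a a' k =>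
    lift _ _ (by rw [map_mul, map_mul, map_inv, h1, k])
  have hr : ι.range = (pr (K := K)).range.comap ϖ := by
    ext g
    refine ⟨fun ⟨x, k⟩ => ⟨x, by rw [← k, h1]⟩, fun ⟨x, k⟩ => ?_⟩
    obtain ⟨z, hz⟩ := lift g x k.symm
    exact ⟨_, hz.symm⟩
  refine ⟨G, inferInstance, inferInstance, ι, ch.comp ϖ, inj, by rw [hr, index_comap_of_surjective _ sur]; exact odd_index,
    fun g z => h4 g (Multiplicative.ofAdd z), fun b => ?_, fun l => ?_⟩
  · obtain ⟨n, hn⟩ := sur (pw b)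
    refine ⟨n, by rw [MonoidHom.comp_apply, hn, ch_pw], ?_⟩
    cases b
    · refine ⟨?_, ?_⟩
      · rintro ⟨t, x, y, z⟩ ha
        obtain rfl : x = 0 := mem_Q0.1 ha
        obtain ⟨w, hw⟩ := lift' n _ _ (hn ▸ conj_false t y z)
        exact ⟨_, mem_Q0.2 (by simp), hw⟩
      · obtain ⟨w, hw⟩ := lift' n _ _ (hn ▸ conj_false (0 : K) 1 0)
        exact ⟨_, fun k => by simpa using k.1, hw⟩
    · refine ⟨?_, ?_⟩
      · rintro ⟨t, x, y, z⟩ ha
        obtain rfl : t = 0 := mem_A.1 ha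
        obtain ⟨w, hw⟩ := lift' n _ _ (hn ▸ conj_true x y z)
        exact ⟨_, mem_A.2 (by simp), hw⟩
      · obtain ⟨w, hw⟩ := lift' n _ _ (hn ▸ conj_true (0 : K) 1 0)
        exact ⟨_, fun k => by simpa using k.2, hw⟩
  · obtain ⟨g, hg⟩ := sur (dl l)
    refine ⟨g, by rw [MonoidHom.comp_apply, hg, ch_dl], fun s => ?_⟩
    obtain ⟨φ, k, -⟩ := tri h3 (dl l) (by rw [dl_val]; rfl) (by rw [dl_val]; rfl) (by rw [dl_val]; rfl)
    obtain ⟨w, hw⟩ := lift' g s _ (hg ▸ k s)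
    exact ⟨_, hw⟩

end CL.SpF
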