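/-
Project SpF: the part `LC2` (a Casimir element).
-/
import Cfsg.Agent.SpF.Defs
import Mathlib.FieldTheory.ChevalleyWarning

set_option autoImplicit false

namespace CL.SpF

open Subgroup Cfsg Cfsg.FusionSystem CL.Fus

namespace LC2x

open MvPolynomial

variable {K : Type} [Field K] {p : ℕ} [Fact p.Prime] [Algebra (ZMod p) K] {n : ℕ}

/-- `φ` is a polynomial function of degree at most `k` in the coordinates -/
def Dg (bs : Module.Basis (Fin n) (ZMod p) K) (k : ℕ) (φ : K → ZMod p) : Prop :=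
  ∃ P : MvPolynomial (Fin n) (ZMod p), P.totalDegree ≤ k ∧ ∀ c, eval c P = φ (bs.equivFun.symm c)

variable {bs : Module.Basis (Fin n) (ZMod p) K} {j k : ℕ} {φ ψ : K → ZMod p}

theorem Dg.const (a : ZMod p) : Dg bs k fun _ => a := ⟨C a, by simp, fun _ => eval_C a⟩

theorem Dg.mono (h : Dg bs j φ) (e : j ≤ k) : Dg bs k φ :=
  have ⟨P, a, b⟩ := h
  ⟨P, a.trans e, b⟩

theorem Dg.add (h : Dg bs k φ) (h' : Dg bs k ψ) : Dg bs k fun t => φ t + ψ t :=
  have ⟨P, a, b⟩ := h
  have ⟨Q, c, d⟩ := h'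
  ⟨P + Q, (totalDegree_add P Q).trans (max_le a c), fun x => by rw [map_add, b, d]⟩

theorem Dg.mul (h : Dg bs j φ) (h' : Dg bs k ψ) : Dg bs (j + k) fun t => φ t * ψ t :=
  have ⟨P, a, b⟩ := h
  have ⟨Q, c, d⟩ := h'
  ⟨P * Q, (totalDegree_mul P Q).trans (add_le_add a c), fun x => by rw [map_mul, b, d]⟩

theorem Dg.sum {ι : Type} (s : Finset ι) {f : ι → K → ZMod p} (h : ∀ i, Dg bs k (f i)) :
    Dg bs k fun t => ∑ i ∈ s, f i t := by
  classical
  induction s using Finset.induction_on with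
  | empty => simpa using Dg.const 0
  | insert a s ha ih => simpa only [Finset.sum_insert ha] using (h a).add ih

theorem Dg.coord (i : Fin n) : Dg bs 1 fun t => bs.coord i t :=
  ⟨X i, (totalDegree_X i).le, fun c => by
    rw [eval_X]
    exact (congrFun (bs.equivFun.apply_symm_apply c) i).symm⟩

theorem Dg.lin (m : K →+ ZMod p) : Dg bs 1 m := by
  have h := Dg.sum (bs := bs) Finset.univ fun i => (Dg.coord i).mul (Dg.const (k := 0) (m (bs i)))
  convert h using 2 with t
  conv_lhs => rw [← bs.sum_repr t, map_sum]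
  exact Finset.sum_congr rfl fun i _ => ZMod.map_smul m _ _

theorem Dg.sq (m : K →+ ZMod p) : Dg bs 2 fun t => m (t ^ 2) := by
  have h := Dg.sum (bs := bs) Finset.univ fun i =>
    (Dg.coord i).mul (Dg.lin (m.comp (AddMonoidHom.mulLeft (bs i))))
  convert h using 2 with t
  have e : t ^ 2 = ∑ i, bs.repr t i • (bs i * t) := by
    simp only [← smul_mul_assoc, ← Finset.sum_mul, bs.sum_repr, pow_two]
  rw [e, map_sum]
  exact Finset.sum_congr rfl fun i _ => ZMod.map_smul m _ _

theorem Dg.mt (m : V3 K →+ ZMod p) (v : V3 K) : Dg bs 2 fun t => m (Mt t v) := by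
  let m1 : K →+ ZMod p := m.comp (AddMonoidHom.mk' (fun t => ((0 : K), t * v.1, 2 * t * v.2.1))
    fun s t => by ext <;> simp <;> ring)
  let m2 : K →+ ZMod p := m.comp (AddMonoidHom.mk' (fun t => ((0 : K), (0 : K), t * v.1))
    fun s t => by ext <;> simp [add_mul])
  have h := ((Dg.const (bs := bs) (m v)).add ((Dg.lin m1).mono one_le_two)).add (Dg.sq m2)
  convert h using 2 with t
  change _ = m v + m (0, t * v.1, 2 * t * v.2.1) + m (0, 0, t ^ 2 * v.1)
  rw [← map_add, ← map_add]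
  congr 1
  ext <;> simp [Mt_apply]

variable [Fintype K]

theorem Dg.sum_zero (h : Dg bs k φ) (hk : k < n * (p - 1)) : ∑ t, φ t = 0 := by
  obtain ⟨P, a, b⟩ := h
  have h1 := sum_eval_eq_zero P (by rw [ZMod.card, Fintype.card_fin, mul_comm]; exact a.trans_lt hk)
  simp only [b] at h1
  rw [← h1]
  exact (Equiv.sum_comp bs.equivFun.symm.toEquiv φ).symm

theorem nondeg (bs : Module.Basis (Fin n) (ZMod p) K) (b : K →+ ZMod p)
    (h : ∀ a : K →+ ZMod p, ∑ z, a z⁻¹ * b z = 0) (z : K) : b z = 0 := by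
  classical
  by_contra hb
  have : Module.Finite (ZMod p) K := Module.Finite.of_basis bs
  let b' := b.toZModLinearMap p
  let Ψ : Module.Dual (ZMod p) K → K := fun c => ∑ z, c z • z⁻¹
  have h0 : Ψ b' = 0 := bs.forall_coord_eq_zero_iff.1 fun i => by
    rw [← h (bs.coord i).toAddMonoidHom, map_sum]
    exact Finset.sum_congr rfl fun z _ => by rw [map_smul, smul_eq_mul, mul_comm]; rfl
  let f : K →ₗ[ZMod p] Module.Dual (ZMod p) K := (LinearMap.mul (ZMod p) K).compr₂ b'
  have hf : ∀ k z, f k z = b' (k * z) := fun _ _ => rfl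
  have h1 : ∀ k, Ψ (f k) = 0 := fun k => by
    by_cases hk : k = 0
    · simp [Ψ, hk]
    · have e : Ψ (f k) = k * Ψ b' := by
        simp only [Ψ, hf, Finset.mul_sum]
        rw [← Equiv.sum_comp (Equiv.mulLeft₀ k hk) fun w => k * (b' w • w⁻¹)]
        refine Finset.sum_congr rfl fun w _ => ?_
        rw [Equiv.mulLeft₀_apply, mul_smul_comm, mul_inv, mul_inv_cancel_left₀ hk]
      rw [e, h0, mul_zero]
  have hi : Function.Injective f := (injective_iff_map_eq_zero f).2 fun k hk => by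
    by_contra hk0
    have := LinearMap.congr_fun hk (k⁻¹ * z)
    rw [hf, mul_inv_cancel_left₀ hk0] at this
    exact hb this
  have hs := (LinearMap.injective_iff_surjective_of_finrank_eq_finrank Subspace.dual_finrank_eq.symm).1 hi
  have h2 : ∑ i, Ψ (bs.coord i) * bs i = 0 := Finset.sum_eq_zero fun i _ => by
    obtain ⟨k, hk⟩ := hs (bs.coord i)
    rw [← hk, h1, zero_mul]
  have h3 : ∑ i, Ψ (bs.coord i) * bs i = ∑ w : K, (1 - if w = 0 then 1 else 0) := by
    simp only [Ψ, Finset.sum_mul]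
    rw [Finset.sum_comm]
    refine Finset.sum_congr rfl fun w _ => ?_
    simp only [smul_mul_assoc, ← mul_smul_comm, ← Finset.mul_sum, Module.Basis.coord_apply, bs.sum_repr]
    split_ifs with hw
    · simp [hw]
    · rw [inv_mul_cancel₀ hw, sub_zero]
  rw [h2, Finset.sum_sub_distrib] at h3
  simp at h3

end LC2x

open LC2x in
theorem lc2 (h1 : CONST) (h2 : BSa) : LC2 := by
  intro K _ _ p _ _ hp n hq hn L hL h01 g hg
  let _ := ZMod.algebra K p
  have : Module.Finite (ZMod p) K := Module.Finite.of_finite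
  have hd : Module.finrank (ZMod p) K = n := by
    have e := Module.natCard_eq_pow_finrank (K := ZMod p) (V := K)
    rw [Nat.card_eq_fintype_card, hq, Nat.card_zmod] at e
    exact (Nat.pow_right_injective (Fact.out : p.Prime).two_le e).symm
  let bs := Module.finBasisOfFinrankEq (ZMod p) K hd
  have key : ∀ l2 : V3 K →+ ZMod p, (∀ z, l2 (0, 0, z) = 0) → ∀ z, l2 (g (0, 0, z)) = 0 := fun l2 hl => by
    refine nondeg bs (AddMonoidHom.mk' (fun z => l2 (g (0, 0, z))) fun s t => by
      rw [← map_add, ← map_add]; simp) fun a => ?_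
    let l1 : V3 K →+ ZMod p := AddMonoidHom.mk' (fun v => a (g⁻¹ v).2.2) fun s t => by
      rw [map_add, Prod.snd_add, Prod.snd_add, map_add]
    have e := h1 K p hp L (ZMod p) (fun x => ∑ z : K, l1 (x (0, 0, z⁻¹)) * l2 (x (0, 0, z))) hL
      (fun x _ b hb hZ => by
        obtain ⟨τ, hτ⟩ := h2 K p hp L hL h01 b hb hZ
        simp only [au_mul, hτ, map_inv₀]
        exact Equiv.sum_comp τ.toEquiv fun z => l1 (x (0, 0, z⁻¹)) * l2 (x (0, 0, z)))
      (fun x _ y _ => by
        rw [Finset.sum_comm]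
        exact Finset.sum_eq_zero fun z _ =>
          ((Dg.mt (bs := bs) (l1.comp x.toAddEquiv.toAddMonoidHom) (y (0, 0, z⁻¹))).mul
            (Dg.mt (l2.comp x.toAddEquiv.toAddMonoidHom) (y (0, 0, z)))).sum_zero hn) g hg
    simp only [au_one, hl, mul_zero, Finset.sum_const_zero] at e
    rw [← e]
    refine Finset.sum_congr rfl fun z _ => ?_
    change _ = a (g⁻¹ (g _)).2.2 * _
    rw [au_inv_apply]; rfl
  intro z
  refine ⟨(g (0, 0, z)).2.2, Prod.ext ?_ (Prod.ext ?_ rfl)⟩
  · exact bs.forall_coord_eq_zero_iff.1 fun i =>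
      key ((bs.coord i).toAddMonoidHom.comp (AddMonoidHom.fst K _)) (fun _ => map_zero (bs.coord i)) z
  · exact bs.forall_coord_eq_zero_iff.1 fun i =>
      key ((bs.coord i).toAddMonoidHom.comp ((AddMonoidHom.fst K K).comp (AddMonoidHom.snd K _)))
        (fun _ => map_zero (bs.coord i)) z

end CL.SpF
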