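/-
Project SpF: two conjugates of the fixed space of a quadratic Sylow subgroup.
-/
import Cfsg.Agent.SpF.Defs

set_option autoImplicit false
set_option linter.unusedSectionVars false

namespace CL.SpF

open Subgroup Cfsg Cfsg.FusionSystem CL.Fus

namespace MAXx

variable {p : ℕ} [Fact p.Prime] {V I : Type} [AddCommGroup V] [Finite V] [AddCommGroup I] [Finite I]
  {L T : Subgroup (Au V)} {W : AddSubgroup V} {n : I → Au V}

/-- the elements of `W` mapped into `W` -/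
def Wg (W : AddSubgroup V) (g : Au V) : AddSubgroup V where
  carrier := {w | w ∈ W ∧ g w ∈ W}
  add_mem' := fun ha hb => ⟨W.add_mem ha.1 hb.1, by rw [map_add]; exact W.add_mem ha.2 hb.2⟩
  zero_mem' := ⟨W.zero_mem, by rw [map_zero]; exact W.zero_mem⟩
  neg_mem' := fun ha => ⟨W.neg_mem ha.1, by rw [map_neg]; exact W.neg_mem ha.2⟩

/-- the stabiliser of `W` in `L` -/
def Bs (L : Subgroup (Au V)) (W : AddSubgroup V) : Subgroup (Au V) where
  carrier := {b | b ∈ L ∧ ∀ w ∈ W, b w ∈ W}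
  mul_mem' := fun ha hb => ⟨L.mul_mem ha.1 hb.1, fun w hw => ha.2 _ (hb.2 w hw)⟩
  one_mem' := ⟨L.one_mem, fun _ hw => hw⟩
  inv_mem' := fun ha => ⟨L.inv_mem ha.1, fun _ hw => inv_mem_of (W := (W : Set V)) ha.2 hw⟩

theorem sr (hS : SylIn p T L) (hT : ∀ t ∈ T, ∀ w ∈ W, t w = w) (hn : ∀ s, n s ∈ T)
    (hf : ∀ s, s ≠ 0 → ∀ v, n s v = v → v ∈ W) {g : Au V} (hg : g ∈ L) {s : I} (hs : s ≠ 0)
    (h : ∀ w ∈ W, (g⁻¹ * n s * g) w ∈ W) : ∀ w ∈ W, g w ∈ W := fun w hw => by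
  have h1 : SylIn p T (Bs L W) := hS.mono (fun t ht => ⟨hS.le ht, fun w hw => by rwa [hT t ht w hw]⟩) fun _ hb => hb.1
  have h2 : IsPGroup p (zpowers (g⁻¹ * n s * g)) := (hS.map_conj g⁻¹).isPGroup.to_le
    (zpowers_le.2 ⟨n s, hn s, by simp⟩)
  obtain ⟨b, hb, e⟩ := h1.exists_conj_le h2
    (zpowers_le.2 ⟨L.mul_mem (L.mul_mem (L.inv_mem hg) (hS.le (hn s))) hg, h⟩)
  have e1 := hT _ (e _ (mem_zpowers _)) _ (hb.2 w hw)
  rw [au_mul, au_mul, au_inv_apply] at e1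
  have e2 := congrArg g (b.injective e1)
  rw [au_mul, au_mul, au_apply_inv] at e2
  exact hf s hs _ e2

theorem two (hS : SylIn p T L) (hT : ∀ t ∈ T, ∀ w ∈ W, t w = w) (hn : ∀ s, n s ∈ T)
    (hf : ∀ s, s ≠ 0 → ∀ v, n s v = v → v ∈ W) {g : Au V} (hg : g ∈ L)
    (hm : ∀ b, (b ∈ L ∧ ∃ w ∈ W, b w ∉ W) → Nat.card (Wg W b) ≤ Nat.card (Wg W g)) :
    ∀ w ∈ W, g w ∉ W → ∀ s, s ≠ 0 → ∀ w' ∈ W, n s (g w) - g w ≠ g w' := fun w hw hgw s hs w' hw' e => by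
  have h1 := hm (g⁻¹ * n s * g) ⟨L.mul_mem (L.mul_mem (L.inv_mem hg) (hS.le (hn s))) hg, by
    by_contra! k
    exact hgw (sr hS hT hn hf hg hs k w hw)⟩
  have h2 : Wg W g ≤ Wg W (g⁻¹ * n s * g) := fun u hu =>
    ⟨hu.1, by rw [au_mul, au_mul, hT _ (hn s) _ hu.2, au_inv_apply]; exact hu.1⟩
  have h3 : w ∈ Wg W (g⁻¹ * n s * g) := ⟨hw, by
    rw [au_mul, au_mul, sub_eq_iff_eq_add.1 e, ← map_add, au_inv_apply]
    exact W.add_mem hw' hw⟩
  rw [← AddSubgroup.eq_of_le_of_card_ge h2 h1] at h3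
  exact hgw h3.2

theorem lower (hc : Nat.card V = Nat.card W * Nat.card I) (g : Au V) :
    ∃ r, Nat.card W = r * Nat.card (Wg W g) ∧ r ≤ Nat.card I ∧
      (Nat.card I ≤ r → ∀ v, ∃ w ∈ W, ∃ w' ∈ W, v = w + g w') := by
  let f : W →+ V ⧸ W := (QuotientAddGroup.mk' W).comp (g.toAddEquiv.toAddMonoidHom.comp W.subtype)
  have hq : Nat.card (V ⧸ W) = Nat.card I := by
    have := W.card_eq_card_quotient_mul_card_addSubgroup
    rw [hc, mul_comm] at this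
    exact (Nat.eq_of_mul_eq_mul_right Nat.card_pos this).symm
  have hk : f.ker = (Wg W g).addSubgroupOf W := AddSubgroup.ext fun w =>
    (QuotientAddGroup.eq_zero_iff _).trans ⟨fun k => ⟨w.2, k⟩, fun k => k.2⟩
  refine ⟨Nat.card f.range, ?_, hq ▸ f.range.card_le_card_addGroup, fun k v => ?_⟩
  · rw [f.ker.card_eq_card_quotient_mul_card_addSubgroup, Nat.card_congr (QuotientAddGroup.quotientKerEquivRange f).toEquiv,
      hk, Nat.card_congr (AddSubgroup.addSubgroupOfEquivOfLe (fun _ h => h.1 : Wg W g ≤ W)).toEquiv]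
  · have : f.range = ⊤ := f.range.eq_top_of_le_card (hq ▸ k)
    obtain ⟨w', e⟩ : (v : V ⧸ W) ∈ f.range := this ▸ AddSubgroup.mem_top _
    exact ⟨-g w' + v, QuotientAddGroup.eq.1 e, w', w'.2, by abel⟩

theorem upper (hq : ∀ s v, n s v - v ∈ W) (ha : ∀ s s' v, n (s + s') v - v = (n s v - v) + (n s' v - v)) {g : Au V}
    {v : V} (h : ∀ s, s ≠ 0 → ∀ w' ∈ W, n s v - v ≠ g w') : Nat.card I * Nat.card (Wg W g) ≤ Nat.card W := by
  rw [← Nat.card_prod]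
  refine Nat.card_le_card_of_injective (fun x => ⟨n x.1 v - v + g x.2.1, W.add_mem (hq _ _) x.2.2.2⟩) ?_
  rintro ⟨s, a⟩ ⟨s', b⟩ e
  have e1 : n s v - v + g a.1 = n s' v - v + g b.1 := congrArg Subtype.val e
  obtain rfl : s = s' := by
    by_contra k
    refine h _ (sub_ne_zero.2 k) _ (W.sub_mem b.2.1 a.2.1) ?_
    have := ha (s - s') s' v
    rw [sub_add_cancel] at this
    rw [map_sub]
    linear_combination (norm := abel) e1 - this
  rw [Subtype.ext (g.injective (add_left_cancel e1))]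

theorem core (hS : SylIn p T L) (hT : ∀ t ∈ T, ∀ w ∈ W, t w = w) (hn : ∀ s, n s ∈ T)
    (hf : ∀ s, s ≠ 0 → ∀ v, n s v = v → v ∈ W) (hq : ∀ s v, n s v - v ∈ W)
    (ha : ∀ s s' v, n (s + s') v - v = (n s v - v) + (n s' v - v)) (hc : Nat.card V = Nat.card W * Nat.card I)
    {g : Au V} (hg : g ∈ L) (hw : ∃ w ∈ W, g w ∉ W) : (∀ v, ∃ w ∈ W, ∃ w' ∈ W, v = w + g w') ∧
      ∀ w ∈ W, g w ∉ W → ∀ s, s ≠ 0 → ∀ w' ∈ W, n s (g w) - g w ≠ g w' := by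
  obtain ⟨g0, ⟨hg0, w0, hw0, k0⟩, hm⟩ := exists_max_of_bdd (fun b : Au V => b ∈ L ∧ ∃ w ∈ W, b w ∉ W) ⟨g, hg, hw⟩
    (fun b => Nat.card (Wg W b)) (Nat.card V) fun b _ => (Wg W b).card_le_card_addGroup
  have h1 := upper hq ha (two hS hT hn hf hg0 hm w0 hw0 k0)
  obtain ⟨r, e, r1, r2⟩ := lower hc g
  have h2 := hm g ⟨hg, hw⟩
  have h3 : Nat.card (Wg W g0) ≤ Nat.card (Wg W g) :=
    Nat.le_of_mul_le_mul_left (h1.trans (e.le.trans (Nat.mul_le_mul_right _ r1))) Nat.card_pos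
  refine ⟨r2 (Nat.le_of_mul_le_mul_right (((Nat.mul_le_mul_left _ h2).trans h1).trans e.le) Nat.card_pos),
    two hS hT hn hf hg fun b hb => (hm b hb).trans h3⟩

end MAXx

theorem max : MAX := by
  intro p _ G V I _ _ _ _ _ L T _ ρ W n hA hS hT hn hf hq ha hc g hg hw
  obtain ⟨φ, hφ⟩ := hA.exists_hom
  have h1 : SylIn p ((T.subgroupOf L).map φ) ((L.subgroupOf L).map φ) :=
    ((sylIn_subgroupOf_iff hS.le le_rfl).2 hS).map φ
  have := MAXx.core (W := W) (n := fun s => φ ⟨n s, hS.le (hn s)⟩) h1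
    (by rintro _ ⟨t, ht, rfl⟩ w hw; rw [hφ]; exact hT _ ht w hw) (fun s => ⟨_, hn s, rfl⟩)
    (by simpa only [hφ] using hf) (by simpa only [hφ] using hq) (by simpa only [hφ] using ha) hc
    (g := φ ⟨g, hg⟩) ⟨_, hg, rfl⟩ (by simpa only [hφ] using hw)
  simpa only [hφ] using this

end CL.SpF
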