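/-
Project SpF (S5260): the centraliser of the involution `dg (-1)` for `q = 9`.
-/
import Cfsg.Agent.SpF.Defs
import Mathlib.NumberTheory.LegendreSymbol.QuadraticChar.Basic

set_option autoImplicit false

namespace CL.SpF

open Subgroup Cfsg Cfsg.FusionSystem CL.Fus

namespace Q9Ax

theorem fix_pow {V : Type} [AddCommGroup V] {g : Au V} {v : V} (h : g v = v) (n : ℕ) : (g ^ n) v = v := by
  induction n with
  | zero => rfl
  | succ n ih => rw [pow_succ, au_mul, h, ih]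

theorem twelve {V : Type} [AddCommGroup V] {j : Au V} {u c : V} (h3 : ∀ v : V, v + v + v = 0) (hc : j c = c) {b : ℤ}
    (hb : b = 0 ∨ b = 1 ∨ b = -1) (h : j (j u) = c + (2 * b) • j u - u) : (j ^ 12) u = u := by
  have e3 : ∀ v, (j ^ 3) v = j (j (j v)) := fun v => by rw [pow_three, au_mul, au_mul]
  rcases hb with rfl | rfl | rfl
  · have : (j ^ 4) u = u := by
      rw [pow_succ, au_mul, e3, h]
      simp only [map_add, map_sub, map_zsmul, hc, h]
      module
    exact fix_pow this 3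
  · have : (j ^ 3) u = u := by
      rw [e3, h]
      simp only [map_add, map_sub, map_zsmul, hc, h]
      linear_combination (norm := module) h3 c + h3 (j u) - h3 u
    exact fix_pow this 4
  · have h1 : (j ^ 3) u = -c - u := by
      rw [e3, h]
      simp only [map_add, map_sub, map_zsmul, hc, h]
      linear_combination (norm := module) h3 (j u) + h3 u
    have : (j ^ 3 * j ^ 3) u = u := by
      rw [au_mul, h1, map_sub, map_neg, h1, fix_pow hc]
      abel
    exact fix_pow this 2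

variable {K : Type} [Field K] [CharP K 3]

theorem three (v : V3 K) : v + v + v = 0 := by
  have : (3 : K) = 0 := CharP.cast_eq_zero K 3
  ext <;> simp <;> linear_combination (exp := 1) _ * this

theorem two_ne : (2 : K) ≠ 0 := fun e => by
  have : (3 : K) = 0 := CharP.cast_eq_zero K 3
  exact one_ne_zero (α := K) (by linear_combination this - e)

theorem eq_zero_of_neg {a : K} (h : a = -a) : a = 0 :=
  (mul_eq_zero.1 (by linear_combination h : 2 * a = 0)).resolve_left two_ne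

variable [Fintype K]

theorem exists_i (h : Fintype.card K = 9) : ∃ i : K, i * i = -1 ∧
    ∀ z : K, ∃ a b : ℤ, (b = 0 ∨ b = 1 ∨ b = -1) ∧ z = a + b * i := by
  obtain ⟨i, hi⟩ := (FiniteField.isSquare_neg_one_iff (F := K)).2 (by rw [h]; decide)
  refine ⟨i, hi.symm, fun z => ?_⟩
  let φ := ZMod.castHom (dvd_refl 3) K
  have inj : Function.Injective fun p : ZMod 3 × ZMod 3 => φ p.1 + φ p.2 * i := fun p q e => by
    have h1 : φ ((p.1 - q.1) ^ 2 + (p.2 - q.2) ^ 2) = 0 := by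
      simp only [map_add, map_pow, map_sub]
      linear_combination (φ p.1 - φ q.1 - (φ p.2 - φ q.2) * i) * e - (φ p.2 - φ q.2) ^ 2 * hi
    have h2 := (by decide : ∀ a b : ZMod 3, a ^ 2 + b ^ 2 = 0 → a = 0 ∧ b = 0) _ _
      (φ.injective (h1.trans (map_zero φ).symm))
    exact Prod.ext (sub_eq_zero.1 h2.1) (sub_eq_zero.1 h2.2)
  obtain ⟨⟨a, b⟩, rfl⟩ := ((Fintype.bijective_iff_injective_and_card _).2 ⟨inj, by simp [h]⟩).2 z
  have k : ∀ a : ZMod 3, ∃ n : ℤ, (n = 0 ∨ n = 1 ∨ n = -1) ∧ φ a = n := fun a => by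
    rcases (by decide : ∀ a : ZMod 3, a = 0 ∨ a = 1 ∨ a = -1) a with rfl | rfl | rfl
    exacts [⟨0, by simp, by simp⟩, ⟨1, by simp, by simp⟩, ⟨-1, by simp, by simp⟩]
  obtain ⟨m, -, hm⟩ := k a
  obtain ⟨n, hn, hn'⟩ := k b
  exact ⟨m, n, hn, by simp only [hm, hn']⟩

variable (h1 : NC) (h2 : BSb) (h9 : Fintype.card K = 9) {L : Subgroup (Au (V3 K))} (hL : VHyp 3 L)
include h2 h9 hL

theorem eq_one_of_PZ {j : Au (V3 K)} (hj : j ∈ L) (hz : PZ j) (hy : ∀ y, j (0, y, 0) = (0, y, 0)) : j = 1 := by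
  haveI : Fact (Nat.Prime 3) := ⟨Nat.prime_three⟩
  obtain ⟨s, l, τ, -, rfl⟩ := h2 K 3 (by decide) (by omega) L hL j hj hz
  have k := hy 1
  simp only [au_mul, fr_apply, dg_apply, Mt_apply, map_zero, map_one, mul_zero, mul_one, add_zero, zero_add,
    Prod.mk.injEq] at k
  have hl : l = 1 := Units.ext k.2.1
  have hs : s = 0 := by
    have := k.2.2
    rw [k.2.1, mul_one] at this
    exact (mul_eq_zero.1 this).resolve_left two_ne
  subst hl hs
  rw [Mt_zero, dg_one, one_mul, one_mul] at hy ⊢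
  have : ∀ y, τ y = y := fun y => congrArg (fun v : V3 K => v.2.1) (hy y)
  exact au_ext fun v => by rw [fr_apply, this, this, this]; rfl

include h1

theorem no_three {r : Au (V3 K)} (hr : r ∈ L) (c : r * dg (-1) = dg (-1) * r) (h3 : r ^ 3 = 1) : r = 1 := by
  haveI : Fact (Nat.Prime 3) := ⟨Nat.prime_three⟩
  have hp : IsPGroup 3 (zpowers r) := by
    rintro ⟨_, n, rfl⟩
    refine ⟨1, Subtype.ext ?_⟩
    change (r ^ n) ^ 3 ^ 1 = 1
    rw [pow_one, ← zpow_natCast, ← zpow_mul, mul_comm, zpow_mul, zpow_natCast, h3, one_zpow]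
  obtain ⟨y, hy, k⟩ := hL.1.exists_conj_le hp (zpowers_le.2 hr)
  obtain ⟨t, ht⟩ := k r (mem_zpowers r)
  by_contra r1
  have t0 : t ≠ 0 := by
    rintro rfl
    rw [Mt_zero] at ht
    exact r1 (conj_eq_one_iff.1 ht.symm)
  have cm : Mt t * (y * dg (-1) * y⁻¹) = y * dg (-1) * y⁻¹ * Mt t := by
    rw [ht, conj_mul, conj_mul, c]
  have pz : PZ (y * dg (-1) * y⁻¹) := fun z => by
    have e := congrArg (fun g : Au (V3 K) => g (0, 0, z)) cm
    simp only [au_mul _ (y * dg (-1) * y⁻¹), au_mul _ (Mt t)] at e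
    rw [show Mt t ((0 : K), (0 : K), z) = (0, 0, z) by simp [Mt_apply]] at e
    obtain ⟨⟨a, b, w⟩, hv⟩ : ∃ v, v = (y * dg (-1) * y⁻¹ : Au (V3 K)) (0, 0, z) := ⟨_, rfl⟩
    rw [← hv] at e ⊢
    simp only [Mt_apply, Prod.mk.injEq, true_and, add_eq_left, mul_eq_zero, t0, false_or] at e
    obtain ⟨rfl, e⟩ := e
    have : 2 * t * b = 0 := by linear_combination e
    obtain rfl : b = 0 := (mul_eq_zero.1 this).resolve_left (mul_ne_zero two_ne t0)
    exact ⟨w, rfl⟩
  obtain ⟨s, l, τ, -, e⟩ := h2 K 3 (by decide) (by omega) L hL _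
    (mul_mem (mul_mem hy (hL.2.2 _)) (inv_mem hy)) pz
  have hτ := h1 K h9 y s l τ e
  have f1 : fr τ = 1 := au_ext fun v => by rw [fr_apply, hτ, hτ, hτ]; rfl
  rw [f1, mul_one] at e
  have hl : l = 1 := by
    rw [e] at cm
    have := congrArg (fun g : Au (V3 K) => (g (1, 0, 0)).2.1) cm
    simp only [au_mul, dg_apply, Mt_apply, mul_zero, mul_one, zero_add] at this
    have h4 : t * l * (l - 1) = 0 := by linear_combination this
    exact Units.ext (sub_eq_zero.1 ((mul_eq_zero.1 h4).resolve_left (mul_ne_zero t0 l.ne_zero)))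
  rw [hl, dg_one, mul_one] at e
  have hs : s + s = 0 := Mt_inj (by
    rw [Mt_add, ← e, conj_mul, ← dg_mul, neg_mul_neg, one_mul, dg_one, Mt_zero, mul_one, mul_inv_cancel])
  rw [eq_zero_of_neg (eq_neg_of_add_eq_zero_left hs), Mt_zero, conj_eq_one_iff] at e
  have := congrArg (fun g : Au (V3 K) => (g (0, 1, 0)).2.1) e
  simp only [dg_apply, Units.val_neg, Units.val_one, mul_one] at this
  exact one_ne_zero (eq_zero_of_neg this.symm)

/-- an element of the centraliser fixing `Y` pointwise is trivial -/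
theorem eq_one_of_fix {k : Au (V3 K)} (hk : k ∈ L) (c : k * dg (-1) = dg (-1) * k)
    (hy : ∀ y, k (0, y, 0) = (0, y, 0)) : k = 1 := by
  obtain ⟨i, ii, hz⟩ := exists_i h9
  have i0 : i ≠ 0 := fun e => by simp [e] at ii
  let J : Subgroup (Au (V3 K)) :=
    { carrier := {k | k ∈ L ∧ Commute k (dg (-1)) ∧ ∀ y, k (0, y, 0) = (0, y, 0)}
      one_mem' := ⟨one_mem _, Commute.one_left _, fun _ => rfl⟩
      mul_mem' := fun a b => ⟨mul_mem a.1 b.1, a.2.1.mul_left b.2.1, fun y => by rw [au_mul, b.2.2, a.2.2]⟩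
      inv_mem' := fun a => ⟨inv_mem a.1, a.2.1.inv_left, fun y => by rw [← a.2.2, au_inv_apply, a.2.2]⟩ }
  obtain ⟨ρ, hρ⟩ : ∃ ρ, ρ = dg (Units.mk0 i i0) := ⟨_, rfl⟩
  have ρρ : ρ * ρ = dg (-1) := by
    rw [hρ, ← dg_mul]
    exact congrArg dg (Units.ext ii)
  have ρa : ∀ v : V3 K, ρ v = (-v.1, i * v.2.1, v.2.2) := fun v => by
    rw [hρ, dg_apply, Units.val_mk0, pow_two, ii, neg_one_mul]
  have cJ : ∀ k ∈ J, ρ * k * ρ⁻¹ ∈ J := fun k hk => by
    have h0 : ρ ∈ L := hρ ▸ hL.2.2 _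
    have h3 : Commute ρ (dg (-1)) := ρρ ▸ (Commute.refl ρ).mul_right (Commute.refl ρ)
    refine ⟨mul_mem (mul_mem h0 hk.1) (inv_mem h0), (h3.mul_left hk.2.1).mul_left h3.inv_left, fun y => ?_⟩
    have e : ((0 : K), y, (0 : K)) = ρ (0, i⁻¹ * y, 0) := by rw [ρa]; simp [i0]
    rw [e, au_mul, au_inv_apply, au_mul, hk.2.2]
  have fpf : ∀ k ∈ J, ρ * k * ρ⁻¹ = k → k = 1 := fun k hk e => by
    refine eq_one_of_PZ h2 h9 hL hk.1 (fun z => ?_) hk.2.2
    have e1 := congrArg (fun g : Au (V3 K) => g (0, 0, z)) (mul_inv_eq_iff_eq_mul.1 e)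
    simp only [au_mul] at e1
    rw [ρa (0, 0, z), neg_zero, mul_zero] at e1
    obtain ⟨⟨a, b, w⟩, hv⟩ : ∃ v, v = k (0, 0, z) := ⟨_, rfl⟩
    rw [← hv] at e1 ⊢
    simp only [ρa, Prod.mk.injEq, and_true] at e1
    have h4 : (i - 1) * b = 0 := by linear_combination e1.2
    have h5 : i - 1 ≠ 0 := fun e => two_ne (K := K) (by linear_combination ii - (i + 1) * e)
    exact ⟨w, by rw [eq_zero_of_neg e1.1.symm, (mul_eq_zero.1 h4).resolve_left h5]⟩
  have inv : ∀ j ∈ J, ρ * j * ρ⁻¹ = j⁻¹ → j = 1 := fun j hj e => by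
    have ρu : ρ⁻¹ (0, 0, i) = (0, 0, i) := by
      conv_lhs => rw [show ((0 : K), (0 : K), i) = ρ (0, 0, i) by rw [ρa, neg_zero, mul_zero], au_inv_apply]
    have je : j (0, 0, 1) = (0, 0, 1) := hL.2.1 j hj.1
    have hu : (j ^ 12) (0, 0, i) = (0, 0, i) := by
      have e1 := congrArg (fun g : Au (V3 K) => (g (0, 0, i)).2.1) hj.2.1.eq
      simp only [au_mul, dg_apply, mul_zero, Units.val_neg, Units.val_one, neg_one_mul] at e1
      obtain ⟨a, b, hb, hab⟩ := hz (j (0, 0, i)).2.2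
      refine twelve three (c := (2 * a) • ((0 : K), (0 : K), (1 : K))) (by rw [map_zsmul, je]) hb ?_
      have e2 : j (0, 0, i) + j⁻¹ (0, 0, i) = (2 * a) • ((0 : K), (0 : K), (1 : K)) + (2 * b) • (0, 0, i) := by
        rw [← e, au_mul, au_mul, ρu, ρa]
        ext
        · simp
        · simp [eq_zero_of_neg e1]
        · simp [hab]; ring
      have e3 := congrArg j e2
      rw [map_add, au_apply_inv, map_add, map_zsmul, map_zsmul, je] at e3
      exact eq_sub_of_add_eq e3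
    have h12 : j ^ 12 = 1 := by
      refine eq_one_of_PZ h2 h9 hL (pow_mem hj.1 _) (fun z => ⟨z, ?_⟩) (J.pow_mem hj 12).2.2
      obtain ⟨a, b, -, rfl⟩ := hz z
      have e1 : ((0 : K), (0 : K), (a : K) + b * i) = a • ((0 : K), (0 : K), (1 : K)) + b • (0, 0, i) := by
        ext <;> simp
      rw [e1, map_add, map_zsmul, map_zsmul, hu, fix_pow je]
    have h4 : j ^ 4 = 1 :=
      no_three h1 h2 h9 hL (pow_mem hj.1 _) (hj.2.1.pow_left 4) (by rw [← pow_mul, h12])
    have h5 : j * j = 1 := fpf _ (mul_mem hj hj) (by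
      rw [← conj_mul, e, ← mul_inv_rev]
      exact inv_eq_of_mul_eq_one_right (by rw [← h4]; simp only [pow_succ, pow_zero, one_mul, mul_assoc]))
    exact fpf j hj (e.trans (inv_eq_of_mul_eq_one_right h5))
  have hk' : k ∈ J := ⟨hk, c, hy⟩
  refine fpf k hk' (inv_mul_eq_one.1 (inv _ (mul_mem (inv_mem hk') (cJ k hk')) ?_)).symm
  calc ρ * (k⁻¹ * (ρ * k * ρ⁻¹)) * ρ⁻¹ = ρ * k⁻¹ * ρ⁻¹ * (ρ * ρ * k) * (ρ * ρ)⁻¹ := by group
    _ = (k⁻¹ * (ρ * k * ρ⁻¹))⁻¹ := by rw [ρρ, ← c]; group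

end Q9Ax

open Q9Ax in
theorem q9a (h1 : NC) (h2 : BSb) : Q9A := by
  intro K _ _ _ h9 L hL τ ⟨z₀, hz₀⟩ hτ g hg c
  obtain ⟨i, ii, hz⟩ := exists_i h9
  have τi : τ i = -i := by
    have : (τ i - i) * (τ i + i) = 0 := by
      have := congrArg τ ii
      rw [map_mul, map_neg, map_one] at this
      linear_combination this - ii
    refine eq_neg_of_add_eq_zero_left ((mul_eq_zero.1 this).resolve_left fun e => hz₀ ?_)
    obtain ⟨a, b, -, rfl⟩ := hz z₀
    rw [map_add, map_mul, map_intCast, map_intCast, sub_eq_zero.1 e]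
  have fin : ∀ k ∈ L, Commute k (dg (-1)) → k (0, 1, 0) = (0, 1, 0) → ∀ a : ℤ, k (0, i, 0) = (0, a + i, 0) → k = 1 := by
    intro k hk ck k1 a ki
    refine no_three h1 h2 h9 hL hk ck (eq_one_of_fix h1 h2 h9 hL (pow_mem hk _) (ck.pow_left 3) fun y => ?_)
    have e1 : (k ^ 3) (0, i, 0) = (0, i, 0) := by
      rw [pow_apply (a := a • ((0 : K), (1 : K), (0 : K))) (b := 0) (by rw [ki]; ext <;> simp [add_comm])
        (by rw [map_zsmul, k1, add_zero]) (map_zero _), smul_zero, add_zero, add_eq_left, three_nsmul, ← add_assoc,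
        three]
    obtain ⟨m, n, -, rfl⟩ := hz y
    have e2 : ((0 : K), (m : K) + n * i, (0 : K)) = m • ((0 : K), (1 : K), (0 : K)) + n • (0, i, 0) := by
      ext <;> simp
    rw [e2, map_add, map_zsmul, map_zsmul, e1, fix_pow k1]
  have hY : ∀ y, g (0, y, 0) = (0, (g (0, y, 0)).2.1, 0) := fun y => by
    have e := congrArg (fun g : Au (V3 K) => g (0, y, 0)) c
    simp only [au_mul] at e
    rw [show dg (-1) ((0 : K), y, (0 : K)) = -(0, y, 0) by simp [dg_apply], map_neg, dg_apply] at e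
    have e1 := congrArg (fun v : V3 K => v.1) e
    have e2 := congrArg (fun v : V3 K => v.2.2) e
    simp only [Prod.fst_neg, Prod.snd_neg, Units.val_neg, Units.val_one, even_two, Even.neg_pow, one_pow,
      one_mul] at e1 e2
    exact Prod.ext (eq_zero_of_neg e1.symm) (Prod.ext rfl (eq_zero_of_neg e2.symm))
  have a0 : (g (0, 1, 0)).2.1 ≠ 0 := fun e => by
    have := hY 1
    rw [e] at this
    simpa using g.injective (this.trans (map_zero g).symm)
  obtain ⟨l, hl⟩ : ∃ l : Kˣ, (l : K) = (g (0, 1, 0)).2.1 := ⟨Units.mk0 _ a0, rfl⟩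
  have dl : dg l * dg l⁻¹ = 1 := by rw [← dg_mul, mul_inv_cancel, dg_one]
  have m1 : dg l⁻¹ * g ∈ L := mul_mem (hL.2.2 _) hg
  have c1 : Commute (dg l⁻¹ * g) (dg (-1)) :=
    Commute.mul_left (by rw [commute_iff_eq, ← dg_mul, ← dg_mul, mul_comm]) c
  have e1 : (dg l⁻¹ * g) (0, 1, 0) = (0, 1, 0) := by rw [au_mul, hY, ← hl, dg_apply]; simp
  obtain ⟨a, b, hb, hab⟩ := hz (l⁻¹ * (g (0, i, 0)).2.1)
  have e2 : (dg l⁻¹ * g) (0, i, 0) = (0, a + b * i, 0) := by rw [au_mul, hY, ← hab, dg_apply]; simp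
  rcases hb with rfl | rfl | rfl
  · have : (dg l⁻¹ * g) (0, i, 0) = (dg l⁻¹ * g) (a • (0, 1, 0)) := by rw [map_zsmul, e1, e2]; ext <;> simp
    have h3 : i = a := by simpa using (dg l⁻¹ * g).injective this
    have h4 : i = -i := by rw [← τi, h3, map_intCast]
    simp [eq_zero_of_neg h4] at ii
  · have := fin _ m1 c1 e1 a (by rw [e2]; simp)
    refine ⟨l, RingEquiv.refl K, ?_⟩
    rw [← one_mul g, ← dl, mul_assoc, this]
    rfl
  · have := fin _ (mul_mem hτ m1) (Commute.mul_left (au_ext fun v => by simp [au_mul, fr_apply, dg_apply]) c1)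
      (by rw [au_mul, e1, fr_apply]; simp) a (by rw [au_mul, e2, fr_apply]; simp [τi])
    refine ⟨l, τ.symm, ?_⟩
    rw [← one_mul g, ← dl, mul_assoc, eq_inv_of_mul_eq_one_right this]
    rfl

end CL.SpF
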