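/-
Project SpF: the field with nine elements, by transfer.
-/
import Cfsg.Agent.SpF.Defs
import Cfsg.Agent.Transfer.Basic

set_option autoImplicit false

namespace CL.SpF

open Subgroup Cfsg CL.Fus

namespace Q9Bx

/-- a semidihedral centraliser controlling its own fusion has a normal complement -/
theorem comp {G C : Type} [Group G] [Finite G] [CommGroup C] (δ : C →* G) (f : G) (m : C)
    (inj : Function.Injective δ) (hm : m ≠ 1) (hm2 : m ^ 2 = 1) (h2 : ∀ l : C, l ^ 2 = 1 → l = 1 ∨ l = m)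
    (h8 : ∀ l : C, l ^ 8 = 1) (hsq : ∀ l : C, l ^ 4 = 1 → ∃ ν, l = ν * ν) (hf : ∀ l, f * δ l = δ (l ^ 3) * f)
    (hff : f * f = 1) (hC : ∀ g, g * δ m = δ m * g → ∃ l, g = δ l ∨ g = δ l * f)
    (hN : ∀ g l, g * δ m * g⁻¹ ≠ δ l * f) :
    ∃ N : Subgroup G, Odd (Nat.card N) ∧ (∀ g, g ^ 3 = 1 → g ∈ N) ∧
      ∀ g, ∃ n ∈ N, ∃ l, g = n * δ l ∨ g = n * (δ l * f) := by
  let P : Subgroup G := centralizer {δ m}
  have mP : ∀ g, g ∈ P ↔ g * δ m = δ m * g := fun g => mem_centralizer_singleton_iff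
  have δP : ∀ l, δ l ∈ P := fun l => (mP _).2 (by rw [← map_mul, mul_comm, map_mul])
  have sq : ∀ l, (δ l * f) ^ 2 = δ (l ^ 4) := fun l => by
    rw [pow_two, mul_assoc, ← mul_assoc f, hf, mul_assoc, hff, mul_one, ← map_mul, ← pow_succ']
  have star : ∀ y, y * δ m * y⁻¹ ∈ P → y ∈ P := fun y hy => by
    obtain ⟨l, h | h⟩ := hC _ ((mP _).1 hy)
    · have : l ^ 2 = 1 := inj (by rw [map_pow, ← h, conj_pow, ← map_pow, hm2, map_one]; simp)
      rcases h2 l this with rfl | rfl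
      · rw [map_one, conj_eq_one_iff] at h
        exact absurd (inj (h.trans (map_one δ).symm)) hm
      · exact (mP _).2 (mul_inv_eq_iff_eq_mul.1 h)
    · exact absurd h (hN y l)
  have pP : IsPGroup 2 P := fun x => ⟨3, Subtype.ext (by
    show (x : G) ^ 8 = 1
    obtain ⟨l, h | h⟩ := hC _ ((mP _).1 x.2)
    · rw [h, ← map_pow, h8, map_one]
    · rw [h, show 8 = 2 * 4 from rfl, pow_mul, sq, ← map_pow, ← pow_mul, show 4 * 4 = 8 * 2 from rfl, pow_mul, h8,
        one_pow, map_one])⟩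
  obtain ⟨Q, hQ⟩ := pP.exists_le_sylow
  have eQ : (Q : Subgroup G) = P := by
    by_contra ne
    obtain ⟨y, hy, hyP⟩ := SetLike.exists_of_lt (lt_normalizerIn Q.isPGroup' (lt_of_le_of_ne hQ (Ne.symm ne)))
    exact hyP (star y ((mem_normalizer_iff.1 hy.2 _).1 (δP m)))
  have tri : ∀ x ∈ P, (∃ k : ℕ, x ^ k = δ m) ∨ x = 1 ∨ ∃ a ∈ P, x = a⁻¹ * f * a := fun x hx => by
    obtain ⟨l, h | h⟩ := hC _ ((mP _).1 hx)
    · rcases h2 (l ^ 4) (by rw [← pow_mul, h8]) with k | k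
      · rcases h2 (l ^ 2) (by rw [← pow_mul, k]) with k | k
        · rcases h2 l k with k | k
          · exact .inr (.inl (by rw [h, k, map_one]))
          · exact .inl ⟨1, by rw [h, k, pow_one]⟩
        · exact .inl ⟨2, by rw [h, ← map_pow, k]⟩
      · exact .inl ⟨4, by rw [h, ← map_pow, k]⟩
    · rcases h2 (l ^ 4) (by rw [← pow_mul, h8]) with k | k
      · obtain ⟨ν, rfl⟩ := hsq l k
        refine .inr (.inr ⟨δ ν, δP ν, ?_⟩)
        rw [h, mul_assoc, hf, ← mul_assoc, ← map_inv, ← map_mul]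
        congr 2
        rw [pow_three, inv_mul_cancel_left]
      · exact .inl ⟨2, by rw [h, sq, k]⟩
  have cop : (Nat.card P).Coprime P.index := eQ ▸ Q.card_coprime_index
  have hc := CL.Transfer.isComplement'_of_fusion_of_nilpotent P pP.isNilpotent cop fun x hx g hg => by
    rcases tri x hx with ⟨k, h⟩ | rfl | ⟨a, ha, h⟩
    · exact ⟨g, star g (by rw [← h, ← conj_pow]; exact P.pow_mem hg k), rfl⟩
    · exact ⟨1, P.one_mem, by simp⟩
    rcases tri _ hg with ⟨k, h'⟩ | h' | ⟨b, hb, h'⟩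
    · refine ⟨g, inv_mem_iff.1 (star g⁻¹ ?_), rfl⟩
      rw [← h', conj_pow, show g⁻¹ * (g * x ^ k * g⁻¹) * g⁻¹⁻¹ = x ^ k by group]
      exact P.pow_mem hx k
    · rw [h', conj_eq_one_iff.1 h']
      exact ⟨1, P.one_mem, by simp⟩
    · exact ⟨b⁻¹ * a, P.mul_mem (P.inv_mem hb) ha, by rw [h', h]; group⟩
  refine ⟨pResidual (Nat.card P) G, ?_, fun g hg => CL.Transfer.mem_pResidual_of_coprime ?_, fun g => ?_⟩
  · rw [← hc.index_eq_card, ← eQ, ← Nat.not_even_iff_odd, even_iff_two_dvd]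
    exact Q.not_dvd_index
  · obtain ⟨n, hn⟩ := IsPGroup.iff_card.1 pP
    rw [hn]
    exact (Nat.Coprime.pow_right n (by decide : Nat.Coprime 3 2)).coprime_dvd_left (orderOf_dvd_of_pow_eq_one hg)
  · obtain ⟨⟨n, x⟩, h, -⟩ := hc.existsUnique g
    obtain ⟨l, k | k⟩ := hC _ ((mP _).1 x.2)
    · exact ⟨n, n.2, l, .inl (by rw [← k]; exact h.symm)⟩
    · exact ⟨n, n.2, l, .inr (by rw [← k]; exact h.symm)⟩

variable {K : Type} [Field K]

theorem aut_cases [Fintype K] [CharP K 3] (hK : Fintype.card K = 9) (τ : K ≃+* K) :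
    (∀ z, τ z = z) ∨ ∀ z, τ z = z ^ 3 := by
  have : Fact (Nat.Prime 3) := ⟨Nat.prime_three⟩
  let _ := ZMod.algebra K 3
  obtain ⟨j, hj⟩ := FiniteField.exists_forall_apply_eq_pow (ZMod 3) 3 K (AlgEquiv.ofRingEquiv (f := τ) fun x =>
    DFunLike.congr_fun (Subsingleton.elim ((τ : K →+* K).comp (algebraMap (ZMod 3) K)) (algebraMap (ZMod 3) K)) x)
  have hj' : ∀ t, τ t = t ^ 3 ^ j := fun t => (hj t).trans (by rw [Nat.card_zmod])
  have h9 : ∀ (i : ℕ) (t : K), t ^ 3 ^ (2 * i) = t := fun i t => by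
    rw [pow_mul, show 3 ^ 2 = 9 from rfl, ← hK, FiniteField.pow_card_pow]
  obtain ⟨i, rfl | rfl⟩ := j.even_or_odd'
  · exact .inl fun z => by rw [hj', h9]
  · exact .inr fun z => by rw [hj', pow_succ, pow_mul, h9]

theorem apply_Z (s : K) (l : Kˣ) (τ : K ≃+* K) (z : K) : (Mt s * dg l * fr τ) (0, 0, z) = (0, 0, τ z) := by
  simp [Mt_apply, dg_apply, fr_apply]

theorem unit_sq (l : Kˣ) (h : l ^ 2 = 1) : l = 1 ∨ l = -1 :=
  (sq_eq_one_iff.1 (show (l : K) ^ 2 = 1 from by rw [← Units.val_pow_eq_pow_val, h, Units.val_one])).imp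
    Units.ext Units.ext

theorem dg_inj {l m : Kˣ} (h : dg l = dg m) : l = m := by
  simpa [dg_apply, Units.ext_iff] using congrArg (fun g : Au (V3 K) => (g (0, 1, 0)).2.1) h

end Q9Bx

open Q9Bx in
theorem q9b (h1 : NC) (h2 : BSb) (h3 : Q9A) (h4 : LC1) : Q9B := by
  intro K _ _ _ hK L hL
  have : Fact (Nat.Prime 3) := ⟨Nat.prime_three⟩
  have hq : 3 < Fintype.card K := by omega
  by_cases hτ : ∃ τ : K ≃+* K, (∃ z, τ z ≠ z) ∧ fr τ ∈ L
  swap
  · push Not at hτ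
    refine fun g hg z => ⟨z, h4 K 3 (by decide) hq L z hL.1 (fun b hb k => ?_) g hg⟩
    obtain ⟨s, l, τ, ht, rfl⟩ := h2 K 3 (by decide) hq L hL b hb k
    rw [apply_Z]
    by_contra ne
    exact hτ τ ⟨z, fun e => ne (by rw [e])⟩ ht
  obtain ⟨τ, ⟨z0, hz0⟩, ht⟩ := hτ
  have cube : ∀ z, τ z = z ^ 3 := (aut_cases hK τ).resolve_left fun h => hz0 (h z0)
  have h9 : ∀ z : K, (z ^ 3) ^ 3 = z := fun z => by rw [← pow_mul, show 3 * 3 = 9 from rfl, ← hK, FiniteField.pow_card]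
  have hc : ringChar K ≠ 2 := by rw [ringChar.eq K 3]; decide
  let δ : Kˣ →* L := MonoidHom.mk' (fun l => ⟨dg l, hL.2.2 l⟩) fun l m => Subtype.ext (dg_mul l m)
  obtain ⟨N, odd, m3, dec⟩ := comp δ ⟨fr τ, ht⟩ (-1) (fun l m h => dg_inj (congrArg Subtype.val h))
    (fun h => Ring.neg_one_ne_one_of_char_ne_two hc (congrArg Units.val h)) (by simp)
    (fun l h => (unit_sq l h))
    (fun l => by rw [show 8 = Nat.card Kˣ by rw [Nat.card_units, Nat.card_eq_fintype_card, hK], pow_card_eq_one'])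
    (fun l h => (FiniteField.unit_isSquare_iff hc l).2 (by rw [hK]; exact h))
    (fun l => Subtype.ext (au_ext fun v => by
      show fr τ (dg l v) = dg (l ^ 3) (fr τ v)
      simp only [fr_apply, dg_apply, map_mul, map_pow, cube l, Units.val_pow_eq_pow_val]))
    (Subtype.ext (au_ext fun v => by
      show (fr τ * fr τ) v = v
      simp only [au_mul, fr_apply, cube, h9]))
    (fun g h => by
      obtain ⟨l, τ', e⟩ := h3 K hK L hL τ ⟨z0, hz0⟩ ht g g.2 (congrArg Subtype.val h)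
      refine ⟨l, (aut_cases hK τ').imp (fun k => Subtype.ext ?_) fun k => Subtype.ext ?_⟩
      · rw [e, show fr τ' = 1 from au_ext fun v => by simp only [fr_apply, k, au_one], mul_one]; rfl
      · rw [e, show fr τ' = fr τ from au_ext fun v => by simp only [fr_apply, k, cube]]; rfl)
    (fun g l h => hz0 (h1 K hK g 0 l τ (by rw [Mt_zero, one_mul]; exact congrArg Subtype.val h) z0))
  have k3 : (3 : K) = 0 := CharP.cast_eq_zero K 3
  have hO : SylIn 3 (TM K) (N.map L.subtype) := hL.1.mono (by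
    rintro _ ⟨t, rfl⟩
    refine ⟨⟨Mt t, hL.1.le ⟨t, rfl⟩⟩, m3 _ (Subtype.ext ?_), rfl⟩
    show Mt t ^ 3 = 1
    rw [pow_three, ← Mt_add, ← Mt_add, show t + (t + t) = 0 by
      linear_combination t * k3, Mt_zero]) (map_subtype_le N)
  have fixO : ∀ z, ∀ n ∈ N.map L.subtype, n (0, 0, z) = (0, 0, z) := fun z =>
    h4 K 3 (by decide) hq _ z hO (by
      rintro _ ⟨b, hb, rfl⟩ k
      obtain ⟨s, l, τ', -, e⟩ := h2 K 3 (by decide) hq L hL b b.2 k
      have hz : ∀ w, (b : Au (V3 K)) (0, 0, w) = (0, 0, τ' w) := fun w => by rw [e, apply_Z]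
      have hzz : ∀ w, τ' (τ' w) = w := fun w => by rcases aut_cases hK τ' with k | k <;> simp only [k, h9]
      have hj : ∀ j : ℕ, ((b : Au (V3 K)) ^ (2 * j + 1)) (0, 0, z) = (b : Au (V3 K)) (0, 0, z) := fun j => by
        induction j with
        | zero => simp
        | succ j ih => rw [show 2 * (j + 1) + 1 = 2 * j + 1 + 1 + 1 by ring, pow_succ', pow_succ', au_mul, au_mul, ih,
            hz, hz, hz, hzz]
      obtain ⟨j, ej⟩ := odd
      have hb1 : b ^ (2 * j + 1) = 1 := by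
        rw [← ej]
        exact congrArg Subtype.val (pow_card_eq_one' (G := N) (x := ⟨b, hb⟩))
      show (b : Au (V3 K)) (0, 0, z) = _
      rw [← hj j, ← coe_pow, hb1]
      rfl)
  intro g hg
  obtain ⟨n, hn, l, e⟩ := dec ⟨g, hg⟩
  have pn : PZ (n : Au (V3 K)) := fun z => ⟨z, fixO z _ ⟨n, hn, rfl⟩⟩
  have pl : PZ (dg l) := fun z => ⟨z, by simp [dg_apply]⟩
  have pf : PZ (fr τ) := fun z => ⟨τ z, by simp [fr_apply]⟩
  rcases e with e | e <;> rw [show g = _ from congrArg Subtype.val e]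
  exacts [pn.mul pl, pn.mul (pl.mul pf)]

end CL.SpF
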