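/-
Project SpF: the torus coming from an essential subgroup `Qc c`.
-/
import Cfsg.Agent.SpF.Defs
import Cfsg.Agent.Fus.CopAut

set_option autoImplicit false

namespace CL.SpF

open Subgroup Cfsg Cfsg.FusionSystem CL.Fus

namespace QTx

variable {K : Type} [Field K] {c : K}

/-- coordinates on `Qc c / Z` -/
def kap (c : K) (g : U K) : V2 K := (g.t, g.y - c / 2 * g.t ^ 2)

/-- a section of `kap` -/
def jj (c : K) (v : V2 K) : U K := ⟨v.1, c * v.1, v.2 + c / 2 * v.1 ^ 2, 0⟩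

theorem kap_jj (v : V2 K) : kap c (jj c v) = v := by ext <;> simp [kap, jj]

theorem jj_mem (v : V2 K) : jj c v ∈ Qc c := rfl

theorem kap_mul (h2 : (2 : K) ≠ 0) (g : U K) {h : U K} (hh : h ∈ Qc c) : kap c (g * h) = kap c g + kap c h := by
  ext <;> simp [kap, mem_Qc.1 hh]
  field_simp
  ring

theorem aut_Z (h2 : (2 : K) ≠ 0) (α : MulAut (Qc c)) {g : U K} (hg : g ∈ Z K) : autFun α g ∈ Z K := by
  obtain ⟨z, rfl⟩ := mem_Z'.1 hg
  have hq : e z ∈ Qc c := D_le_Qc c (Z_le_D hg)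
  have k : ∀ x ∈ Qc c, autFun α (e z) * x = x * autFun α (e z) := fun x hx => by
    have hx' := autFun_mem α⁻¹ hx
    rw [← autFun_apply_inv α hx, ← (homOn_autFun α).map_mul hq hx', e_comm, (homOn_autFun α).map_mul hx' hq]
  have k1 := (comm_iff.1 (k ⟨0, 0, 1, 0⟩ (D_le_Qc c ⟨rfl, rfl⟩))).2
  have k2 := (comm_iff.1 (k ⟨1, c, 0, 0⟩ (mul_one c).symm)).2
  have k3 := mem_Qc.1 (autFun_mem α hq)
  have k4 : (autFun α (e z)).t = 0 := by simpa [h2] using k1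
  rw [k4, mul_zero] at k3
  exact ⟨k4, k3, by simpa [h2, k3, k4] using k2.symm⟩

/-- the action on `Qc c / Z` -/
noncomputable def rho (α : MulAut (Qc c)) (v : V2 K) : V2 K := kap c (autFun α (jj c v))

theorem kap_aut (h2 : (2 : K) ≠ 0) (α : MulAut (Qc c)) {g : U K} (hg : g ∈ Qc c) :
    kap c (autFun α g) = rho α (kap c g) := by
  have hz : e g.z ∈ Z K := ⟨rfl, rfl, rfl⟩
  have hq := D_le_Qc c (Z_le_D hz)
  obtain ⟨k1, -, k2⟩ := aut_Z h2 α hz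
  conv_lhs => rw [show g = jj c (kap c g) * e g.z by ext <;> simp [jj, kap, mem_Qc.1 hg]]
  rw [(homOn_autFun α).map_mul (jj_mem _) hq, kap_mul h2 _ (autFun_mem α hq)]
  ext <;> simp [rho, kap, k1, k2]

theorem act (h2 : (2 : K) ≠ 0) (L : Subgroup (MulAut (Qc c))) : Act L rho where
  add α _ v w := by
    rw [← kap_jj (c := c) v, ← kap_jj (c := c) w, ← kap_mul h2 _ (jj_mem w),
      ← kap_aut h2 α (mul_mem (jj_mem v) (jj_mem w)), (homOn_autFun α).map_mul (jj_mem v) (jj_mem w),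
      kap_mul h2 _ (autFun_mem α (jj_mem w)), kap_jj, kap_jj, rho, rho]
  mul α _ β _ v := by rw [rho, autFun_mul _ _ (jj_mem v), kap_aut h2 α (autFun_mem β (jj_mem v)), rho.eq_1 β]
  one v := by rw [rho, autFun_one (jj_mem v), kap_jj]

theorem rho_conj {α : MulAut (Qc c)} {a : U K} (h : ∀ x ∈ Qc c, autFun α x = a * x * a⁻¹) (v : V2 K) :
    rho α v = (v.1, v.2 + (c * a.t - a.x) * v.1) := by
  rw [rho, h _ (jj_mem v)]
  ext <;> simp [kap, jj]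
  ring

/-- the chain `1 < Z < D < S` -/
def Ch (K : Type) [Field K] : ℕ → Subgroup (U K)
  | 0 => ⊥
  | 1 => Z K
  | 2 => D K
  | _ => ⊤

theorem extend [Fintype K] {p : ℕ} [Fact p.Prime] [CharP K p] (h2 : (2 : K) ≠ 0) {F : FS K} (hF : F.IsSaturated p)
    {h : MulAut (Qc c)} (hL : h ∈ F.autGroup (Qc c)) (hD : h ∈ stabAut (Qc c) (D K)) :
    ∃ σ, Mor F ⊤ σ ∧ ∀ x ∈ Qc c, σ x = autFun h x := by
  have hN := isFullyNormalized_of_normalizerIn_eq F le_top fun a _ => norm_of_le (D_le_Qc c) a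
  have hT := sylIn_of_fullyNormalized (pg p) hF hN
  have hinv : ∀ i, ∀ γ ∈ F.autGroup (Qc c) ⊓ stabAut (Qc c) (D K), ∀ x ∈ Qc c, x ∈ Ch K i → autFun γ x ∈ Ch K i := by
    rintro (_ | _ | _ | i) γ hγ x hx hx'
    · rw [mem_bot.1 hx', (homOn_autFun γ).map_one]; exact one_mem _
    exacts [aut_Z h2 γ hx', (hγ.2 x hx).2 hx', trivial]
  have hX := hT.eq_of_le ((chainStab_isPGroup ((pg p).to_le le_top) _ 3 _ hinv le_top fun γ _ => ⟨0, fun x _ hx => by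
    rw [mem_bot.1 hx, (homOn_autFun _).map_one]⟩).map (Subgroup.subtype _)) (fun t ht => ?_)
    ((map_subtype_le _).trans inf_le_left)
  · obtain ⟨σ, hσ, eσ⟩ := (mor_autFun le_top hL).extend' (R := ⊤) (receptive_of_fullyNormalized (pg p) hF hN)
      (img_autFun h) fun a _ => by
        have ha := norm_of_le (D_le_Qc c) a
        obtain ⟨γ, hγ, eγ⟩ := hX.ge (conjAut_mem_autInducedBy ha (mem_top a))
        obtain ⟨b, -, hb⟩ := mem_autInducedBy.1 (hX.le ⟨_, (chainStab_normal _ 3 _ hinv).conj_mem γ hγ ⟨h, hL, hD⟩, rfl⟩)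
        refine ⟨trivial, ha, b, trivial, fun x hx => ?_⟩
        rw [← hb _ (autFun_mem h hx), ← autFun_mul _ _ hx, ← autFun_conjAut ha hx, ← autFun_mul _ _ hx, ← eγ]
        exact congrArg (autFun · x) (inv_mul_cancel_right _ h).symm
    rw [sup_top_eq] at hσ
    exact ⟨σ, hσ, eσ⟩
  · obtain ⟨a, -, ha⟩ := mem_autInducedBy.1 ht
    refine ⟨⟨t, hT.le ht, fun x hx => ?_⟩, fun i hi x hx hx' => ?_, rfl⟩
    · rw [ha x hx]; exact (mem_normalizer_iff.1 (norm_of_le le_rfl a) x).symm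
    rw [ha x hx]
    interval_cases i
    · obtain ⟨z, rfl⟩ := mem_Z'.1 hx'
      rw [← e_comm, mul_inv_cancel_right, inv_mul_cancel]; exact one_mem _
    · exact ⟨by simp, by simp, by simp [hx'.1, hx'.2]; ring⟩
    · exact ⟨by simp, by simp⟩

end QTx

open QTx in
theorem qt (h : SP) : QT := by
  intro K _ _ p _ _ hp F hF c ⟨f, hf, hfQ, d, hd, nd⟩ l hl
  have h2 : (2 : K) ≠ 0 := fun e => hp ((Nat.prime_dvd_prime_iff_eq Fact.out Nat.prime_two).1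
    ((CharP.cast_eq_zero_iff K p 2).1 e))
  have hDQ := D_le_Qc c
  have mD : ∀ {x}, x ∈ Qc c → (x ∈ D K ↔ x.t = 0) := fun hx =>
    ⟨fun k => k.1, fun k => ⟨k, by rw [mem_Qc.1 hx, k, mul_zero]⟩⟩
  have kD : ∀ {x}, x ∈ D K → kap c x = (0, x.y) := fun hx => by simp [kap, hx.1]
  have := finite_mulAut (le_top : Qc c ≤ ⊤)
  obtain ⟨g, hg, eg⟩ := hf.exists_aut' le_rfl hfQ
  have hn : ∀ s : K, conjAut (Qc c) (norm_of_le hDQ ⟨0, -s, 0, 0⟩) ∈ fixAut (Qc c) (Z K) := fun s x hx hx' => by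
    obtain ⟨z, rfl⟩ := mem_Z'.1 hx'
    rw [autFun_conjAut _ hx, ← e_comm, mul_inv_cancel_right]
  obtain ⟨φ, -, -, -, -, k⟩ := h K p _ _ _ rho (fun s => conjAut (Qc c) (norm_of_le hDQ ⟨0, -s, 0, 0⟩)) (act h2 _)
    (sylIn_of_fullyNormalized (pg p) hF (isFullyNormalized_of_normalizerIn_eq F le_top fun a _ => norm_of_le hDQ a))
    (fun t ht => (mem_autInducedBy.1 ht).elim fun a ha => ⟨_, rho_conj ha.2⟩)
    (fun s => conjAut_mem_autInducedBy _ (mem_top _))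
    (fun s v => by rw [rho_conj fun x hx => autFun_conjAut _ hx]; simp) g hg
    ⟨d.y, fun e0 => nd ((mD (hfQ d (hDQ hd))).2 (by rwa [← kD hd, ← kap_aut h2 g (hDQ hd), eg d (hDQ hd)] at e0))⟩
  obtain ⟨α, hH, hL, hα⟩ := k (fixAut (Qc c) (Z K)) hn (fun s => conj_mem_fixAut
    (mem_stabAut_of_finite (Z_le_D.trans hDQ) fun x hx => aut_Z h2 g hx) (hn s)) l⁻¹ (inv_ne_zero hl)
  have ht : ∀ x ∈ Qc c, (autFun α x).t = l⁻¹ * x.t := fun x hx =>
    congrArg Prod.fst ((kap_aut h2 α hx).trans (hα _))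
  have hD : α ∈ stabAut (Qc c) (D K) := fun x hx => by
    rw [mD hx, mD (autFun_mem α hx), ht x hx, mul_eq_zero, or_iff_right (inv_ne_zero hl)]
  obtain ⟨σ, hσ, eσ⟩ := extend h2 hF hL hD
  have hy : ∀ x ∈ D K, σ x ∈ D K ∧ (σ x).y = l * x.y := fun x hx => by
    have k1 := (hD x (hDQ hx)).2 hx
    have k2 := congrArg Prod.snd ((kap_aut h2 α (hDQ hx)).trans (hα _))
    rw [kD k1, kD hx] at k2
    rw [eσ x (hDQ hx)]
    exact ⟨k1, by simpa using k2⟩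
  refine ⟨σ, hσ, fun z => ?_, fun x hx => by rw [eσ x hx]; exact ⟨autFun_mem α hx, ht x hx⟩, fun a ha => ?_⟩
  · have hz : e z ∈ Z K := ⟨rfl, rfl, rfl⟩
    rw [eσ _ (hDQ (Z_le_D hz)), hH _ (hDQ (Z_le_D hz)) hz]
  have k1 : (σ a).t = 0 := by
    obtain ⟨⟨k1, k2⟩, k3⟩ := hy ⟨0, 0, 1, 0⟩ ⟨rfl, rfl⟩
    have : σ a * σ ⟨0, 0, 1, 0⟩ = σ ⟨0, 0, 1, 0⟩ * σ a := by
      rw [← hσ.homOn a trivial _ trivial, ← hσ.homOn _ trivial a trivial,
        (comm_iff (g := a)).2 (by simp [mem_A.1 ha])]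
    simpa [k1, k2, k3, h2, hl] using (comm_iff.1 this).2
  have k2 : ∀ g b : U K, b.t = 0 → (g * b * g⁻¹ * b⁻¹).y = g.t * b.x := fun g b hb => by simp [hb]; ring
  have k3 := (hy (⟨1, c, 0, 0⟩ * a * (⟨1, c, 0, 0⟩ : U K)⁻¹ * a⁻¹) ⟨by simp, by simp⟩).2
  rw [hσ.homOn _ trivial _ trivial, hσ.homOn.map_conj trivial trivial, hσ.homOn.map_inv trivial, k2 _ _ k1, k2 _ _ ha, eσ _ (mul_one c).symm,
    ht _ (mul_one c).symm] at k3
  refine ⟨k1, ?_⟩
  field_simp at k3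
  linear_combination k3

end CL.SpF
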