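/-
Project SpF: the realizable systems in characteristic two, from the extension of `GL₃(K)`.
-/
import Cfsg.Agent.SpF.Defs

set_option autoImplicit false

namespace CL.SpF

open Subgroup Cfsg Cfsg.FusionSystem CL.Fus

namespace Realx

variable {K : Type} [Field K] [Fintype K] [CharP K 2] {G : Type} [Group G] [Finite G] {ι : U K →* G}

theorem fs (inj : Function.Injective ι) (idx : ¬ 2 ∣ ι.range.index) :
    ∃ F : FS K, F.IsSaturated 2 ∧ F.IsRealizable 2 ∧
      ∀ P f, Mor F P f ↔ ∃ n, ∀ x ∈ P, ι (f x) = n * ι x * n⁻¹ := by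
  have hi : Function.Injective (ι.comp (⊤ : Subgroup (U K)).subtype) := inj.comp Subtype.val_injective
  obtain ⟨η, hη⟩ := exists_gIso_of_injective _ hi
  have hR := isRealizedBy_of_fIso (hη.symm.fIso_transport (groupFusionSystem _)).symm
  have hr : (ι.comp (⊤ : Subgroup (U K)).subtype).range = ι.range := by
    rw [MonoidHom.range_comp, range_subtype, MonoidHom.range_eq_map]
  have hs : SylIn 2 (ι.comp (⊤ : Subgroup (U K)).subtype).range ⊤ := sylIn_of_not_dvd le_top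
    ((pg 2).of_surjective _ (MonoidHom.rangeRestrict_surjective _)) (by rw [relIndex_top_right, hr]; exact idx)
  have he : ∀ x, Fus.ext (ι.comp (⊤ : Subgroup (U K)).subtype) x = ι x := fun x => ext_apply _ (mem_top x)
  refine ⟨_, IsRealizedBy.isSaturated hR hs, isRealizable_of_realizedBy hR hs, fun P f => ?_⟩
  refine (IsRealizedBy.mor_iff hR).trans ?_
  simp only [he]
  exact ⟨fun ⟨_, _, n, hn⟩ => ⟨n, hn⟩, fun ⟨n, hn⟩ => ⟨le_top, fun _ _ => trivial, n, hn⟩⟩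

theorem hf (inj : Function.Injective ι) {F : FS K} (hF : F.IsSaturated 2)
    (hM : ∀ P f, Mor F P f ↔ ∃ n, ∀ x ∈ P, ι (f x) = n * ι x * n⁻¹)
    (hz : ∀ n, ∃ z, n * ι (e 1) * n⁻¹ = ι (e z))
    (hw : ∀ b, ∃ n, (∀ a ∈ EE K b, ∃ a' ∈ EE K b, n * ι a * n⁻¹ = ι a') ∧
      ∃ a', a' ∉ D K ∧ n * ι ⟨0, 0, 1, 0⟩ * n⁻¹ = ι a') : HF F := by
  have nd : ∀ b, ND F (EE K b) := fun b => by
    obtain ⟨n, h1, a', ha', h2⟩ := hw b
    have k : ∀ a a', n * ι a * n⁻¹ = ι a' → Function.invFun ι (n * ι a * n⁻¹) = a' := fun a a' h => by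
      rw [h, Function.leftInverse_invFun inj]
    refine ⟨fun a => Function.invFun ι (n * ι a * n⁻¹), (hM _ _).2 ⟨n, fun a ha => ?_⟩, fun a ha => ?_,
      ⟨0, 0, 1, 0⟩, ⟨rfl, rfl⟩, ?_⟩
    · obtain ⟨a'', -, h⟩ := h1 a ha
      simp only [k _ _ h]; exact h.symm
    · obtain ⟨a'', m, h⟩ := h1 a ha
      simp only [k _ _ h, m]
    · simp only [k _ _ h2]; exact ha'
  refine ⟨hF, ⟨1, one_ne_zero, fun P f h m => ?_⟩, nd true, nd false⟩
  obtain ⟨n, hn⟩ := (hM _ _).1 h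
  obtain ⟨z, hz⟩ := hz n
  rw [inj ((hn _ m).trans hz)]
  exact ⟨rfl, rfl⟩

end Realx

open Realx in
theorem real (h : GEX) : REAL := by
  intro K _ _ _ h3
  obtain ⟨G, _, _, ι, χ, inj, idx, hz, hw, ht⟩ := h K h3
  constructor
  · have k1 : ∀ s, ι s ∈ χ.ker := fun s => by
      have := hz (ι s) 1
      rw [← map_mul, ← e_comm, map_mul, mul_inv_cancel_right] at this
      have := congrArg U.z (inj this)
      rw [e_z, e_z, mul_one] at this
      exact Units.ext this.symm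
    have inj0 : Function.Injective (ι.codRestrict χ.ker k1) := fun a b hab => inj (congrArg Subtype.val hab)
    have hr : (ι.codRestrict χ.ker k1).range = ι.range.subgroupOf χ.ker := by
      ext ⟨x, hx⟩
      exact ⟨fun ⟨s, hs⟩ => ⟨s, congrArg Subtype.val hs⟩, fun ⟨s, hs⟩ => ⟨s, Subtype.ext hs⟩⟩
    have idx0 : ¬ 2 ∣ (ι.codRestrict χ.ker k1).range.index := fun k => idx (k.trans (by
      rw [hr]
      exact relIndex_dvd_index_of_le (by rintro _ ⟨s, rfl⟩; exact k1 s)))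
    obtain ⟨F, hF, hR, hM⟩ := fs inj0 idx0
    have hz0 : ∀ (n : χ.ker) z, n * ι.codRestrict χ.ker k1 (e z) * n⁻¹ = ι.codRestrict χ.ker k1 (e z) :=
      fun n z => Subtype.ext (by
        have := hz n z
        rw [show χ n = 1 from n.2, Units.val_one, one_mul] at this
        exact this)
    refine ⟨F, hR, hf inj0 hF hM (fun n => ⟨1, hz0 n 1⟩) fun b => ?_, fun σ hσ z => ?_⟩
    · obtain ⟨n, hn, h1, a', ha', h2⟩ := hw b
      exact ⟨⟨n, hn⟩, fun a ha => (h1 a ha).imp fun a'' k => ⟨k.1, Subtype.ext k.2⟩, a', ha', Subtype.ext h2⟩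
    · obtain ⟨n, hn⟩ := (hM _ _).1 hσ
      exact inj0 ((hn _ trivial).trans (hz0 n z))
  · intro l l0 l1
    obtain ⟨F, hF, hR, hM⟩ := fs inj idx
    refine ⟨F, hR, hf inj hF hM (fun n => ⟨_, hz n 1⟩) fun b => (hw b).imp fun n k => k.2, fun hc => l1 ?_⟩
    obtain ⟨g, hg, hs⟩ := ht (Units.mk0 l l0)
    choose σ hσ using hs
    have k := hc σ ((hM _ _).2 ⟨g, fun x _ => (hσ x).symm⟩) 1
    have k2 := hz g 1
    rw [hσ, k, hg, Units.val_mk0, mul_one] at k2
    exact (congrArg U.z (inj k2)).symm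

end CL.SpF
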