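/-
Project SpF: recognition of `SL₂(K)` on `K²` and on `K³ / Z`.
-/
import Cfsg.Agent.SpF.Defs

set_option autoImplicit false

namespace CL.SpF

open Subgroup Cfsg Cfsg.FusionSystem CL.Fus

namespace SPx

variable {K : Type} [Field K] {G : Type} [Group G] {L : Subgroup G} {ρ : G → V2 K → V2 K} {n : K → G}

/-- the line `v.1 = 0` -/
def W (K : Type) [Field K] : AddSubgroup (V2 K) := (AddMonoidHom.fst K K).ker

theorem card_W : Nat.card (W K) = Nat.card K :=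
  Nat.card_congr ⟨fun v => v.1.2, fun y => ⟨(0, y), rfl⟩, fun v => Subtype.ext (Prod.ext v.2.symm rfl), fun _ => rfl⟩

theorem inv_ap (a : Act L ρ) {g : G} (hg : g ∈ L) (v : V2 K) : ρ g⁻¹ (ρ g v) = v := by
  rw [← a.mul _ (inv_mem hg) _ hg, inv_mul_cancel, a.one]

theorem ap_inv (a : Act L ρ) {g : G} (hg : g ∈ L) (v : V2 K) : ρ g (ρ g⁻¹ v) = v := by
  rw [← a.mul _ hg _ (inv_mem hg), mul_inv_cancel, a.one]

theorem inj (a : Act L ρ) {g : G} (hg : g ∈ L) : Function.Injective (ρ g) :=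
  Function.LeftInverse.injective (inv_ap a hg)

theorem ap_zero (a : Act L ρ) {g : G} (hg : g ∈ L) : ρ g 0 = 0 := by
  simpa using a.add g hg 0 0

theorem ap3 (a : Act L ρ) {g h k : G} (hg : g ∈ L) (hh : h ∈ L) (hk : k ∈ L) (v : V2 K) :
    ρ (g * h * k) v = ρ g (ρ h (ρ k v)) := by
  rw [a.mul _ (mul_mem hg hh) _ hk, a.mul _ hg _ hh]

/-- the standing data -/
structure Cx (L : Subgroup G) (ρ : G → V2 K → V2 K) (n : K → G) : Prop where
  act : Act L ρ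
  mem : ∀ s, n s ∈ L
  ap : ∀ s v, ρ (n s) v = (v.1, v.2 + s * v.1)
  meet : ∀ g ∈ L, (∃ y, (ρ g (0, y)).1 ≠ 0) → ∀ y, (ρ g (0, y)).1 = 0 → y = 0

/-- `g W` is the graph of `f` -/
def Gr (ρ : G → V2 K → V2 K) (g : G) (f : K →+ K) : Prop :=
  (∀ y, (ρ g (0, y)).2 = f (ρ g (0, y)).1) ∧ ∀ u, ∃ y, ρ g (0, y) = (u, f u)

variable [Finite K] (c : Cx L ρ n)
include c

theorem graph {g : G} (hg : g ∈ L) (h : ∃ y, (ρ g (0, y)).1 ≠ 0) : ∃ f, Gr ρ g f := by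
  let r : K →+ V2 K := AddMonoidHom.mk' (fun y => ρ g (0, y)) fun y z => by
    rw [← c.act.add g hg, Prod.mk_add_mk, add_zero]
  let e := AddEquiv.ofBijective ((AddMonoidHom.fst K K).comp r) (Finite.injective_iff_bijective.1
    ((injective_iff_map_eq_zero _).2 (c.meet g hg h)))
  refine ⟨((AddMonoidHom.snd K K).comp r).comp e.symm, fun y => ?_, fun u => ⟨e.symm u, ?_⟩⟩
  · exact (congrArg (fun x => (r x).2) (e.symm_apply_apply y)).symm
  · exact Prod.ext (e.apply_symm_apply u) rfl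

theorem four {g g' : G} {f : K →+ K} (hg : g ∈ L) (G1 : Gr ρ g f) (hg' : g' ∈ L) (h : ∃ y, (ρ g' (0, y)).1 ≠ 0) :
    ∃ s, ∀ y, (ρ g' (0, y)).2 = f (ρ g' (0, y)).1 + s * (ρ g' (0, y)).1 := by
  obtain ⟨f', G2⟩ := graph c hg' h
  refine ⟨f' 1 - f 1, fun y => ?_⟩
  have hk := mul_mem (mul_mem (inv_mem hg') (c.mem (f' 1 - f 1))) hg
  have h1 : ∀ y, (ρ (g'⁻¹ * n (f' 1 - f 1) * g) (0, y)).1 = 0 := by
    by_contra! ne
    obtain ⟨y1, e1⟩ := G1.2 1
    obtain ⟨y2, e2⟩ := G2.2 1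
    have h2 := c.meet _ hk ne y1 (by
      rw [ap3 c.act (inv_mem hg') (c.mem _) hg, e1, c.ap, mul_one, add_sub_cancel, ← e2, inv_ap c.act hg'])
    rw [h2, Prod.mk_zero_zero, ap_zero c.act hg] at e1
    exact zero_ne_one (congrArg Prod.fst e1)
  rw [G2.1]
  generalize (ρ g' (0, y)).1 = u
  obtain ⟨y1, e1⟩ := G1.2 u
  have h2 := G2.1 (ρ (g'⁻¹ * n (f' 1 - f 1) * g) (0, y1)).2
  rw [show ((0 : K), _) = ρ (g'⁻¹ * n (f' 1 - f 1) * g) (0, y1) from Prod.ext (h1 y1).symm rfl,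
    ap3 c.act (inv_mem hg') (c.mem _) hg, ap_inv c.act hg', e1, c.ap] at h2
  exact h2.symm

theorem three {g : G} {f : K →+ K} (hg : g ∈ L) (G1 : Gr ρ g f) (m : K) :
    ∃ s, ∀ v, ρ (g * n s * g⁻¹) v = (v.1 + m * (v.2 - f v.1), v.2 + f (m * (v.2 - f v.1))) := by
  have h0 : ∀ s, g * n s * g⁻¹ ∈ L := fun s => mul_mem (mul_mem hg (c.mem s)) (inv_mem hg)
  have h1 : ∀ s u, ρ (g * n s * g⁻¹) (u, f u) = (u, f u) := fun s u => by
    obtain ⟨y, e⟩ := G1.2 u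
    rw [ap3 c.act hg (c.mem s) (inv_mem hg), ← e, inv_ap c.act hg, c.ap, mul_zero, add_zero]
  have h2 : ∀ s y, (ρ (g * n s * g⁻¹) (0, y)).2 = y + f (ρ (g * n s * g⁻¹) (0, y)).1 := fun s y => by
    have e : ρ (n s) (ρ g⁻¹ (0, y)) = ρ g⁻¹ (0, y) + (0, s * (ρ g⁻¹ (0, y)).1) := by
      rw [c.ap]; exact Prod.ext (add_zero _).symm rfl
    rw [ap3 c.act hg (c.mem s) (inv_mem hg), e, c.act.add g hg, ap_inv c.act hg, Prod.snd_add, Prod.fst_add, G1.1,
      zero_add]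
  have h3 : ∀ s, ∃ μ, ∀ y, (ρ (g * n s * g⁻¹) (0, y)).1 = μ * y := fun s => by
    by_cases h : ∃ y, (ρ (g * n s * g⁻¹) (0, y)).1 ≠ 0
    · obtain ⟨t, ht⟩ := four c hg G1 (h0 s) h
      have k : ∀ y, y = t * (ρ (g * n s * g⁻¹) (0, y)).1 := fun y => by
        linear_combination ht y - h2 s y
      have t0 : t ≠ 0 := fun e => one_ne_zero ((k 1).trans (by rw [e, zero_mul]))
      exact ⟨t⁻¹, fun y => by rw [eq_inv_mul_iff_mul_eq₀ t0, ← k]⟩
    · push Not at h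
      exact ⟨0, fun y => by rw [h, zero_mul]⟩
  choose μ hμ using h3
  have h4 : ∀ s v, ρ (g * n s * g⁻¹) v = (v.1 + μ s * (v.2 - f v.1), v.2 + f (μ s * (v.2 - f v.1))) := fun s v => by
    have e : v = (v.1, f v.1) + (0, v.2 - f v.1) := by ext <;> simp
    refine (congrArg _ e).trans ?_
    rw [c.act.add _ (h0 s), h1]
    refine Prod.ext (by rw [Prod.fst_add, hμ]) ?_
    rw [Prod.snd_add, h2, hμ]
    simp only
    ring
  have h5 : Function.Injective μ := fun s t e => by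
    have k := (h4 s (ρ g (1, 0))).trans (e ▸ (h4 t (ρ g (1, 0))).symm)
    rw [ap3 c.act hg (c.mem s) (inv_mem hg), ap3 c.act hg (c.mem t) (inv_mem hg), inv_ap c.act hg] at k
    simpa [c.ap] using inj c.act hg k
  obtain ⟨s, rfl⟩ := Finite.injective_iff_surjective.1 h5 m
  exact ⟨s, h4 s⟩

theorem five {g : G} {f : K →+ K} (hg : g ∈ L) (G1 : Gr ρ g f) (H : Subgroup G) (h1 : ∀ s, n s ∈ H)
    (h2 : ∀ s, g * n s * g⁻¹ ∈ H) (a : K) (a0 : a ≠ 0) :
    ∃ h ∈ H, h ∈ L ∧ ∀ v, ρ h v = (a * v.1, a⁻¹ * (v.2 - f v.1) + f (a * v.1)) := by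
  have w : ∀ a : K, a ≠ 0 → ∃ w ∈ H, w ∈ L ∧ ∀ u y, ρ w (u, y + f u) = (a * y, -(a⁻¹ * u) + f (a * y)) := by
    intro a a0
    obtain ⟨s, hs⟩ := three c hg G1 a
    have m := mul_mem (mul_mem hg (c.mem s)) (inv_mem hg)
    have k : ∀ u y, ρ (g * n s * g⁻¹) (u, y + f u) = (u + a * y, y + f (u + a * y)) := fun u y => by
      rw [hs, map_add, add_sub_cancel_right, add_assoc]
    refine ⟨_, mul_mem (mul_mem (h2 s) (h1 (-a⁻¹))) (h2 s), mul_mem (mul_mem m (c.mem _)) m, fun u y => ?_⟩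
    have e1 : y + f (u + a * y) + -a⁻¹ * (u + a * y) = -(a⁻¹ * u) + f (u + a * y) := by field
    have e2 : u + a * y + a * -(a⁻¹ * u) = a * y := by field
    rw [ap3 c.act m (c.mem _) m, k, c.ap]
    simp only
    rw [e1, k, e2]
  obtain ⟨w1, m1, l1, e1⟩ := w a a0
  obtain ⟨w2, m2, l2, e2⟩ := w (-1) (by simp)
  refine ⟨w1 * w2, mul_mem m1 m2, mul_mem l1 l2, fun v => ?_⟩
  have e : v = (v.1, v.2 - f v.1 + f v.1) := by simp
  rw [c.act.mul _ l1 _ l2, congrArg (ρ w2) e, e2, e1]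
  simp [← mul_neg]

end SPx

open SPx in
theorem sp (h : MAX) : SP := by
  intro K _ _ p _ G _ L T _ ρ n act syl hT hn ap g hg hy
  have c : Cx L ρ n := ⟨act, fun s => syl.le (hn s), ap, fun g hg ⟨y1, h1⟩ y0 h0 => by
    have k := (h p G (V2 K) K L T ρ (W K) n act syl (fun t ht w hw => ?_) hn (fun s s0 v e => ?_) (fun s v => ?_)
      (fun s s' v => ?_) (by rw [card_W, Nat.card_prod]) g hg ⟨(0, y1), rfl, h1⟩).2 (0, y1) rfl h1
    · by_contra y0'
      have w0 : (ρ g (0, y0)).2 ≠ 0 := fun e => y0' (congrArg Prod.snd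
        (inj act hg ((Prod.ext h0 e : ρ g (0, y0) = 0).trans (ap_zero act hg).symm)))
      refine k ((ρ g (0, y0)).2 / (ρ g (0, y1)).1) (div_ne_zero w0 h1) (0, y0) rfl ?_
      rw [ap]
      exact Prod.ext ((sub_self _).trans h0.symm) ((add_sub_cancel_left _ _).trans (div_mul_cancel₀ _ h1))
    · obtain ⟨s, hs⟩ := hT t ht
      rw [hs, show w.1 = 0 from hw, mul_zero, add_zero, ← show w.1 = 0 from hw]
    · rw [ap] at e
      exact (mul_eq_zero.1 (add_eq_left.1 (congrArg Prod.snd e))).resolve_left s0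
    · rw [ap]; exact sub_self v.1
    · rw [ap, ap, ap]; ext <;> simp <;> ring⟩
  obtain ⟨f, G1⟩ := graph c hg hy
  exact ⟨f, G1.1, G1.2, three c hg G1, fun g' hg' => four c hg G1 hg', five c hg G1⟩

theorem sp3 (h : SP) : SP3 := by
  intro K _ _ p _ L T n syl hZ hT hn ap az g hg hD
  let ρ : Au (V3 K) → V2 K → V2 K := fun g v => ((g (v.1, v.2, 0)).1, (g (v.1, v.2, 0)).2.1)
  have key : ∀ g ∈ L, ∀ u y z, ρ g (u, y) = ((g (u, y, z)).1, (g (u, y, z)).2.1) := fun g hg u y z => by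
    obtain ⟨w, e⟩ := hZ g hg z
    rw [show ((u, y, z) : V3 K) = (u, y, 0) + (0, 0, z) by simp, map_add, e]
    simp [ρ]
  have nD : ∀ g ∈ L, ¬ PD g → ∃ y, (ρ g (0, y)).1 ≠ 0 := fun g hg hD => by
    by_contra! k
    exact hD fun y z => (congrArg Prod.fst (key g hg 0 y z)).symm.trans (k y)
  have act : Act L ρ := ⟨fun g _ v w => by
    have := g.map_add (v.1, v.2, 0) (w.1, w.2, 0)
    rw [Prod.mk_add_mk, Prod.mk_add_mk, add_zero] at this
    simp only [ρ, Prod.fst_add, Prod.snd_add, this, Prod.mk_add_mk],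
    fun g hg k _ v => (key g hg _ _ (k (v.1, v.2, 0)).2.2).symm, fun _ => rfl⟩
  have ap' : ∀ s v, ρ (n s) v = (v.1, v.2 + s * v.1) := fun s v => Prod.ext (ap s _).1 (ap s _).2
  obtain ⟨f, h1, h2, h3, h4, h5⟩ := h K p _ L T ρ n act syl
    (fun t ht => by obtain ⟨s, rfl⟩ := hT t ht; exact ⟨s, ap' s⟩) hn ap' g hg (nD g hg hD)
  refine ⟨f, fun y z => ?_, fun u z => ?_, fun m => (h3 m).imp fun s hs v => ?_,
    fun g' hg' hD' => (h4 g' hg' (nD g' hg' hD')).imp fun s hs y z => ?_, fun a a0 => ?_⟩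
  · have := h1 y
    rwa [key g hg 0 y z] at this
  · obtain ⟨y, e⟩ := h2 u
    obtain ⟨z', e'⟩ := (hZ g hg).inv (z - (g (0, y, 0)).2.2)
    refine ⟨y, z', ?_⟩
    rw [show (((0 : K), y, z') : V3 K) = (0, y, 0) + (0, 0, z') by simp, map_add, ← e', au_apply_inv]
    exact Prod.ext ((add_zero _).trans (Prod.mk.inj e).1)
      (Prod.ext ((add_zero _).trans (Prod.mk.inj e).2) (add_sub_cancel _ _))
  · exact Prod.mk.inj ((key _ (mul_mem (mul_mem hg (syl.le (hn s))) (inv_mem hg)) v.1 v.2.1 v.2.2).symm.trans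
      (hs (v.1, v.2.1)))
  · have := hs y
    rwa [key g' hg' 0 y z] at this
  · let H : Subgroup (Au (V3 K)) :=
      { carrier := {k | ∀ z, k (0, 0, z) = (0, 0, z)}
        mul_mem' := fun {a b} ha hb z => by rw [au_mul, hb, ha]
        one_mem' := fun _ => rfl
        inv_mem' := fun {a} ha z => by rw [← ha, au_inv_apply, ha] }
    obtain ⟨k, k1, k2, k3⟩ := h5 H az (fun s z => by
      obtain ⟨w, e⟩ := (hZ g hg).inv z
      rw [au_mul, au_mul, e, az, ← e, au_apply_inv]) a a0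
    refine ⟨k, k2, k1, fun v => congrArg Prod.fst ((key k k2 v.1 v.2.1 v.2.2).symm.trans (k3 _)), fun y z => ?_⟩
    simpa using congrArg Prod.snd ((key k k2 0 y z).symm.trans (k3 _))

end CL.SpF
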