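/-
Project SpF: the standard position of a system in characteristic two.
-/
import Cfsg.Agent.SpF.Defs

set_option autoImplicit false

namespace CL.SpF

open Subgroup Cfsg Cfsg.FusionSystem CL.Fus

namespace Stdzx

variable {K : Type} [Field K] [CharP K 2] (f f' : Bool → K →+ K)

/-- the automorphism inducing the two shears -/
def ww : U K ≃* U K where
  toFun g := ⟨g.t, g.x, g.y + f true g.x + f false g.t, g.z + f' true g.x + f' false g.t⟩
  invFun g := ⟨g.t, g.x, g.y - f true g.x - f false g.t, g.z - f' true g.x - f' false g.t⟩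
  left_inv g := by ext <;> simp <;> ring
  right_inv g := by ext <;> simp <;> ring
  map_mul' g h := by ext <;> simp [CharTwo.two_eq_zero] <;> ring

theorem ww_ii (b : Bool) (v : V3 K) : ww f f' (ii b v) = ii b (sh (f b) (f' b) v) := by
  cases b <;> ext <;> simp [ww, ii, iA, iQ, sh_apply]

theorem ww_symm_ii (b : Bool) (v : V3 K) : (ww f f').symm (ii b v) = ii b ((sh (f b) (f' b))⁻¹ v) := by
  rw [MulEquiv.symm_apply_eq, ww_ii, au_apply_inv]

theorem ww_EE (b : Bool) (g : U K) : ww f f' g ∈ EE K b ↔ g ∈ EE K b := by cases b <;> rfl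

theorem ww_D (g : U K) : ww f f' g ∈ D K ↔ g ∈ D K := Iff.rfl

theorem ww_e (z : K) : ww f f' (e z) = e z := by ext <;> simp [ww]

omit [CharP K 2] in
theorem mor_w {F : FS K} (w : U K ≃* U K) {P : Subgroup (U K)} (h : ∀ g, w g ∈ P ↔ g ∈ P) {φ : U K → U K}
    (k : Mor F P φ) : Mor (tr w F) P fun g => w (φ (w.symm g)) :=
  (mor_tr w h).2 (by simpa only [MulEquiv.symm_apply_apply] using k)

theorem nd {F : FS K} {b : Bool} (h : ND F (EE K b)) : ND (tr (ww f f') F) (EE K b) := by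
  obtain ⟨φ, h1, h2, g, h3, h4⟩ := h
  refine ⟨_, mor_w _ (ww_EE f f' b) h1, fun x hx => (ww_EE f f' b _).2 (h2 _ ((ww_EE f f' b _).1 ?_)), ww f f' g, h3, ?_⟩
  · rwa [MulEquiv.apply_symm_apply]
  · rwa [MulEquiv.symm_apply_apply]

end Stdzx

open Stdzx in
theorem stdz (h1 : WA) (h2 : WC) (h3 : S1) : STDZ := by
  intro K _ _ _ hl F hF
  have := Fact.mk Nat.prime_two
  have := finite_mulAut (le_refl (⊤ : Subgroup (U K)))
  have ho := (sylIn_Inn_top (pg 2) hF.1).not_dvd_relIndex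
  obtain ⟨n, hn⟩ := ((isPGroup_Inn (pg (K := K) 2)).comap_subtype (K := F.autGroup ⊤)).exists_card_eq
  obtain ⟨R, hR⟩ := exists_right_complement'_of_coprime (N := (Inn (⊤ : Subgroup (U K))).subgroupOf (F.autGroup ⊤))
    (hn ▸ ((Nat.Prime.coprime_iff_not_dvd Nat.prime_two).2 ho).pow_left n)
  have hRo : Odd (Nat.card R) := by
    rw [← hR.symm.index_eq_card]
    exact Nat.odd_iff.2 (Nat.two_dvd_ne_zero.1 ho)
  have hm : ∀ r : R, Mor F ⊤ (autFun r.1.1) := fun r => mor_autFun le_rfl r.1.2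
  choose a b a0 b0 e1 e2 using fun r => h3 K hl F hF _ (hm r)
  choose ps p1 p2 using fun β r => (crd β).exists_LL ((hm r).mono le_top) fun g hg => by
    cases β
    · exact mem_Q0.2 (by rw [(e1 r g).2, mem_Q0.1 hg, mul_zero])
    · exact mem_A.2 (by rw [(e1 r g).1, mem_A.1 hg, mul_zero])
  let ψ : Bool → R →* Au (V3 K) := fun β => MonoidHom.mk' (ps β) fun r s => au_ext fun v => (crd β).inj (by
    rw [au_mul, ← p2, ← p2, ← p2]; exact autFun_mul _ _ (mem_top _))
  have q1 : ∀ β r v, (ps β r v).1 = (if β then b r else a r) * v.1 := fun β r v => by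
    have := e1 r (ii β v)
    rw [p2] at this
    cases β
    exacts [this.1, this.2]
  have q2 : ∀ β r y z, ps β r (0, y, z) = (0, a r * b r * y, a r ^ 2 * b r * z) := fun β r y z =>
    (crd β).inj (by rw [← p2, ii_D, ii_D, e2])
  choose f f' c1 c2 using fun β => h2 K hl β _ (hF.wh h1 β) R (ψ β) hRo (p1 β) fun r => ⟨_, _, _, q1 β r, q2 β r⟩
  have ht : ∀ g, ww f f' g ∈ (⊤ : Subgroup (U K)) ↔ g ∈ (⊤ : Subgroup (U K)) := fun _ => Iff.rfl
  refine ⟨ww f f', ⟨sat_tr _ hF.1, ?_, nd f f' (b := true) hF.2.2.1, nd f f' (b := false) hF.2.2.2⟩,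
    ⟨fun β m => ?_, fun σ hσ => ?_⟩, fun h σ hσ z => ?_, fun h σ hσ z => ?_⟩
  · obtain ⟨c, c0, hc⟩ := hF.2.1
    refine ⟨c, c0, fun P φ hφ hP => ?_⟩
    have := hc _ _ ((mor_tr' _).1 hφ) (show ww f f' (e c) ∈ P by rwa [ww_e])
    rwa [ww_e] at this
  · obtain ⟨φ, hφ, eφ⟩ := c1 β m
    exact ⟨_, mor_w _ (ww_EE f f' β) hφ, fun v => by
      simp only [ww_symm_ii, eφ, ww_ii, au_mul, au_apply_inv]⟩
  · obtain ⟨α, hα, eα⟩ := ((mor_tr _ ht).1 hσ).exists_aut' le_rfl fun _ _ => trivial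
    obtain ⟨⟨ν, r⟩, er, -⟩ := hR.existsUnique ⟨α, hα⟩
    obtain ⟨s, -, hs⟩ := mem_Inn_iff.1 (show ν.1.1 ∈ Inn (⊤ : Subgroup (U K)) from ν.2)
    have k1 : ∀ β v, ww f f' (autFun r.1.1 ((ww f f').symm (ii β v))) = d (a r) (b r) (ii β v) := fun β ⟨u, y, z⟩ => by
      have k : (sh (f β) (f' β) * ψ β r * (sh (f β) (f' β))⁻¹) (0, y, z) = (0, a r * b r * y, a r ^ 2 * b r * z) := by
        change sh _ _ (ps β r ((sh _ _)⁻¹ _)) = _
        simp [sh_inv_apply, q2, sh_apply]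
      have k' : (sh (f β) (f' β) * ψ β r * (sh (f β) (f' β))⁻¹) (u, y, z) =
          ((if β then b r else a r) * u, a r * b r * y, a r ^ 2 * b r * z) := by
        rw [show (u, y, z) = (u, 0, 0) + (0, y, z) by simp, map_add, c2, k]
        simpa [ψ] using q1 β r (u, 0, 0)
      rw [ww_symm_ii, p2, ww_ii]
      refine (congrArg (ii β) k').trans ?_
      cases β <;> ext <;> simp [ii, iA, iQ]
    refine ⟨ww f f' s, a r, b r, a0 r, b0 r, fun g => ?_⟩
    have k2 : ww f f' (autFun r.1.1 ((ww f f').symm g)) = d (a r) (b r) g := by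
      rw [show g = ii true (g.x, g.y, g.z) * ii false (g.t, 0, 0) by ext <;> simp [ii, iA, iQ], map_mul,
        (hm r).homOn _ trivial _ trivial, map_mul, map_mul, k1, k1]
    have k3 := eα ((ww f f').symm g) trivial
    rw [← show ν.1.1 * r.1.1 = α from congrArg Subtype.val er, autFun_mul _ _ (mem_top _), hs _ trivial,
      MulEquiv.apply_symm_apply, eq_comm, MulEquiv.symm_apply_eq] at k3
    rw [k3, map_mul, map_mul, map_inv, k2]
  · have := h _ (mor_w _ ht hσ) z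
    rwa [← ww_e f f' z, MulEquiv.symm_apply_apply, (ww f f').apply_eq_iff_eq] at this
  · have := h _ ((mor_tr _ ht).1 hσ) z
    rwa [MulEquiv.symm_apply_eq, ww_e] at this

end CL.SpF
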