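/-
Project SpF: the Sylow `p`-subgroup of `Sp₄(K)` is the model `U K`.
-/
import Cfsg.Agent.SpF.Defs
import Cfsg.Agent.Fus.Rk3S

set_option autoImplicit false

namespace CL.SpF

open Subgroup Cfsg Matrix CL.Fus.Rk

universe u

namespace Sylx

variable {K : Type u} [Field K] {K0 : Type} [Field K0]

theorem spL_spU (t x y w : K) :
    spL t * spU x y w = spU (x + 2 * t * y + t ^ 2 * w) (y + t * w) w * spL t := Subtype.ext (by
  change fromBlocks _ _ _ _ * fromBlocks _ _ _ _ = fromBlocks _ _ _ _ * fromBlocks _ _ _ _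
  rw [fromBlocks_multiply, fromBlocks_multiply]
  congr 1 <;> ext i j <;> fin_cases i <;> fin_cases j <;> simp <;> ring)

/-- the embedding of the model -/
def emb (r : K0 →+* K) : U K0 →* symplecticGroup (Fin 2) K :=
  MonoidHom.mk' (fun g => spU (r g.z) (r g.y) (r g.x) * spL (r g.t)) fun g h => by
    rw [mul_assoc, ← mul_assoc (spL _), spL_spU, mul_assoc, spL_mul, ← mul_assoc, spU_mul]
    simp only [mul_t, mul_x, mul_y, mul_z, map_add, map_mul, map_pow, map_ofNat, add_assoc]

theorem emb_inj (r : K0 →+* K) : Function.Injective (emb r) := by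
  refine (injective_iff_map_eq_one _).2 fun g hg => ?_
  have h : fromBlocks (1 : Matrix (Fin 2) (Fin 2) K) !![r g.z, r g.y; r g.y, r g.x] 0 1 *
      fromBlocks !![1, r g.t; 0, 1] 0 0 !![1, 0; -r g.t, 1] = 1 := congrArg Subtype.val hg
  rw [fromBlocks_multiply, ← fromBlocks_one, fromBlocks_inj] at h
  obtain ⟨h1, h2, -, -⟩ := h
  have e1 : g.t = 0 := by simpa using congrFun (congrFun h1 0) 1
  have e2 : g.x = 0 := by simpa using congrFun (congrFun h2 1) 1
  have e3 : g.y = 0 := by simpa using congrFun (congrFun h2 0) 1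
  have e4 : g.z = 0 := by simpa [e1] using congrFun (congrFun h2 0) 0
  exact U.ext e1 e2 e3 e4

end Sylx

open Sylx in
theorem syl : SYL.{u} := by
  intro K _ _ p hp _ T
  let r : Shrink.{0} K ≃+* K := Shrink.ringEquiv.{0} K
  letI : Fintype (Shrink.{0} K) := Fintype.ofEquiv K r.toEquiv.symm
  refine ⟨Shrink.{0} K, inferInstance, inferInstance, (RingHom.charP_iff_charP r.toRingHom p).2 inferInstance, ?_⟩
  have e := MonoidHom.ofInjective (emb_inj r.toRingHom)
  obtain ⟨n, -, hn⟩ := FiniteField.card K p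
  have hc : Nat.card (emb r.toRingHom).range = Fintype.card K ^ 4 := by
    rw [← Nat.card_congr e.toEquiv, card_U, Nat.card_congr r.toEquiv, Nat.card_eq_fintype_card]
  have hP : IsPGroup p (emb r.toRingHom).range := IsPGroup.of_card (n := n * 4) (by rw [hc, hn, pow_mul])
  have hi : ¬ p ∣ (emb r.toRingHom).range.index := fun hd => by
    have h1 := card_mul_index (emb r.toRingHom).range
    rw [hc, CL.Sp.card_symplecticGroup, Finset.prod_range_succ, Finset.prod_range_one, Nat.card_eq_fintype_card] at h1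
    rw [Nat.eq_of_mul_eq_mul_left (pow_pos Fintype.card_pos 4) h1] at hd
    have h2 : p ∣ Fintype.card K := hn ▸ dvd_pow_self p n.ne_zero
    rcases hp.out.dvd_mul.1 hd with h | h
    all_goals
      exact hp.out.one_lt.ne' (Nat.dvd_one.1 ((Nat.dvd_sub_iff_right (Nat.one_le_pow _ _ Fintype.card_pos)
        (dvd_pow h2 (by norm_num))).1 h))
  exact ⟨(Sylow.equiv T (hP.toSylow hi)).trans e.symm⟩

end CL.SpF
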