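/-
Project SpF: assembly of the parts.
-/
import Cfsg.Agent.SpF.Defs

set_option autoImplicit false

namespace CL.SpF

open Subgroup Cfsg Cfsg.FusionSystem CL.Fus

universe u

namespace Topx

variable {K : Type} [Field K] [Fintype K] {p : ℕ} [Fact p.Prime] [CharP K p] {F : FS K}

theorem two_ne (hp : p ≠ 2) : (2 : K) ≠ 0 := fun h =>
  hp ((Nat.prime_dvd_prime_iff_eq Fact.out Nat.prime_two).1 ((CharP.cast_eq_zero_iff K p 2).1 (by exact_mod_cast h)))

/-- at most one essential subgroup -/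
theorem one_ess (hF : F.IsSaturated p) (h : ∀ E E', F.IsEssential p E → F.IsEssential p E' → E = E') :
    F.IsRealizable p := by
  refine IsConstrained.isRealizable (pg p) ⟨hF, ?_⟩
  by_cases k : ∃ E, F.IsEssential p E
  · obtain ⟨E, hE⟩ := k
    refine ⟨E, isNormal_of_essential (pg p) hF le_top (fun B hB => (h _ _ hE hB).le) fun B a hB ha e => ?_, hE.1⟩
    rcases hB with rfl | hB
    · obtain ⟨g, hg, l, r, -⟩ := ha.exists_inv' e
      have i : FIso F F a g :=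
        ⟨⟨ha.homOn, fun _ _ => trivial, fun _ _ => trivial, l, r⟩,
          fun P f hf => (((hg.mono le_top).comp hf fun y hy => by
            obtain ⟨x, hx, rfl⟩ := (ha.mem_img' le_top).1 hy
            rwa [l x trivial]).comp ha fun _ _ => trivial),
          fun P f hf => (((ha.mono le_top).comp hf fun y hy => by
            obtain ⟨x, hx, rfl⟩ := (hg.mem_img' le_top).1 hy
            rwa [r x trivial]).comp hg fun _ _ => trivial)⟩
      exact h _ _ (i.isEssential hE) hE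
    · rwa [h _ _ hE hB]
  · exact ⟨⊤, (isNormal_top_iff (pg p) hF).2 fun B hB => k ⟨B, hB⟩, centric_top F⟩

theorem twoQ (hp : p ≠ 2) (hF : F.IsSaturated p) {c c' : K} (h : Tor F c) (h' : Tor F c') : c = c' := by
  have key : ∀ c : K, Tor F c → ∃ σ, Mor F ⊤ σ ∧ ∀ g, (σ g).t = -g.t ∧ (σ g).x = g.x - 2 * c * g.t := fun c h => by
    obtain ⟨σ, hσ, -, hQ, hA⟩ := h (-1) (by simp)
    refine ⟨σ, hσ, fun g => ?_⟩
    have e1 : g = ⟨0, g.x - c * g.t, g.y, g.z⟩ * ⟨g.t, c * g.t, 0, 0⟩ := by ext <;> simp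
    obtain ⟨a1, a2⟩ := hA ⟨0, g.x - c * g.t, g.y, g.z⟩ rfl
    obtain ⟨b1, b2⟩ := hQ ⟨g.t, c * g.t, 0, 0⟩ rfl
    rw [congrArg σ e1, hσ.homOn _ trivial _ trivial, mul_t, mul_x, mem_A.1 a1, a2, mem_Qc.1 b1, b2]
    constructor <;> simp <;> ring
  obtain ⟨σ, hσ, e1⟩ := key c h
  obtain ⟨σ', hσ', e2⟩ := key c' h'
  obtain ⟨m, hm, s, hs⟩ := exists_iter hF (hσ.comp hσ' fun _ _ => trivial)
  have it : ∀ n : ℕ, ((fun x => σ' (σ x))^[n] ⟨1, 0, 0, 0⟩).t = 1 ∧
      ((fun x => σ' (σ x))^[n] ⟨1, 0, 0, 0⟩).x = n * (2 * (c' - c)) := fun n => by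
    induction n with
    | zero => simp
    | succ n ih =>
      rw [Function.iterate_succ_apply', (e2 _).1, (e2 _).2, (e1 _).1, (e1 _).2, ih.1, ih.2]
      constructor <;> push_cast <;> ring
  have := (it m).2
  rw [hs] at this
  have k : (m : K) * (2 * (c' - c)) = 0 := by rw [← this]; simp
  simp only [mul_eq_zero, CharP.cast_eq_zero_iff K p, hm, two_ne hp, false_or, sub_eq_zero] at k
  exact k.symm

theorem AQ (hp : p ≠ 2) (h1 : VG) (hF : F.IsSaturated p) (hO : F.core ≠ ⊥) (hA : F.IsEssential p (A K)) {c : K}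
    (hQ : F.IsEssential p (Qc c)) (nd : ND F (Qc c)) (tor : Tor F c) : False := by
  have h2 := two_ne (K := K) hp
  have sc := IsNormal.stronglyClosed (isNormal_core F)
  have hD : F.core ≤ D K := fun n hn => by
    have a := mem_A.1 (core_le_of_essential (pg p) hA hn)
    exact ⟨a, by rw [mem_Qc.1 (core_le_of_essential (pg p) hQ hn), a, mul_zero]⟩
  have hZ : F.core ≤ Z K := fun n hn => by
    obtain ⟨f, hf, k, g, hg, ng⟩ := nd
    refine ⟨(hD hn).1, (hD hn).2, by_contra fun hy => ng ?_⟩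
    have hle := hD.trans (D_le_Qc c)
    rw [← hf.img_eq_self hle fun x hx => hf.mem_of_stronglyClosed sc (hle hx) hx] at hn
    obtain ⟨n', hn', rfl⟩ := (hf.mem_img' hle).1 hn
    have hn2 := hD (hf.mem_of_stronglyClosed sc (hle hn') hn')
    have : f g * f n' = f n' * f g := by
      rw [← hf.homOn _ (D_le_Qc c hg) _ (hle hn'), ← hf.homOn _ (hle hn') _ (D_le_Qc c hg),
        comm_iff.2 (by simp [hg.1, (hD hn').1])]
    have t0 : (f g).t = 0 := by simpa [hn2.1, hn2.2, h2, hy] using (comm_iff.1 this).2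
    exact ⟨t0, by rw [mem_Qc.1 (k g (D_le_Qc c hg)), t0, mul_zero]⟩
  obtain ⟨n, hn, n1⟩ := (Subgroup.bot_or_exists_ne_one F.core).resolve_left hO
  obtain ⟨k, rfl⟩ := mem_Z'.1 (hZ hn)
  have syl : SylIn p (TM K) (LL F crdA) := TS_crdA (K := K) ▸ crdA.syl hF D_le_A
  have all := h1 K p hp _ syl ⟨k, fun e0 => n1 (by rw [e0]; rfl), ?_⟩ fun l hl => ?_
  · have : (⟨1, 0, 0, 0⟩ : U K) ∈ A K := by
      refine mem_of_chain_top (pg p) hA.1 (IsEssential.isRadical (pg p) hA) 2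
        (fun i => match i with | 0 => ⊥ | 1 => Z K | _ => D K) (fun i hi f hf e x hx hxi => ?_) (fun _ _ h => h) trivial
        (norm_of_le D_le_A _) (fun x hx => ⟨by simp, by simp⟩) fun i hi x hx hxi => ?_
      · obtain ⟨g, hg, eg⟩ := crdA.exists_LL hf fun y hy => e ▸ mem_img_of_mem f hy
        rcases i with _ | _ | i
        · rw [mem_bot.1 hxi, hf.homOn.map_one]; exact one_mem _
        · obtain ⟨z, rfl⟩ := mem_Z'.1 hxi
          obtain ⟨w, hw⟩ := (all g hg).2 z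
          exact mem_Z'.2 ⟨w, ((eg (0, 0, z)).trans (congrArg iA hw)).symm⟩
        · rw [show x = iA (0, x.y, x.z) by ext <;> simp [iA, hxi.1, hxi.2], eg]
          exact ⟨rfl, (all g hg).1 _ _⟩
      · rcases i with _ | _ | i
        · obtain ⟨z, rfl⟩ := mem_Z'.1 hxi
          rw [← e_comm, mul_inv_cancel_right, inv_mul_cancel]; exact one_mem _
        · exact ⟨by simp, by simp, by simp [hxi.1, hxi.2]⟩
        · omega
    exact one_ne_zero (mem_A.1 this)
  · rintro g ⟨f, hf, ef⟩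
    obtain ⟨z, hz⟩ := mem_Z'.1 (hZ (hf.mem_of_stronglyClosed sc (x := e k) rfl hn))
    exact ⟨z, crdA.inj ((ef (0, 0, k)).symm.trans hz.symm)⟩
  · obtain ⟨σ, hσ, eZ, hq, ha⟩ := tor l hl
    obtain ⟨g, hg, eg⟩ := crdA.exists_LL (hσ.mono le_top) fun x hx => (ha x hx).1
    refine ⟨g, hg, fun t => au_ext fun v => crdA.inj ?_, fun z => crdA.inj ((eg (0, 0, z)).symm.trans (eZ z)),
      fun v => ?_⟩
    · have := conj_iA (σ ⟨t, c * t, 0, 0⟩) v
      rw [(hq ⟨t, c * t, 0, 0⟩ rfl).2] at this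
      rw [← this, au_mul, au_mul, ← eg, ← conj_iA ⟨t, c * t, 0, 0⟩, hσ.homOn.map_conj trivial trivial, eg, au_apply_inv]
    · exact (congrArg U.x (eg v)).symm.trans (ha (iA v) rfl).2

end Topx

open Topx

theorem vh (h1 : LC2) (h2 : Q9B) : VH := fun K _ _ p _ _ hp L hL => by
  obtain ⟨n, pp, hn⟩ := FiniteField.card K p
  by_cases k : 4 < n * (p - 1)
  · exact h1 K p hp n hn k L hL.1 hL.2.1
  have p3 : 3 ≤ p := by have := pp.two_le; omega
  obtain ⟨n, n0⟩ := n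
  simp only [PNat.mk_coe] at hn k
  by_cases n1 : n = 1
  · subst n1
    intro g hg z
    obtain ⟨a, rfl⟩ := ((Fintype.bijective_iff_injective_and_card _).2
      ⟨(ZMod.castHom (dvd_refl p) K).injective, by rw [hn, ZMod.card, pow_one]⟩).2 z
    refine ⟨ZMod.castHom (dvd_refl p) K a, ?_⟩
    rw [ZMod.castHom_apply, ZMod.cast_eq_val, show ((0 : K), (0 : K), (a.val : K)) = a.val • (0, 0, 1) by simp,
      map_nsmul, hL.2.1 g hg]
  · obtain rfl : p = 3 := by
      by_contra k3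
      have : 2 * 3 ≤ n * (p - 1) := Nat.mul_le_mul (by omega) (by
        have : p ≠ 4 := by rintro rfl; exact absurd pp (by norm_num)
        omega)
      omega
    obtain rfl : n = 2 := by omega
    exact h2 K hn L hL

theorem top_odd (h1 : ESSO) (h2 : QT) (h3 : VG) {K : Type} [Field K] [Fintype K] {p : ℕ} [Fact p.Prime] [CharP K p]
    (hp : p ≠ 2) {F : FS K} (hF : F.IsSaturated p) (hO : F.core ≠ ⊥) : F.IsRealizable p := by
  refine one_ess hF fun E E' hE hE' => ?_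
  rcases h1 K p hp F hF hO E hE with rfl | ⟨c, rfl, nd⟩ <;> rcases h1 K p hp F hF hO E' hE' with rfl | ⟨c', rfl, nd'⟩
  · rfl
  · exact (AQ hp h3 hF hO hE hE' nd' (h2 K p hp F hF c' nd')).elim
  · exact (AQ hp h3 hF hO hE' hE nd (h2 K p hp F hF c nd)).elim
  · rw [twoQ hp hF (h2 K p hp F hF c nd) (h2 K p hp F hF c' nd')]

theorem real_of_hf (h1 : WA) (h2 : WB) (h3 : STDZ) (h4 : UNIQ) (h5 : REAL) {K : Type} [Field K] [Fintype K] [CharP K 2]
    {F : FS K} (h : HF F) : F.IsRealizable 2 := by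
  have l3 := h2 K _ (h.wh h1 true)
  obtain ⟨w, a1, a2, -⟩ := h3 K l3 F h
  obtain ⟨F1, b1, b2, b3⟩ : ∃ F1 : FS K, F1.IsRealizable 2 ∧ HF F1 ∧ (Cen (tr w F) ↔ Cen F1) := by
    by_cases k : Cen (tr w F)
    · obtain ⟨F1, b1, b2, b3⟩ := (h5 K l3).1
      exact ⟨F1, b1, b2, iff_of_true k b3⟩
    · have k' := k
      simp only [Cen, not_forall] at k'
      obtain ⟨σ, hσ, z, hz⟩ := k'
      obtain ⟨s, a, b, ha, hb, es⟩ := a2.2 σ hσ
      obtain ⟨F1, b1, b2, b3⟩ := (h5 K l3).2 (a ^ 2 * b) (by simp [ha, hb]) fun e1 => hz (by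
        rw [es, show d a b (e z) = e z by ext <;> simp [e1], ← e_comm, mul_inv_cancel_right])
      exact ⟨F1, b1, b2, iff_of_false k b3⟩
  obtain ⟨w1, c1, c2, c3⟩ := h3 K l3 F1 b2
  exact real_of_tr w (h4 K l3 _ _ a1 a2 c1 c2 (b3.trans c3.symm) ▸ real_tr w1 b1)

theorem top_even (h0 : ESS2) (hs : SWAP) (h1 : WA) (h2 : WB) (h3 : STDZ) (h4 : UNIQ) (h5 : REAL) {K : Type} [Field K]
    [Fintype K] [CharP K 2] {F : FS K} (hF : F.IsSaturated 2) (hO : F.core ≠ ⊥) : F.IsRealizable 2 := by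
  have key : F.IsEssential 2 (A K) → F.IsEssential 2 (Qc 0) → F.IsRealizable 2 := fun hA hQ => by
    have sc := IsNormal.stronglyClosed (isNormal_core F)
    have hD : F.core ≤ D K := fun n hn =>
      ⟨core_le_of_essential (pg 2) hA hn, mem_Q0.1 (core_le_of_essential (pg 2) hQ hn)⟩
    have nA := (h0 K F hF _ hA).2
    have nQ := (h0 K F hF _ hQ).2
    obtain ⟨g, hg, ng⟩ := ND.not_PD (b := true) nA
    obtain ⟨n, hn, n1⟩ := (Subgroup.bot_or_exists_ne_one F.core).resolve_left hO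
    have hg' := hg
    obtain ⟨f, hf, ef⟩ := hg'
    have e1 : n = ii true (0, n.y, n.z) := by rw [ii_D]; ext <;> simp [(hD hn).1, (hD hn).2]
    have hn' := hf.mem_of_stronglyClosed sc (D_le_A (hD hn)) hn
    have n1' : f n ≠ 1 := fun k => n1 (hf.injOn (D_le_A (hD hn)) (one_mem _) (k.trans hf.homOn.map_one.symm))
    have e2 : f n = iA (g (0, n.y, n.z)) := (congrArg f e1).trans (ef _)
    have cl : ∀ P f', Mor F P f' → f n ∈ P → f' (f n) ∈ D K := fun P f' h k => hD (h.mem_of_stronglyClosed sc k hn')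
    have x0 : (g (0, n.y, n.z)).1 = 0 := (congrArg U.x e2).symm.trans (hD hn').2
    rcases (h1 K true _ (syl_TB hF true)).1 g hg ng with k | k
    · have e3 : f n = e (f n).z := by rw [e2]; ext <;> simp [iA, x0, k _ _ x0]
      exact real_of_hf h1 h2 h3 h4 h5 ⟨hF, ⟨(f n).z, fun z0 => n1' (by rw [e3, z0]; rfl), e3 ▸ cl⟩, nA, nQ⟩
    · have e3 : f n = ⟨0, 0, (f n).y, 0⟩ := by rw [e2]; ext <;> simp [iA, x0, k _ _ x0]
      obtain ⟨w, hw⟩ := hs K F hF ⟨(f n).y, fun z0 => n1' (by rw [e3, z0]; rfl), e3 ▸ cl⟩ nA nQ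
      exact real_of_tr w (real_of_hf h1 h2 h3 h4 h5 hw)
  by_cases k : F.IsEssential 2 (A K) ∧ F.IsEssential 2 (Qc 0)
  · exact key k.1 k.2
  refine one_ess hF fun E E' hE hE' => ?_
  rcases (h0 K F hF E hE).1 with rfl | rfl <;> rcases (h0 K F hF E' hE').1 with rfl | rfl
  exacts [rfl, (k ⟨hE, hE'⟩).elim, (k ⟨hE', hE⟩).elim, rfl]

/-- the statement for the model group -/
def Main : Prop := ∀ (K : Type) [Field K] [Fintype K] (p : ℕ) [Fact p.Prime] [CharP K p] (F : FS K),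
  F.IsSaturated p → F.core ≠ ⊥ → F.IsRealizable p

theorem main (h1 : ESSO) (h2 : QT) (h3 : VG) (k0 : ESS2) (ks : SWAP) (k1 : WA) (k2 : WB) (k3 : STDZ) (k4 : UNIQ)
    (k5 : REAL) : Main := fun K _ _ p _ _ F hF hO => by
  by_cases hp : p = 2
  · subst hp; exact top_even k0 ks k1 k2 k3 k4 k5 hF hO
  · exact top_odd h1 h2 h3 hp hF hO

theorem top (h0 : SYL.{u}) (h1 : Main) {Ω : Type*} [Group Ω] {S : Subgroup Ω} [Finite S] (p : ℕ) [Fact p.Prime]
    (F : FusionSystem S) {K : Type u} [Field K] [Fintype K] [CharP K p]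
    (T : Sylow p (Matrix.symplecticGroup (Fin 2) K))
    (ε : ↥S ≃* ↥(T : Subgroup (Matrix.symplecticGroup (Fin 2) K))) (hex : F.IsExotic p) : F.core = ⊥ := by
  obtain ⟨K0, _, _, _, ⟨φ⟩⟩ := h0 K p T
  have i := (gIso_of_mulEquiv ((ε.trans φ).trans Subgroup.topEquiv.symm)).fIso_transport F
  by_contra hO
  refine hex.2 (i.symm.isRealizable (h1 K0 p _ (i.isSaturated hex.1) fun k => hO ?_))
  rwa [← i.img_core, i.toGIso.img_eq_bot_iff (core_le F)] at k

end CL.SpF
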