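/-
Project SpF: normalisation of the torus in odd characteristic (`VG` from `VH` and `ZD`).
-/
import Cfsg.Agent.SpF.Defs

set_option autoImplicit false

namespace CL.SpF

open Subgroup Cfsg CL.Fus

namespace VGx

variable {K : Type} [Field K] {p : ℕ} [Fact p.Prime] {L : Subgroup (Au (V3 K))} {g h : Au (V3 K)} {l m : K}
  {b c : K → K}

/-- the normal form `(x, y, z) ↦ (l² x, l y, z + b x)` -/
def Nf (g : Au (V3 K)) (l : K) (b : K → K) : Prop := ∀ v, g v = (l ^ 2 * v.1, l * v.2.1, v.2.2 + b v.1)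

theorem Nf.mul (hg : Nf g l b) (hh : Nf h m c) : Nf (g * h) (l * m) fun x => b (m ^ 2 * x) + c x := fun v => by
  rw [au_mul, hh, hg]
  ext <;> simp <;> ring

theorem Nf.zero (hg : Nf g l b) : b 0 = 0 := by
  simpa using congrArg (fun v : V3 K => v.2.2) ((hg 0).symm.trans g.map_zero)

theorem Nf.uniq [CharP K p] (hL : SylIn p (TM K) L) (g1 : g ∈ L) (h1 : h ∈ L) (hg : Nf g l b) (hh : Nf h l c) (x : K) :
    b x = c x := by
  have e : ∀ v, (g⁻¹ * h) v = (v.1, v.2.1, v.2.2 + c v.1 - b v.1) := fun v => g.injective (by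
    rw [au_mul, au_apply_inv, hh, hg]; simp)
  obtain ⟨r, hr⟩ := mem_of_St hL TM_le (L.mul_mem (L.inv_mem g1) h1)
    ⟨fun v => by rw [e], fun y z => by rw [e], fun z => by simp [e, hg.zero, hh.zero]⟩
  have k := fun v => (congrArg (fun a : Au (V3 K) => a v) hr).trans (e v)
  obtain rfl : r = 0 := by simpa [Mt_apply] using congrArg (fun v : V3 K => v.2.1) (k (1, 0, 0))
  have := congrArg (fun v : V3 K => v.2.2) (k (x, 0, 0))
  simp [Mt_apply] at this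
  linear_combination this

theorem exists_nf (h2 : (2 : K) ≠ 0) (hl : l ≠ 0) {σ : Au (V3 K)} (h1 : ∀ t, σ * Mt t * σ⁻¹ = Mt (l⁻¹ * t))
    (hz : ∀ z, σ (0, 0, z) = (0, 0, z)) (hx : ∀ v, (σ v).1 = l ^ 2 * v.1) :
    ∃ (s : K) (b : K →+ K), Nf (σ * Mt s) l b := by
  have key : ∀ t v, σ v + σ (0, t * v.1, 0) + (0, 0, 2 * t * v.2.1 + t ^ 2 * v.1) = Mt (l⁻¹ * t) (σ v) := fun t v => by
    rw [← h1, au_mul, au_mul, au_inv_apply, ← hz, ← map_add, ← map_add]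
    congr 1
    ext <;> simp [Mt_apply, add_assoc]
  obtain ⟨a, ha⟩ : ∃ a, (σ (1, 0, 0)).2.1 = a := ⟨_, rfl⟩
  have e1 : ∀ t, σ (0, t, 0) = (0, l * t, 2 * l⁻¹ * a * t) := fun t => by
    have k := key t (1, 0, 0)
    have k1 := congrArg (fun v : V3 K => v.2.1) k
    have k2 := congrArg (fun v : V3 K => v.2.2) k
    simp only [Mt_apply, Prod.snd_add, Prod.fst_add, hx, ha, mul_one] at k1 k2
    refine Prod.ext (by simp [hx]) (Prod.ext ?_ ?_)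
    · field_simp at k1 ⊢
      linear_combination k1
    · field_simp at k2 ⊢
      linear_combination k2
  have e2 : ∀ v, (σ v).2.1 = l * v.2.1 + a * v.1 := fun v => by
    have k := congrArg (fun v : V3 K => v.2.2) (key 1 v)
    simp only [Mt_apply, Prod.snd_add, hx, e1] at k
    field_simp at k
    exact mul_left_cancel₀ h2 (by linear_combination -k)
  refine ⟨-(l⁻¹ * a), AddMonoidHom.mk' (fun x => ((σ * Mt (-(l⁻¹ * a))) (x, 0, 0)).2.2) fun x y => by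
    rw [← Prod.snd_add, ← Prod.snd_add, ← map_add]; simp, fun v => Prod.ext (hx _) (Prod.ext ?_ ?_)⟩
  · rw [au_mul, e2]
    simp only [Mt_apply]
    field_simp
    ring
  · have : v = (v.1, 0, 0) + (0, v.2.1, 0) + (0, 0, v.2.2) := by simp
    have m1 : Mt (-(l⁻¹ * a)) (0, v.2.1, 0) = (0, v.2.1, 0) + (0, 0, -(2 * l⁻¹ * a * v.2.1)) := by
      ext <;> simp [Mt_apply, mul_assoc]
    have m2 : Mt (-(l⁻¹ * a)) (0, 0, v.2.2) = (0, 0, v.2.2) := by simp [Mt_apply]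
    conv_lhs => rw [this, map_add, map_add, au_mul _ _ (0, _, 0), au_mul _ _ (0, 0, _), m1, m2, map_add, hz, hz, e1]
    simp [add_comm]

theorem exists_phi [CharP K p] (h2 : (2 : K) ≠ 0) (hL : SylIn p (TM K) L)
    (h : ∀ l : K, l ≠ 0 → ∃ σ ∈ L, ∃ b : K →+ K, Nf σ l b) :
    ∃ φ : K →+ K, ∀ l : K, l ≠ 0 → ∃ σ ∈ L, Nf σ l fun x => φ (l ^ 2 * x) - φ x := by
  by_cases k : ∀ l : K, l ≠ 0 → l ^ 2 = 1
  · refine ⟨0, fun l hl => ?_⟩
    obtain ⟨σ, s1, b, hb⟩ := h l hl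
    have n1 : Nf (1 : Au (V3 K)) (l * l) fun _ => 0 := fun v => by simp [← pow_two, k l hl]
    refine ⟨σ, s1, fun v => (hb v).trans ?_⟩
    have := (hb.mul hb).uniq hL (L.mul_mem s1 s1) L.one_mem n1 v.1
    rw [k l hl, one_mul, ← two_mul, mul_eq_zero, or_iff_right h2] at this
    simp [this]
  · push Not at k
    obtain ⟨m, hm, m1⟩ := k
    obtain ⟨τ, t1, c, hc⟩ := h m hm
    refine ⟨c.comp (AddMonoidHom.mulLeft (m ^ 2 - 1)⁻¹), fun l hl => ?_⟩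
    obtain ⟨σ, s1, b, hb⟩ := h l hl
    refine ⟨σ, s1, fun v => (hb v).trans ?_⟩
    have := (hb.mul hc).uniq hL (L.mul_mem s1 t1) (L.mul_mem t1 s1) (mul_comm m l ▸ hc.mul hb) ((m ^ 2 - 1)⁻¹ * v.1)
    have e : b v.1 = b (m ^ 2 * ((m ^ 2 - 1)⁻¹ * v.1)) - b ((m ^ 2 - 1)⁻¹ * v.1) := by
      rw [← map_sub, ← sub_one_mul, mul_inv_cancel_left₀ (sub_ne_zero.2 m1)]
    simp only [AddMonoidHom.comp_apply, AddMonoidHom.coe_mulLeft, mul_left_comm _ (l ^ 2)]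
    rw [e]
    congr 3
    linear_combination this

/-- the change of coordinates -/
def W (φ : K →+ K) (c : K) (hc : c ≠ 0) : Au (V3 K) :=
  mkAu (fun v => (c⁻¹ * v.1, c⁻¹ * v.2.1, c⁻¹ * (v.2.2 - φ v.1))) (fun v => (c * v.1, c * v.2.1, c * v.2.2 + φ (c * v.1)))
    (fun v w => by ext <;> simp <;> ring) (fun v => by ext <;> simp [hc]) (fun v => by ext <;> simp [hc])

theorem W_apply (φ : K →+ K) {c : K} (hc : c ≠ 0) (v : V3 K) :
    W φ c hc v = (c⁻¹ * v.1, c⁻¹ * v.2.1, c⁻¹ * (v.2.2 - φ v.1)) := rfl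

theorem W_Mt (φ : K →+ K) {c : K} (hc : c ≠ 0) (t : K) : W φ c hc * Mt t * (W φ c hc)⁻¹ = Mt t :=
  mul_inv_eq_iff_eq_mul.2 (au_ext fun v => by ext <;> simp [W_apply, Mt_apply] <;> ring)

/-- passing from the stabiliser of a central vector to the whole group -/
theorem lift [Finite K] [CharP K p] (h2 : (2 : K) ≠ 0) (hL : SylIn p (TM K) L) {c : K}
    (hc : ∀ g ∈ L, ∃ z, g (0, 0, c) = (0, 0, z)) (h : ∀ g ∈ L, g (0, 0, c) = (0, 0, c) → PD g ∧ PZ g) (hg : g ∈ L) :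
    PD g ∧ PZ g := by
  have hL' : SylIn p (TM K) (L ⊓ MulAction.stabilizer (Au (V3 K)) ((0, 0, c) : V3 K)) :=
    hL.mono (le_inf hL.le fun t ht => (TM_le ht).2.2 c) inf_le_left
  obtain ⟨y, hy, k⟩ := hL'.exists_conj_le (hL.isPGroup.map (MulAut.conj g⁻¹).toMonoidHom) (by
    rintro _ ⟨t, ht, rfl⟩
    refine ⟨L.mul_mem (L.mul_mem (L.inv_mem hg) (hL.le ht)) (L.inv_mem (L.inv_mem hg)), ?_⟩
    obtain ⟨z, hz⟩ := hc g hg
    change g⁻¹ (t (g (0, 0, c))) = (0, 0, c)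
    rw [hz, (TM_le ht).2.2, ← hz, au_inv_apply])
  obtain ⟨y1, y2⟩ := h y hy.1 hy.2
  obtain ⟨s, hs⟩ := conj_mem hL TM_le (L.inv_mem hy.1) y1.inv y2.inv (k _ ⟨Mt 1, ⟨1, rfl⟩, rfl⟩)
  have e : ∀ v, g (Mt s v) = Mt 1 (g v) := fun v => by
    rw [hs, show y⁻¹ * (y * (MulAut.conj g⁻¹).toMonoidHom (Mt 1) * y⁻¹) * y⁻¹⁻¹ = g⁻¹ * Mt 1 * g by simp [mul_assoc],
      au_mul, au_mul, au_apply_inv]
  have pz : PZ g := fun z => by
    have k := e (0, 0, z)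
    rw [(TM_le ⟨s, rfl⟩).2.2] at k
    have k1 := congrArg (fun v : V3 K => v.2.1) k
    have k2 := congrArg (fun v : V3 K => v.2.2) k
    simp only [Mt_apply] at k1 k2
    exact ⟨_, Prod.ext (by linear_combination -k1) (Prod.ext (mul_left_cancel₀ h2 (by linear_combination k1 - k2)) rfl)⟩
  refine ⟨fun y z => ?_, pz⟩
  obtain ⟨w, hw⟩ := pz (2 * s * y)
  have k := e (0, y, z)
  rw [show Mt s (0, y, z) = (0, y, z) + (0, 0, 2 * s * y) by simp [Mt_apply], map_add, hw] at k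
  simpa [Mt_apply] using congrArg (fun v : V3 K => v.2.1) k

end VGx

open VGx in
theorem vg (h1 : VH) (h2 : ZD) : VG := by
  intro K _ _ p _ _ hp L hL ⟨c, c0, hc⟩ hσ
  have two : (2 : K) ≠ 0 := Ring.two_ne_zero (by rwa [ringChar.eq K p])
  obtain ⟨φ, hφ⟩ := exists_phi two hL fun l hl => by
    obtain ⟨σ, s1, s2, s3, s4⟩ := hσ l hl
    obtain ⟨s, b, hb⟩ := exists_nf two hl s2 s3 s4
    exact ⟨_, L.mul_mem s1 (hL.le ⟨s, rfl⟩), b, hb⟩
  refine fun g hg => lift two hL hc (fun g hg k => ?_) hg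
  have hL' : SylIn p (TM K) (L ⊓ MulAction.stabilizer (Au (V3 K)) ((0, 0, c) : V3 K)) :=
    hL.mono (le_inf hL.le fun t ht => (TM_le ht).2.2 c) inf_le_left
  have w1 : W φ c c0 (0, 0, c) = (0, 0, 1) := by simp [W_apply, c0]
  have wD : PD (W φ c c0) := fun y z => by simp [W_apply]
  have wZ : PZ (W φ c c0) := fun z => ⟨c⁻¹ * z, by simp [W_apply]⟩
  have hT : (TM K).map (MulAut.conj (W φ c c0)).toMonoidHom = TM K := le_antisymm
    (by rintro _ ⟨_, ⟨t, rfl⟩, rfl⟩; exact ⟨t, (W_Mt φ c0 t).symm⟩)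
    (by rintro _ ⟨t, rfl⟩; exact ⟨_, ⟨t, rfl⟩, W_Mt φ c0 t⟩)
  have hV : VHyp p ((L ⊓ MulAction.stabilizer (Au (V3 K)) ((0, 0, c) : V3 K)).map
      (MulAut.conj (W φ c c0)).toMonoidHom) := by
    refine ⟨hT ▸ hL'.map_conj _, ?_, fun l => ?_⟩
    · rintro _ ⟨a, ha, rfl⟩
      change W φ c c0 (a ((W φ c c0)⁻¹ (0, 0, 1))) = (0, 0, 1)
      rw [← w1, au_inv_apply]
      exact congrArg _ ha.2
    · obtain ⟨σ, s1, s2⟩ := hφ l l.ne_zero
      refine ⟨σ, ⟨s1, (s2 _).trans (by simp)⟩, mul_inv_eq_iff_eq_mul.2 (au_ext fun v => ?_)⟩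
      rw [au_mul, au_mul, s2]
      ext <;> simp only [W_apply, dg_apply] <;> ring
  have pz := h1 K p hp _ hV
  have pd := h2 K p hp _ hV.1 pz (hV.2.2 _)
  have e : g = (W φ c c0)⁻¹ * (W φ c c0 * g * (W φ c c0)⁻¹) * W φ c c0 := by group
  exact ⟨e ▸ (wD.inv.mul (pd _ ⟨g, ⟨hg, k⟩, rfl⟩)).mul wD, e ▸ (wZ.inv.mul (pz _ ⟨g, ⟨hg, k⟩, rfl⟩)).mul wZ⟩

end CL.SpF
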