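/-
Project SpF: the intersection of `D` with a conjugate, and the automorphisms of `S`, in characteristic two.
-/
import Cfsg.Agent.SpF.Defs

set_option autoImplicit false

namespace CL.SpF

open Subgroup Cfsg Cfsg.FusionSystem CL.Fus

namespace WAx

variable {K : Type} [Field K]

/-- the subgroup `v.1 = 0` -/
def W (K : Type) [Field K] : AddSubgroup (V3 K) where
  carrier := {v | v.1 = 0}
  add_mem' := fun {a b} (ha : a.1 = 0) (hb : b.1 = 0) => show a.1 + b.1 = 0 by rw [ha, hb, add_zero]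
  zero_mem' := rfl
  neg_mem' := fun {a} (ha : a.1 = 0) => show -a.1 = 0 by rw [ha, neg_zero]

theorem card_W : Nat.card (V3 K) = Nat.card (W K) * Nat.card K := by
  rw [Nat.card_congr (show W K ≃ K × K from ⟨fun v => v.1.2, fun p => ⟨(0, p), rfl⟩,
    fun v => Subtype.ext (Prod.ext v.2.symm rfl), fun _ => rfl⟩), Nat.card_prod K (K × K), mul_comm]

variable [Fintype K] [CharP K 2]

theorem one (h : MAX) {b : Bool} {L : Subgroup (Au (V3 K))} (hs : SylIn 2 (TB K b) L) {g : Au (V3 K)} (hg : g ∈ L)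
    (hn : ¬ PD g) (y z : K) (h0 : (g (0, y, z)).1 = 0) : (g (0, y, z)).2.1 = 0 ∨ (g (0, y, z)).2.2 = 0 := by
  have := Fact.mk Nat.prime_two
  obtain ⟨m1, m2⟩ := h 2 (Au (V3 K)) (V3 K) K L (TB K b) (fun g v => g v) (W K) (Tb b) (act_au L) hs
    (by
      rintro _ ⟨s, rfl⟩ ⟨x, y, z⟩ (rfl : x = 0)
      simp [Tb_apply, bt_zero])
    (fun s => ⟨s, rfl⟩)
    (fun s s0 v e => by
      have := congrArg (fun w : V3 K => w.2.1) e
      simp only [Tb_apply, add_eq_left, mul_eq_zero] at this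
      exact this.resolve_left s0)
    (fun s v => sub_self v.1) (fun s s' v => by ext <;> simp [Tb_apply, add_bt]; ring) card_W g hg (by
      by_contra k
      exact hn fun y z => by_contra fun e => k ⟨(0, y, z), rfl, e⟩)
  by_contra k
  obtain ⟨k1, k2⟩ := not_or.1 k
  obtain ⟨s, u, s0, u0, e1, e2⟩ : ∃ s u : K, s ≠ 0 ∧ u ≠ 0 ∧ s * u = (g (0, y, z)).2.1 ∧
      bt b s u = (g (0, y, z)).2.2 := by
    generalize (g (0, y, z)).2.1 = y' at k1
    generalize (g (0, y, z)).2.2 = z' at k2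
    cases b
    · exact ⟨y' / (z' / y'), z' / y', by simp [k1, k2], by simp [k1, k2], by field_simp, by simp only [bt]; field_simp⟩
    · exact ⟨z' / y', y' / (z' / y'), by simp [k1, k2], by simp [k1, k2], by field_simp, by simp only [bt]; field_simp⟩
  obtain ⟨w, hw, w', hw', e⟩ := m1 (u, 0, 0)
  have eu : (g w').1 = u := by
    have := congrArg Prod.fst e
    rw [Prod.fst_add, show w.1 = 0 from hw, zero_add] at this
    exact this.symm
  refine m2 w' hw' (fun k => u0 (eu.symm.trans k)) s s0 (0, y, z) rfl ?_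
  ext
  · simp [Tb_apply, h0]
  · simp [Tb_apply, eu, e1]
  · simp [Tb_apply, eu, e2]

end WAx

open WAx in
theorem wa (h : MAX) : WA := by
  intro K _ _ _ b L hs
  have p1 : ∀ g ∈ L, ¬ PD g → (∀ y z, (g (0, y, z)).1 = 0 → (g (0, y, z)).2.1 = 0) ∨
      ∀ y z, (g (0, y, z)).1 = 0 → (g (0, y, z)).2.2 = 0 := fun g hg hn => by
    by_contra k
    push Not at k
    obtain ⟨⟨y, z, a0, a1⟩, y', z', b0, b1⟩ := k
    have a2 := (one h hs hg hn y z a0).resolve_left a1
    have b2 := (one h hs hg hn y' z' b0).resolve_right b1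
    have e : g (0, y + y', z + z') = g (0, y, z) + g (0, y', z') := by rw [← map_add]; simp
    rcases one h hs hg hn (y + y') (z + z') (by rw [e, Prod.fst_add, a0, b0, add_zero]) with k | k
    · rw [e, Prod.snd_add, Prod.fst_add, b2, add_zero] at k; exact a1 k
    · rw [e, Prod.snd_add, Prod.snd_add, a2, zero_add] at k; exact b1 k
  refine ⟨p1, fun ⟨c, c0, hc⟩ ⟨g0, hg0, n0⟩ => ?_⟩
  have cA : ∀ g ∈ L, ¬ PD g → ∀ y z, (g (0, y, z)).1 = 0 → (g (0, y, z)).2.1 = 0 := fun g hg hn =>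
    (p1 g hg hn).resolve_right fun k => by
      have e : g (0, (g⁻¹ (0, 0, c)).2.1, (g⁻¹ (0, 0, c)).2.2) = (0, 0, c) := by
        rw [show ((0 : K), (g⁻¹ (0, 0, c)).2.1, (g⁻¹ (0, 0, c)).2.2) = g⁻¹ (0, 0, c) from
          Prod.ext (hc _ (L.inv_mem hg)).symm rfl, au_apply_inv]
      have := k (g⁻¹ (0, 0, c)).2.1 (g⁻¹ (0, 0, c)).2.2 (by rw [e])
      rw [e] at this
      exact c0 this
  have cB : ∀ g ∈ L, ∀ z, (g⁻¹ (0, 0, z)).1 = 0 := fun g hg z => by
    by_cases hn : PD g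
    · exact hn.inv 0 z
    have inj : Function.Injective fun p : K × K => ((g (0, p)).1, (g (0, p)).2.2) := fun p q e => by
      have e1 : (g (0, p)).1 = (g (0, q)).1 := (Prod.ext_iff.1 e).1
      have e2 : (g (0, p)).2.2 = (g (0, q)).2.2 := (Prod.ext_iff.1 e).2
      have e3 : g (0, p.1 - q.1, p.2 - q.2) = g (0, p) - g (0, q) := by rw [← map_sub]; congr 1; ext <;> simp
      have k0 : (g (0, p.1 - q.1, p.2 - q.2)).1 = 0 := by rw [e3, Prod.fst_sub, e1, sub_self]
      have k1 := cA g hg hn _ _ k0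
      rw [e3, Prod.snd_sub, Prod.fst_sub, sub_eq_zero] at k1
      exact congrArg Prod.snd (g.injective (Prod.ext e1 (Prod.ext k1 e2)) : ((0 : K), p) = (0, q))
    obtain ⟨p, e⟩ := Finite.injective_iff_surjective.1 inj (0, z)
    have e1 : (g (0, p)).1 = 0 := congrArg Prod.fst e
    have e2 : (g (0, p)).2.2 = z := congrArg Prod.snd e
    rw [← show g (0, p) = (0, 0, z) from Prod.ext e1 (Prod.ext (cA g hg hn p.1 p.2 e1) e2), au_inv_apply]
  intro g hg z
  have k1 := cB _ (L.inv_mem hg) z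
  have k2 := cB _ (L.inv_mem (L.mul_mem (L.inv_mem hg0) hg)) z
  rw [inv_inv] at k1 k2
  have e : g0 (0, ((g0⁻¹ * g) (0, 0, z)).2.1, ((g0⁻¹ * g) (0, 0, z)).2.2) = g (0, 0, z) := by
    rw [show ((0 : K), ((g0⁻¹ * g) (0, 0, z)).2.1, ((g0⁻¹ * g) (0, 0, z)).2.2) = (g0⁻¹ * g) (0, 0, z) from
      Prod.ext k2.symm rfl, au_mul, au_apply_inv]
  have := cA g0 hg0 n0 _ _ (e ▸ k1)
  rw [e] at this
  exact ⟨_, Prod.ext k1 (Prod.ext this rfl)⟩

namespace WAx

variable {K : Type} [Field K] [CharP K 2]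

theorem sq_iff {g : U K} : g * g = 1 ↔ g.t * g.x = 0 := by
  have h2 : (2 : K) = 0 := CharTwo.two_eq_zero
  refine ⟨fun e => ?_, fun e => ?_⟩
  · have := congrArg U.y e
    simp only [mul_y, one_y] at this
    linear_combination this - g.y * h2
  · ext <;> simp only [mul_t, mul_x, mul_y, mul_z, one_t, one_x, one_y, one_z]
    · linear_combination g.t * h2
    · linear_combination g.x * h2
    · linear_combination e + g.y * h2
    · linear_combination g.t * e + (g.z + g.t * g.y) * h2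

theorem cmt {g h : U K} (h1 : g.x = 0) (h2 : h.t = 0) : g * h = h * g * ⟨0, 0, g.t * h.x, g.t ^ 2 * h.x⟩ := by
  have h0 : (2 : K) = 0 := CharTwo.two_eq_zero
  ext <;> simp only [mul_t, mul_x, mul_y, mul_z, h1, h2]
  · ring
  · ring
  · ring
  · linear_combination (g.t * h.y - g.t ^ 2 * h.x) * h0

theorem tau2 (h3 : ∀ l : K, l ≠ 0 → l ^ 3 = 1) (τ : K ≃+* K) (z : K) : τ (τ z) = z := by
  have h0 : (2 : K) = 0 := CharTwo.two_eq_zero
  by_cases z0 : z = 0
  · simp [z0]
  by_cases z1 : z = 1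
  · simp [z1]
  have e : z ^ 2 + z + 1 = 0 := mul_left_cancel₀ (sub_ne_zero.2 z1) (by linear_combination h3 z z0)
  have e' : τ z ^ 2 + τ z + 1 = 0 := by simpa using congrArg τ e
  have k : (τ z - z) * (τ z - z ^ 2) = 0 := by
    linear_combination e' - τ z * e + h3 z z0
  rcases mul_eq_zero.1 k with k | k
  · rw [sub_eq_zero.1 k, sub_eq_zero.1 k]
  · rw [sub_eq_zero.1 k, map_pow, sub_eq_zero.1 k]
    linear_combination z * h3 z z0

end WAx

open WAx in
theorem s1 (h : WA) : S1 := by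
  intro K _ _ _ h3 F hF σ hσ
  have := Fact.mk Nat.prime_two
  have h0 : (2 : K) = 0 := CharTwo.two_eq_zero
  obtain ⟨α, hα⟩ := exists_aut hσ
  obtain rfl : σ = α := (funext hα).symm
  obtain ⟨m, m2, s, hm⟩ := exists_iter hF.1 hσ
  have dich : ∀ b, (∀ g ∈ EE K b, (α g).t = 0) ∨ ∀ g ∈ EE K b, (α g).x = 0 := fun b => by
    have k : ∀ g ∈ EE K b, (α g).t * (α g).x = 0 := fun g hg => sq_iff.1 (by
      rw [← map_mul, sq_iff.2, map_one]
      cases b
      · rw [mem_Q0.1 hg, mul_zero]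
      · rw [mem_A.1 hg, zero_mul])
    by_contra n
    push Not at n
    obtain ⟨⟨g, hg, n1⟩, g', hg', n2⟩ := n
    have := k _ (mul_mem hg hg')
    rw [map_mul, mul_t, mul_x, (mul_eq_zero.1 (k g hg)).resolve_left n1, (mul_eq_zero.1 (k g' hg')).resolve_right n2,
      add_zero, zero_add] at this
    exact mul_ne_zero n1 n2 this
  have d1 : ∀ g : U K, g = ⟨0, g.x, g.y, g.z⟩ * ⟨g.t, 0, 0, 0⟩ := fun g => by ext <;> simp
  have d2 : ∀ g : U K, g = ⟨0, g.x, 0, 0⟩ * ⟨g.t, 0, g.y, g.z⟩ := fun g => by ext <;> simp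
  obtain ⟨hA, hQ⟩ : (∀ g : U K, g.t = 0 → (α g).t = 0) ∧ ∀ g : U K, g.x = 0 → (α g).x = 0 := by
    rcases dich true with a | a <;> rcases dich false with q | q
    · obtain ⟨g, e⟩ := α.surjective ⟨1, 0, 0, 0⟩
      have := congrArg U.t e
      rw [d1 g, map_mul, mul_t, a _ rfl, q _ (mem_Q0.2 rfl), add_zero] at this
      exact absurd this zero_ne_one
    · exact ⟨a, fun g hg => q g (mem_Q0.2 hg)⟩
    · have k : ∀ n (g : U K), g.t = 0 → (Even n → (α^[n] g).t = 0) ∧ (¬ Even n → (α^[n] g).x = 0) := fun n g hg => by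
        induction n with
        | zero => exact ⟨fun _ => hg, fun e => absurd Even.zero e⟩
        | succ n ih =>
          rw [Function.iterate_succ_apply', Nat.even_add_one, not_not]
          exact ⟨fun e => q _ (mem_Q0.2 (ih.2 e)), fun e => a _ (ih.1 e)⟩
      have := (k m ⟨0, 1, 0, 0⟩ rfl).2 (by rwa [even_iff_two_dvd])
      rw [hm] at this
      simp at this
    · obtain ⟨g, e⟩ := α.surjective ⟨0, 1, 0, 0⟩
      have := congrArg U.x e
      rw [d1 g, map_mul, mul_x, a _ rfl, q _ (mem_Q0.2 rfl), add_zero] at this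
      exact absurd this zero_ne_one
  have hZ : ∀ z, (α ⟨0, 0, 0, z⟩).y = 0 := fun z => by
    obtain ⟨g, hg, eg⟩ := (crd true).exists_LL (hσ.mono le_top) fun g hg => hA g hg
    obtain ⟨w, hw⟩ := (HF.wh h hF true).2.1 g hg z
    have := eg (0, 0, z)
    rw [hw] at this
    exact congrArg U.y this
  have et : ∀ g : U K, (α g).t = (α ⟨g.t, 0, 0, 0⟩).t := fun g => by
    conv_lhs => rw [d1 g, map_mul, mul_t, hA _ rfl, zero_add]
  have ex : ∀ g : U K, (α g).x = (α ⟨0, g.x, 0, 0⟩).x := fun g => by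
    conv_lhs => rw [d2 g, map_mul, mul_x, hQ ⟨g.t, 0, g.y, g.z⟩ rfl, add_zero]
  have ad : ∀ y z y' z' : K, α ⟨0, 0, y + y', z + z'⟩ = α ⟨0, 0, y, z⟩ * α ⟨0, 0, y', z'⟩ := fun y z y' z' => by
    rw [← map_mul]; congr 1; ext <;> simp
  let be : K →+ K := AddMonoidHom.mk' (fun y => (α ⟨0, 0, y, 0⟩).y) fun y y' => by
    have := congrArg U.y (ad y 0 y' 0)
    rwa [add_zero, mul_y, hA _ rfl, zero_mul, add_zero] at this
  let ka : K →+ K := AddMonoidHom.mk' (fun y => (α ⟨0, 0, y, 0⟩).z) fun y y' => by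
    have := congrArg U.z (ad y 0 y' 0)
    rw [add_zero, mul_z, hA _ rfl] at this
    simpa using this
  let ga : K → K := fun z => (α ⟨0, 0, 0, z⟩).z
  have eD : ∀ y z, α ⟨0, 0, y, z⟩ = ⟨0, 0, be y, ka y + ga z⟩ := fun y z => by
    have := ad y 0 0 z
    rw [add_zero, zero_add] at this
    rw [this]
    ext
    · simp [hA]
    · simp [hQ]
    · simp [hA, hZ, be]
    · simp [hA, ka, ga]
  have gi : Function.Injective ga := fun z z' e => by
    have : α ⟨0, 0, 0, z⟩ = α ⟨0, 0, 0, z'⟩ := by rw [eD, eD, e]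
    exact congrArg U.z (α.injective this)
  have g0 : ga 0 = 0 := congrArg U.z (map_one α)
  have bi : Function.Injective be := (injective_iff_map_eq_zero be).2 fun y hy => by
    obtain ⟨z, hz⟩ := Finite.injective_iff_surjective.1 gi (ka y)
    have : α ⟨0, 0, y, 0⟩ = α ⟨0, 0, 0, z⟩ := by rw [eD, eD, hy, hz, g0, map_zero, map_zero, add_zero, zero_add]
    exact congrArg U.y (α.injective this)
  have cm : ∀ t x : K, be (t * x) = (α ⟨t, 0, 0, 0⟩).t * (α ⟨0, x, 0, 0⟩).x ∧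
      ka (t * x) + ga (t ^ 2 * x) = (α ⟨t, 0, 0, 0⟩).t ^ 2 * (α ⟨0, x, 0, 0⟩).x := fun t x => by
    have e1 := congrArg α (cmt (g := ⟨t, 0, 0, 0⟩) (h := ⟨0, x, 0, 0⟩) rfl rfl)
    rw [map_mul, map_mul, map_mul, cmt (hQ _ rfl) (hA _ rfl), mul_right_inj, eD] at e1
    exact ⟨(congrArg U.y e1).symm, (congrArg U.z e1).symm⟩
  obtain ⟨a0, b0, τ, ea, eb, ec⟩ := isotopy (fun t => (α ⟨t, 0, 0, 0⟩).t) (fun x => (α ⟨0, x, 0, 0⟩).x) be bi
    fun t x => (cm t x).1
  set a := (α ⟨1, 0, 0, 0⟩).t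
  set b := (α ⟨0, 1, 0, 0⟩).x
  have ht : ∀ z, τ z = z := fun z => by
    have k : ∀ n, ∃ c, ∀ g : U K, (α^[n] g).t = c * τ^[n] g.t := fun n => by
      induction n with
      | zero => exact ⟨1, fun g => (one_mul _).symm⟩
      | succ n ih =>
        obtain ⟨c, hc⟩ := ih
        exact ⟨a * τ c, fun g => by
          rw [Function.iterate_succ_apply', Function.iterate_succ_apply', et, ea, hc, map_mul, mul_assoc]⟩
    obtain ⟨c, hc⟩ := k m
    have c1 := hc ⟨1, 0, 0, 0⟩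
    have c2 := hc ⟨z, 0, 0, 0⟩
    rw [hm] at c1 c2
    rw [Function.iterate_fixed (map_one τ)] at c1
    obtain ⟨j, rfl⟩ : Odd m := by rwa [← Nat.not_even_iff_odd, even_iff_two_dvd]
    rw [Function.iterate_add_apply, Function.iterate_one, Function.iterate_mul,
      Function.iterate_fixed (f := τ^[2]) (x := τ z) (tau2 h3 τ _)] at c2
    simp only [mul_t, inv_t, add_neg_cancel_comm, mul_one] at c1 c2
    rw [← c1, one_mul] at c2
    exact c2.symm
  simp only [ht] at ea eb ec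
  have cz : ∀ t x : K, ka (t * x) + ga (t ^ 2 * x) = (a * t) ^ 2 * (b * x) := fun t x => by rw [(cm t x).2, ea, eb]
  have c1 : ∀ u, ka u + ga u = a ^ 2 * b * u := fun u => by
    have := cz 1 u
    rw [one_mul, one_pow, one_mul] at this
    rw [this]; ring
  have k0 : ∀ u, ka u = 0 := by
    by_cases k : ∃ ω : K, ω ≠ 0 ∧ ω ≠ 1
    · obtain ⟨ω, w0, w1⟩ := k
      have w2 : ω - 1 ≠ 0 := sub_ne_zero.2 w1
      have e : ∀ x, ka (ω ^ 2 * x - ω * x) = 0 := fun x => by
        rw [map_sub]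
        linear_combination c1 (ω ^ 2 * x) - cz ω x
      intro u
      rw [← e (u / (ω * (ω - 1)))]
      congr 1
      field_simp
    · push Not at k
      intro u
      by_cases u0 : u = 0
      · rw [u0, map_zero]
      have := c1 1
      rw [k a a0, k b b0, k (ga 1) fun e => one_ne_zero (gi (e.trans g0.symm))] at this
      rw [k u u0]
      linear_combination this
  refine ⟨a, b, a0, b0, fun g => ⟨by rw [et, ea], by rw [ex, eb]⟩, fun y z => ?_⟩
  rw [eD, ec, k0, zero_add, ← c1, k0, zero_add]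

end CL.SpF
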