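/-
Project SpF: the standard form of `Aut_F(E)` in characteristic two.
-/
import Cfsg.Agent.SpF.Defs

set_option autoImplicit false

namespace CL.SpF

open Subgroup CL.Fus

namespace WCx

variable {K : Type} [Field K] [Fintype K] [CharP K 2] {b : Bool} {L : Subgroup (Au (V3 K))}

theorem split (g : Au (V3 K)) (u y z y' z' : K) : g (u, y + y', z + z') = g (u, y, z) + g (0, y', z') := by
  rw [← map_add]; simp

theorem sp (h : SP3) (hL : WH b L) {g : Au (V3 K)} (hg : g ∈ L) (ng : ¬ PD g) : ∃ f : K →+ K,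
    (∀ y z, (g (0, y, z)).2.1 = f (g (0, y, z)).1) ∧ (∀ u z, ∃ y z', g (0, y, z') = (u, f u, z)) ∧
    (∃ s : K, ∀ v : V3 K, ((g * Tb b s * g⁻¹) v).1 = v.1 + (v.2.1 - f v.1) ∧
      ((g * Tb b s * g⁻¹) v).2.1 = v.2.1 + f (v.2.1 - f v.1)) ∧
    ∀ g' ∈ L, ¬ PD g' → ∃ s, ∀ y z, (g' (0, y, z)).2.1 = f (g' (0, y, z)).1 + s * (g' (0, y, z)).1 := by
  obtain ⟨f, a1, a2, a3, a4, -⟩ := h K 2 L (TB K b) (Tb b) hL.1 hL.2.1 (fun _ k => k) (fun s => ⟨s, rfl⟩)
    (fun _ _ => ⟨rfl, rfl⟩) (fun s z => by simp [Tb_apply, bt_zero]) g hg ng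
  exact ⟨f, a1, a2, by simpa using a3 1, a4⟩

/-- a conjugate of `D` invariant under `R` -/
theorem inv (h : SP3) (hL : WH b L) {R : Type} [Group R] [Finite R] (ψ : R →* Au (V3 K)) (odd : Odd (Nat.card R))
    (hψ : ∀ r, ψ r ∈ L) (a c k : R → K) (ha : ∀ r v, (ψ r v).1 = a r * v.1)
    (hc : ∀ r y z, ψ r (0, y, z) = (0, c r * y, k r * z)) :
    ∃ g ∈ L, ¬ PD g ∧ ∀ r, PD (g⁻¹ * ψ r * g) := by
  have := Fintype.ofFinite R
  obtain ⟨g0, hg0, n0⟩ := hL.2.2
  obtain ⟨f, a1, a2, -, a4⟩ := sp h hL hg0 n0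
  have pd : ∀ r, PD (ψ r) := fun r y z => by rw [hc]
  have a0 : ∀ r, a r ≠ 0 := fun r e => by
    have := ha r ((ψ r)⁻¹ (1, 0, 0))
    rw [au_apply_inv, e, zero_mul] at this; exact one_ne_zero this
  choose π hπ using fun r => a4 (ψ r * g0) (L.mul_mem (hψ r) hg0) fun k' => n0 (by
    simpa using (pd r).inv.mul k')
  have e1 : ∀ r s u z, (ψ r (u, f u + s * u, z)).2.1 = f (a r * u) + (π r + c r / a r * s) * (a r * u) := by
    intro r s u z
    obtain ⟨y, z', e⟩ := a2 u z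
    have := hπ r y z'
    rw [au_mul, e, ha] at this
    rw [← add_zero z, split, hc, Prod.snd_add, Prod.fst_add, this]
    have := a0 r
    field_simp
    ring
  have e2 : ∀ r r', π (r' * r) = π r' + c r' / a r' * π r := fun r r' => by
    have k1 := e1 (r' * r) 0 1 0
    have k0 := ha (r' * r) (1, 0, 0)
    rw [map_mul, au_mul, ha, ha, mul_one, mul_one] at k0
    obtain ⟨z, k2⟩ : ∃ z, ψ r (1, f 1 + 0 * 1, 0) = (a r * 1, f (a r * 1) + π r * (a r * 1), z) :=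
      ⟨_, Prod.ext (ha _ _) (Prod.ext (by rw [e1, mul_zero, add_zero]) rfl)⟩
    rw [map_mul, au_mul, k2, e1, ← k0] at k1
    simp only [mul_one, mul_zero, add_zero, add_right_inj] at k1
    exact (mul_right_cancel₀ (mul_ne_zero (a0 r') (a0 r)) k1).symm
  have e3 : ∀ r', π r' + c r' / a r' * ∑ r, π r = ∑ r, π r := fun r' => by
    obtain ⟨m, hm⟩ := odd
    conv_rhs => rw [← Equiv.sum_comp (Equiv.mulLeft r') π]
    simp only [Equiv.coe_mulLeft, e2, Finset.sum_add_distrib, Finset.sum_const, Finset.card_univ, Finset.mul_sum,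
      ← Nat.card_eq_fintype_card, hm, nsmul_eq_mul]
    push_cast
    rw [CharTwo.two_eq_zero, zero_mul, zero_add, one_mul]
  refine ⟨Tb b (∑ r, π r) * g0, L.mul_mem (hL.1.le ⟨_, rfl⟩) hg0, fun k' => n0 fun y z => k' y z, fun r y z => ?_⟩
  obtain ⟨u, z1, e⟩ : ∃ u z1, (Tb b (∑ r, π r) * g0) (0, y, z) = (u, f u + (∑ r, π r) * u, z1) :=
    ⟨(g0 (0, y, z)).1, _, Prod.ext rfl (Prod.ext (by rw [← a1]; rfl) rfl)⟩
  obtain ⟨y', z', e'⟩ := a2 (a r * u) ((ψ r (u, f u + (∑ r, π r) * u, z1)).2.2 - bt b (∑ r, π r) (a r * u))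
  have : ψ r (u, f u + (∑ r, π r) * u, z1) = (Tb b (∑ r, π r) * g0) (0, y', z') := by
    rw [au_mul, e', Tb_apply]
    exact Prod.ext (ha _ _) (Prod.ext (by rw [e1, e3]) (by simp))
  rw [au_mul, au_mul, e, this, au_inv_apply]

end WCx

open WCx

theorem wc (h : SP3) : WC := by
  intro K _ _ _ l3 b L hL R _ _ ψ odd hψ hd
  have h2 : (2 : K) = 0 := CharTwo.two_eq_zero
  choose a c k ha hc using hd
  obtain ⟨g, hg, ng, hi⟩ := inv h hL ψ odd hψ a c k ha hc
  obtain ⟨f, a1, a2, ⟨s, a3⟩, -⟩ := sp h hL hg ng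
  have hT : ∀ s, Tb b s ∈ L := fun s => hL.1.le ⟨s, rfl⟩
  obtain ⟨t1, ht1, ht⟩ : ∃ t1 ∈ L, t1 = g * Tb b s * g⁻¹ := ⟨_, L.mul_mem (L.mul_mem hg (hT s)) (L.inv_mem hg), rfl⟩
  rw [← ht] at a3
  let ζ : K →+ K := AddMonoidHom.mk' (fun y => bt b 1 y + (t1 (0, y, 0)).2.2) fun y y' => by
    have := split t1 0 y 0 y' 0
    rw [add_zero] at this
    rw [this, bt_add, Prod.snd_add, Prod.snd_add]; ring
  have e1 : ∀ u y z, t1 (u, f u + y, z) = (u + y, f (u + y) + y, z + (bt b 1 y + ζ y)) := fun u y z => by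
    obtain ⟨y', z', e⟩ := a2 u z
    have k1 : t1 (u, f u, z) = (u, f u, z) := by
      rw [ht, ← e, au_mul, au_mul, au_inv_apply, Tb_apply]; simp [bt_zero]
    rw [← add_zero z, split, k1, add_zero]
    refine Prod.ext (by simpa using (a3 (0, y, 0)).1) (Prod.ext ?_ ?_)
    · have := (a3 (0, y, 0)).2
      simp only [map_zero, sub_zero] at this
      simp only [Prod.snd_add, Prod.fst_add, this, map_add]; ring
    · simp only [Prod.snd_add, ζ, AddMonoidHom.mk'_apply]; linear_combination -bt b 1 y * h2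
  obtain ⟨n, hn, en⟩ : ∃ n ∈ L, ∀ u y z, n (u, f u + y, z) = (y, f y + u, z + ζ (u + y)) := by
    refine ⟨Tb b 1 * t1 * Tb b 1, L.mul_mem (L.mul_mem (hT 1) ht1) (hT 1), fun u y z => ?_⟩
    rw [au_mul, au_mul, Tb_apply b 1 (u, _, _)]
    simp only [one_mul, add_assoc]
    rw [e1, Tb_apply, show u + (y + u) = y by linear_combination u * h2, add_comm y u]
    simp only [bt_add]
    exact Prod.ext rfl (Prod.ext (by simp only; linear_combination y * h2)
      (by simp only; linear_combination (bt b 1 u + bt b 1 y) * h2))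
  have ew : ∀ u y z, sh f ζ (u, f u + y, z) = (u, y, z + ζ u) := fun u y z =>
    Prod.ext rfl (Prod.ext (by simp only [sh_apply]; linear_combination f u * h2) rfl)
  have all : ∀ v : V3 K, ∃ u y z, v = (u, f u + y, z) := fun v => ⟨v.1, v.2.1 - f v.1, v.2.2, by simp⟩
  have e2 : ∀ m, sh f ζ * (n * Tb b m) = ms b m * sh f ζ * n := fun m => au_ext fun v => by
    obtain ⟨u, y, z, rfl⟩ := all v
    rw [au_mul, au_mul, au_mul, au_mul, Tb_apply]
    simp only [add_assoc]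
    rw [en, en, ew, ew, ms_apply]
    simp only [map_add]
    exact Prod.ext (by simp only) (Prod.ext rfl (by simp only; linear_combination (ζ y + ζ (m * u)) * h2 - ζ y * h2))
  have e3 : ∀ m, (sh f ζ)⁻¹ * ms b m * sh f ζ = n * Tb b m * n⁻¹ := fun m => by
    rw [mul_assoc, inv_mul_eq_iff_eq_mul, ← mul_assoc, e2, mul_inv_cancel_right]
  refine ⟨f, ζ, fun m => e3 m ▸ L.mul_mem (L.mul_mem hn (hT m)) (L.inv_mem hn), fun r u => ?_⟩
  have gn : PD (g⁻¹ * n) := fun y z => by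
    obtain ⟨y', z', e⟩ := a2 y (z + ζ y)
    have := en 0 y z
    rw [map_zero, zero_add, add_zero] at this
    rw [au_mul, this, ← e, au_inv_apply]
  have m1 : n⁻¹ * ψ r * n ∈ L := L.mul_mem (L.mul_mem (L.inv_mem hn) (hψ r)) hn
  obtain ⟨u', hu⟩ := conj_mem hL.1 (TB_le b) m1 (by simpa [mul_assoc] using (gn.inv.mul (hi r)).mul gn)
    (hL.2.1 _ m1) ⟨u, rfl⟩
  obtain ⟨s', hs⟩ := conj_mem hL.1 (TB_le b) (hψ r) (fun y z => by rw [hc]) (hL.2.1 _ (hψ r)) ⟨1, rfl⟩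
  obtain ⟨ρ, hρ⟩ : ∃ ρ, ρ = sh f ζ * ψ r * (sh f ζ)⁻¹ := ⟨_, rfl⟩
  have r1 : ∀ y z, ρ (0, y, z) = (0, c r * y, k r * z) := fun y z => by
    rw [hρ, au_mul, au_mul, sh_inv_apply]; simp [hc, sh_apply]
  have r2 : (ρ (u, 0, 0)).1 = a r * u := by rw [hρ, au_mul, au_mul, sh_apply, ha]; rfl
  have r3 : ρ * ms b u = ms b u' * ρ := by
    have k1 : ∀ m, ms b m = sh f ζ * (n * Tb b m * n⁻¹) * (sh f ζ)⁻¹ := fun m => by rw [← e3]; group
    rw [k1, k1, hu, hρ]; group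
  have r4 := congrArg (fun x : Au (V3 K) => x (0, 1, 0)) r3
  simp only [au_mul, r1, ms_apply, mul_one, zero_add, mul_zero] at r4
  rw [← zero_add (1 : K), ← zero_add (bt b u _), split, r1, zero_add, mul_one] at r4
  have r5 := congrArg (fun x : Au (V3 K) => x (ψ r (1, 0, 0))) hs
  simp only [au_mul, au_inv_apply, Tb_apply, ha, mul_one] at r5
  rw [split, hc, mul_one] at r5
  have c1 : s' * a r = c r := by simpa using congrArg (fun v : V3 K => v.2.1) r5
  have c2 : bt b s' (a r) = k r * bt b 1 1 := by simpa using congrArg (fun v : V3 K => v.2.2) r5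
  have d1 : a r * u = u' * c r := by simpa [r2] using congrArg (fun v : V3 K => v.1) r4
  have d2 : (ρ (u, 0, 0)).2.1 = 0 := by simpa using congrArg (fun v : V3 K => v.2.1) r4
  have d3 : (ρ (u, 0, 0)).2.2 + k r * bt b u 1 = bt b u' (c r) := by
    simpa using congrArg (fun v : V3 K => v.2.2) r4
  have a0 : a r ≠ 0 := fun e => by
    have := ha r ((ψ r)⁻¹ (1, 0, 0))
    rw [au_apply_inv, e, zero_mul] at this; exact one_ne_zero this
  have c0 : c r ≠ 0 := fun e => by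
    have := (ψ r).injective ((hc r 1 0).trans (hc r 0 0 ▸ by rw [e]; simp : (0, c r * 1, k r * 0) = ψ r (0, 0, 0)))
    simp at this
  rw [← hρ]
  refine Prod.ext (r2.trans (ha r (u, 0, 0)).symm) (Prod.ext d2 ?_)
  have s0 : s' ≠ 0 := fun e => c0 (by rw [← c1, e, zero_mul])
  have d4 : u = u' * s' := mul_left_cancel₀ a0 (by rw [d1, ← c1]; ring)
  have := l3 s' s0
  cases b <;> simp only [bt, mul_one, one_pow] at c2 d3 ⊢ <;> rw [← c2, ← c1, d4] at d3 <;> rw [d4]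
  · linear_combination d3
  · linear_combination d3 - a r * s' * u' ^ 2 * this

end CL.SpF
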