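/-
Project SpF: the parts `ZD` and `WB`.
-/
import Cfsg.Agent.SpF.Defs

set_option autoImplicit false

namespace CL.SpF

open Subgroup Cfsg Cfsg.FusionSystem CL.Fus

namespace ZDx

variable {K : Type} [Field K]

theorem two_ne (p : ℕ) [hp : Fact p.Prime] [CharP K p] (h : p ≠ 2) : (2 : K) ≠ 0 := fun k =>
  h ((Nat.prime_dvd_prime_iff_eq hp.out Nat.prime_two).1 ((CharP.cast_eq_zero_iff K p 2).1 (by exact_mod_cast k)))

/-- an involution which fixes `D` pointwise and normalises `TM K` is trivial -/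
theorem triv (h2 : (2 : K) ≠ 0) {r : Au (V3 K)} (hD : ∀ y z, r (0, y, z) = (0, y, z)) (hr : ∀ v, r (r v) = v)
    (hc : r * Mt 1 * r⁻¹ ∈ TM K) (v : V3 K) : r v = v := by
  obtain ⟨t, ht⟩ := hc
  have e : ∀ v, Mt t (r v) = r (Mt 1 v) := fun v => by rw [ht, au_mul, au_mul, au_inv_apply]
  have k := e v
  rw [show Mt 1 v = v + (0, v.1, 2 * v.2.1 + v.1) by ext <;> simp [Mt_apply]; ring, map_add, hD] at k
  have k0 := congrArg (fun w : V3 K => w.2.2) (e (0, 1, 0))
  rw [show Mt (1 : K) (0, 1, 0) = (0, 1, 2) by ext <;> simp [Mt_apply], hD, hD] at k0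
  have t1 : t = 1 := by
    simp only [Mt_apply] at k0
    exact mul_left_cancel₀ h2 (by linear_combination k0)
  have k1 : (r v).1 = v.1 := by
    have := congrArg (fun w : V3 K => w.2.1) k
    simp only [Mt_apply, t1, Prod.snd_add, Prod.fst_add] at this
    linear_combination this
  obtain ⟨y, z, k2⟩ : ∃ y z, r v = v + (0, y, z) := ⟨(r v - v).2.1, (r v - v).2.2, by ext <;> simp [k1]⟩
  have k3 := hr v
  rw [k2, map_add, hD, k2] at k3
  have y0 : y = 0 := by
    have := congrArg (fun w : V3 K => w.2.1) k3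
    simp only [Prod.snd_add, Prod.fst_add] at this
    exact mul_left_cancel₀ h2 (by linear_combination this)
  have z0 : z = 0 := by
    have := congrArg (fun w : V3 K => w.2.2) k3
    simp only [Prod.snd_add] at this
    exact mul_left_cancel₀ h2 (by linear_combination this)
  rw [k2, y0, z0]; exact add_zero v

theorem sg_apply (v : V3 K) : dg (-1 : Kˣ) v = (v.1, -v.2.1, v.2.2) := by ext <;> simp [dg_apply]

end ZDx

open ZDx

theorem zd (h : SP3) : ZD := by
  intro K _ _ p _ _ hp L hS hZ hσ g hg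
  by_contra hn
  have h2 := two_ne (K := K) p hp
  obtain ⟨f, c1, c2, -, c4, -⟩ := h K p L (TM K) Mt hS hZ (fun _ ht => ht) (fun s => ⟨s, rfl⟩) (fun _ _ => ⟨rfl, rfl⟩)
    (fun s z => (TM_le ⟨s, rfl⟩).2.2 z) g hg hn
  have hh : Mt (-f 1) * g ∈ L := L.mul_mem (hS.le ⟨_, rfl⟩) hg
  obtain ⟨s, hs⟩ := c4 _ (L.mul_mem hσ hh) fun k => hn fun y z => by
    simpa only [au_mul, sg_apply, Mt_apply] using k y z
  have k : ∀ y z, -(f (g (0, y, z)).1 + -f 1 * (g (0, y, z)).1) = f (g (0, y, z)).1 + s * (g (0, y, z)).1 := fun y z => by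
    have := hs y z
    simp only [au_mul, sg_apply, Mt_apply, c1] at this
    exact this
  have hs1 : s = -f 1 := by
    obtain ⟨y, z, e⟩ := c2 1 0
    have := k y z
    rw [e] at this
    linear_combination -this
  have k2 : ∀ y z, dg (-1) ((Mt (-f 1) * g) (0, y, z)) = (Mt (-f 1) * g) (0, y, z) := fun y z => by
    have : ((Mt (-f 1) * g) (0, y, z)).2.1 = 0 := by
      simp only [au_mul, Mt_apply, c1]
      have := k y z
      rw [hs1] at this
      exact mul_left_cancel₀ h2 (by linear_combination -this)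
    rw [sg_apply]
    exact Prod.ext rfl (Prod.ext (by show -_ = _; rw [this, neg_zero]) rfl)
  generalize Mt (-f 1) * g = a at hh k2
  have hD : ∀ y z, (a⁻¹ * dg (-1) * a : Au (V3 K)) (0, y, z) = (0, y, z) := fun y z => by
    rw [au_mul, au_mul, k2, au_inv_apply]
  have hr : a⁻¹ * dg (-1) * a ∈ L := L.mul_mem (L.mul_mem (L.inv_mem hh) hσ) hh
  have e := triv h2 hD (fun v => by simp only [au_mul, au_apply_inv, sg_apply, neg_neg]; exact au_inv_apply a v)
    (conj_mem hS TM_le hr (fun y z => by rw [hD]) (hZ _ hr) ⟨1, rfl⟩) (a⁻¹ (0, 1, 0))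
  rw [au_mul, au_mul, au_apply_inv, sg_apply] at e
  have := congrArg (fun w : V3 K => w.2.1) ((a⁻¹).injective e)
  exact h2 (by linear_combination -this)

theorem wb (h : SP3) : WB := by
  rintro K _ _ _ L ⟨hS, hZ, g, hg, hn⟩ l hl
  obtain ⟨f, -, -, -, -, c5⟩ := h K 2 L (TB K true) (Tb true) hS hZ (fun _ ht => ht) (fun s => ⟨s, rfl⟩)
    (fun _ _ => ⟨rfl, rfl⟩) (fun s z => (TB_le true ⟨s, rfl⟩).2.2 z) g hg hn
  obtain ⟨a, ha, a1, a2, a3⟩ := c5 l hl
  have k : ∀ s, ∃ s', ∀ u, a (0, s * u, 0) + (0, 0, s ^ 2 * u) = (0, s' * (l * u), s' ^ 2 * (l * u)) := fun s => by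
    obtain ⟨s', hs⟩ := conj_mem hS (TB_le true) ha (fun y z => by rw [a2, mul_zero]) (hZ a ha) (mem_TB.2 ⟨s, rfl⟩)
    refine ⟨s', fun u => ?_⟩
    have e : Tb true s' (a (u, 0, 0)) = a (Tb true s (u, 0, 0)) := by rw [hs, au_mul, au_mul, au_inv_apply]
    rw [show Tb true s (u, 0, 0) = (u, 0, 0) + ((0, s * u, 0) + (0, 0, s ^ 2 * u)) by ext <;> simp [Tb_apply, bt],
      show Tb true s' (a (u, 0, 0)) = a (u, 0, 0) + (0, s' * (l * u), s' ^ 2 * (l * u)) by
        ext <;> simp [Tb_apply, bt, a2], map_add, map_add, a1] at e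
    exact (add_left_cancel e).symm
  have k' : ∀ s u, (a (0, s * u, 0)).2.2 * l ^ 3 + s ^ 2 * u * l ^ 3 = s ^ 2 * u := fun s u => by
    obtain ⟨s', hs⟩ := k s
    have e1 := congrArg (fun w : V3 K => w.2.1) (hs 1)
    have e2 := congrArg (fun w : V3 K => w.2.2) (hs u)
    simp only [Prod.snd_add, Prod.fst_add, a3, add_zero, mul_one] at e1 e2
    have e3 : s = s' * l ^ 2 := by field_simp at e1; linear_combination e1
    rw [← add_mul, e2, e3]; ring
  have e1 := k' 1 l
  have e2 := k' l 1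
  rw [one_mul] at e1
  rw [mul_one] at e2
  rcases eq_or_ne l 1 with rfl | h1
  · exact one_pow 3
  · have : l * (l - 1) * (l ^ 3 - 1) = 0 := by linear_combination e2 - e1
    exact sub_eq_zero.1 ((mul_eq_zero.1 this).resolve_left (mul_ne_zero hl (sub_ne_zero.2 h1)))

end CL.SpF
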