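/-
Project SpF: a system in standard position is determined by its action on the centre.
-/
import Cfsg.Agent.SpF.Defs

set_option autoImplicit false

namespace CL.SpF

open Subgroup Cfsg Cfsg.FusionSystem CL.Fus

namespace Uniqx

variable {K : Type} [Field K] {F F' : FS K} {σ : U K → U K} {s : U K} {a b a' b' l : K}

theorem dmor (h : Mor F ⊤ σ) (e : ∀ g, σ g = s * d a b g * s⁻¹) : Mor F ⊤ (d a b) :=
  (h.comp (mor_conj F le_rfl (mem_top s⁻¹)) fun _ _ => trivial).congr fun g _ => by rw [e]; group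

theorem dmor' (h : Mor F ⊤ (d a b)) (e : ∀ g, σ g = s * d a b g * s⁻¹) : Mor F ⊤ σ :=
  (h.comp (mor_conj F le_rfl (mem_top s)) fun _ _ => trivial).congr fun g _ => (e g).symm

theorem dmul (h : Mor F ⊤ (d a b)) (h' : Mor F ⊤ (d a' b')) : Mor F ⊤ (d (a * a') (b * b')) :=
  (h'.comp h fun _ _ => trivial).congr fun g _ => by ext <;> simp <;> ring

variable [Fintype K] [CharP K 2]

theorem ext (h1 : WA) (hF : HF F) {c : Bool} {g : Au (V3 K)} (hg : g ∈ LL F (crd c)) (h : PD g) :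
    ∃ σ, Mor F ⊤ σ ∧ ∀ v, σ (ii c v) = ii c (g v) :=
  (crd c).extend hF.1 (D_le_EE c) hg (by
    rw [TS_crd]
    exact fun t ht => conj_mem (syl_TB hF.1 c) (TB_le c) hg h ((hF.wh h1 c).2.1 g hg) ht)

theorem del (h1 : WA) (h2 : SP3) (h3 : ∀ l : K, l ≠ 0 → l ^ 3 = 1) (hF : HF F) (hs : Std F) (hl : l ≠ 0) :
    Mor F ⊤ (d l l) := by
  obtain ⟨w1, w2, g, hg, w3⟩ := hF.wh h1 true
  obtain ⟨-, -, -, -, -, k⟩ := h2 K 2 _ _ (Tb true) w1 w2 (fun _ h => h) (fun s => ⟨s, rfl⟩) (fun _ _ => ⟨rfl, rfl⟩)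
    (fun s z => by simp [Tb_apply, bt_zero]) g hg w3
  obtain ⟨h, hh, -, k2, k3⟩ := k l hl
  obtain ⟨σ, hσ, e⟩ := ext h1 hF hh fun y z => by rw [k2, mul_zero]
  obtain ⟨s, a, b, -, -, e'⟩ := hs.2 σ hσ
  have e1 := congrArg U.x ((e' _).symm.trans (e (1, 0, 0)))
  have e2 := congrArg U.y ((e' _).symm.trans (e (0, 1, 0)))
  simp only [ii, iA, mul_x, mul_y, mul_t, inv_x, inv_y, d_t, d_x, d_y, k2, k3] at e1 e2
  obtain rfl : l = b := by linear_combination -e1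
  have e3 : a * l = l⁻¹ := by linear_combination e2
  obtain rfl : a = l := by
    have := h3 l hl
    field_simp at e3
    exact mul_right_cancel₀ (pow_ne_zero 2 hl) (by linear_combination e3 - this)
  exact dmor hσ e'

theorem top (h1 : WA) (h2 : SP3) (h3 : ∀ l : K, l ≠ 0 → l ^ 3 = 1) (hs : Std F) (hF : HF F') (hs' : Std F')
    (hc : Cen F' → Cen F) (hσ : Mor F ⊤ σ) : Mor F' ⊤ σ := by
  obtain ⟨s, a, b, ha, hb, e1⟩ := hs.2 σ hσ
  refine dmor' ?_ e1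
  by_cases h : b = a
  · exact h ▸ del h1 h2 h3 hF hs' hb
  have hn : ¬ Cen F' := fun k => h (mul_left_cancel₀ (pow_ne_zero 2 ha) (by
    have := congrArg U.z (hc k _ (dmor hσ e1) 1)
    simp only [d_z, e_z] at this
    linear_combination this - h3 a ha))
  simp only [Cen, not_forall] at hn
  obtain ⟨σ', hσ', z, hz⟩ := hn
  obtain ⟨s', a', b', ha', hb', e2⟩ := hs'.2 σ' hσ'
  have h' : b' ≠ a' := fun k => hz (by
    rw [e2, show d a' b' (e z) = e z by ext <;> simp [k]; linear_combination z * h3 a' ha', ← e_comm, mul_inv_cancel_right])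
  have m := dmul (del h1 h2 h3 hF hs' (inv_ne_zero ha')) (dmor hσ' e2)
  have rt : ∀ a b : K, a ≠ 0 → b ≠ 0 → b ≠ a → (a⁻¹ * b) ^ 2 + a⁻¹ * b + 1 = 0 := fun a b ha hb h =>
    mul_left_cancel₀ (a := a⁻¹ * b - 1) (fun k => h (by field_simp at k; linear_combination k))
      (by linear_combination h3 _ (mul_ne_zero (inv_ne_zero ha) hb))
  have r1 := rt a b ha hb h
  have r2 := rt a' b' ha' hb' h'
  rw [inv_mul_cancel₀ ha'] at m
  have m' : Mor F' ⊤ (d 1 (a⁻¹ * b)) := by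
    rcases mul_eq_zero.1 (show (a⁻¹ * b - a'⁻¹ * b') * (a⁻¹ * b - a'⁻¹ * b' * (a'⁻¹ * b')) = 0 by
      linear_combination r1 + (a'⁻¹ * b' - a⁻¹ * b - 1) * r2) with k | k <;> rw [sub_eq_zero.1 k]
    exacts [m, by simpa only [one_mul] using dmul m m]
  simpa only [mul_one, mul_inv_cancel_left₀ ha] using dmul (del h1 h2 h3 hF hs' ha) m'

omit [Fintype K] in
theorem n0_apply (c : Bool) (v : V3 K) : (Tb c 1 * ms c 1 * Tb c 1 : Au (V3 K)) v = (v.2.1, v.1, v.2.2) := by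
  have h2 : (2 : K) = 0 := CharTwo.two_eq_zero
  ext <;> simp only [au_mul, Tb_apply, ms_apply, one_mul, bt_add]
  · linear_combination v.1 * h2
  · linear_combination (v.1 + v.2.1) * h2
  · linear_combination (bt c 1 v.1 * 2 + bt c 1 v.2.1) * h2

theorem sub (h1 : WA) (h2 : SP3) (h4 : ESS2) (h3 : ∀ l : K, l ≠ 0 → l ^ 3 = 1) (hF : HF F) (hs : Std F) (hF' : HF F')
    (hs' : Std F') (hc : Cen F' → Cen F) : F ≤ F' := by
  refine alperin_subsystem (pg 2) hF.1 ?_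
  rintro E f (rfl | hE) hf hi
  · exact top h1 h2 h3 hs hF' hs' hc hf
  obtain ⟨c, rfl⟩ : ∃ c, E = EE K c := (h4 K F hF.1 E hE).1.elim (fun h => ⟨true, h⟩) fun h => ⟨false, h⟩
  obtain ⟨g, hg, e⟩ := (crd c).exists_LL hf (img_le_iff.1 hi.le)
  have key : ∀ g ∈ LL F (crd c), PD g → g ∈ LL F' (crd c) := fun g hg h => by
    obtain ⟨σ, hσ, e⟩ := ext h1 hF hg h
    exact ⟨σ, (top h1 h2 h3 hs hF' hs' hc hσ).mono le_top, e⟩
  have tb : ∀ {F : FS K}, HF F → ∀ s, Tb c s ∈ LL F (crd c) := fun h s => (syl_TB h.1 c).le ⟨s, rfl⟩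
  have n0 : ∀ {F : FS K}, HF F → Std F → Tb c 1 * ms c 1 * Tb c 1 ∈ LL F (crd c) := fun h k =>
    mul_mem (mul_mem (tb h 1) (k.1 c 1)) (tb h 1)
  have hg' : g ∈ LL F' (crd c) := by
    by_cases h : PD g
    · exact key g hg h
    obtain ⟨w1, w2, -⟩ := hF.wh h1 c
    obtain ⟨φ, k1, -, -, k, -⟩ := h2 K 2 _ _ (Tb c) w1 w2 (fun _ h => h) (fun s => ⟨s, rfl⟩) (fun _ _ => ⟨rfl, rfl⟩)
      (fun s z => by simp [Tb_apply, bt_zero]) _ (n0 hF hs) fun k => by simpa only [n0_apply, one_ne_zero] using k 1 0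
    obtain ⟨s, k⟩ := k g hg h
    simp only [n0_apply] at k1
    have := key _ (mul_mem (mul_mem (n0 hF hs) (tb hF s)) hg) fun y z => by
      rw [au_mul, au_mul, n0_apply, Tb_apply, k, ← k1 _ 0, zero_add, CharTwo.add_self_eq_zero]
    exact (mul_mem_cancel_left (mul_mem (n0 hF' hs') (tb hF' s))).1 this
  obtain ⟨f', hf', e'⟩ := hg'
  refine hf'.congr fun x hx => ?_
  obtain ⟨v, rfl⟩ := ((crd c).mem x).1 hx
  rw [e, e']

end Uniqx

theorem uniq (h1 : WA) (h2 : SP3) (h3 : ESS2) : UNIQ := fun _ _ _ _ h _ _ hF hs hF' hs' hc =>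
  fusionSystem_le_antisymm (Uniqx.sub h1 h2 h3 h hF hs hF' hs' hc.2) (Uniqx.sub h1 h2 h3 h hF' hs' hF hs hc.1)

end CL.SpF
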